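import Mathlib
import Cfsg.Prelude.Def_LieExceptional

/-!
# Basic theory of (B,N)-pairs (Tits systems), at the level of representatives in `N`.
-/

set_option autoImplicit false

namespace Cfsg.Agent.Lib.Helper3.BN

open DoubleCoset

variable {G : Type*} [Group G] (P : Cfsg.BNPair G)

/-- The double coset `B n B`. -/
abbrev C (n : G) : Set G := doubleCoset n (P.B : Set G) P.B

/-- Equality modulo `B` on the right (for elements of `N`: equality in the Weyl group). -/
def Rel (n n' : G) : Prop := n⁻¹ * n' ∈ P.B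

variable {P}

theorem mem_C {g n : G} : g ∈ C P n ↔ ∃ b ∈ P.B, ∃ b' ∈ P.B, g = b * n * b' := mem_doubleCoset

theorem self_mem_C (n : G) : n ∈ C P n := mem_doubleCoset_self _ _ _

theorem C_eq_of_mem {g n : G} (h : g ∈ C P n) : C P g = C P n := doubleCoset_eq_of_mem h

theorem C_eq_of_mem_mem {g n n' : G} (h : g ∈ C P n) (h' : g ∈ C P n') : C P n = C P n' :=
  (C_eq_of_mem h).symm.trans (C_eq_of_mem h')

theorem mul_mem_C {g n b b' : G} (hb : b ∈ P.B) (hb' : b' ∈ P.B) (h : g ∈ C P n) :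
    b * g * b' ∈ C P n := by
  obtain ⟨x, hx, y, hy, rfl⟩ := mem_C.1 h
  exact mem_C.2 ⟨b * x, mul_mem hb hx, y * b', mul_mem hy hb', by simp only [mul_assoc]⟩

theorem mul_left_mem_C {g n b : G} (hb : b ∈ P.B) (h : g ∈ C P n) : b * g ∈ C P n := by
  simpa using mul_mem_C hb (one_mem _) h

theorem mul_right_mem_C {g n b : G} (hb : b ∈ P.B) (h : g ∈ C P n) : g * b ∈ C P n := by
  simpa using mul_mem_C (one_mem _) hb h

theorem C_eq_of_rel {n n' : G} (h : Rel P n n') : C P n = C P n' := by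
  symm
  apply C_eq_of_mem
  exact mem_C.2 ⟨1, one_mem _, n⁻¹ * n', h, by simp⟩

theorem inv_mem_C {g n : G} (h : g ∈ C P n) : g⁻¹ ∈ C P n⁻¹ := by
  obtain ⟨x, hx, y, hy, rfl⟩ := mem_C.1 h
  exact mem_C.2 ⟨y⁻¹, inv_mem hy, x⁻¹, inv_mem hx, by simp only [mul_inv_rev, mul_assoc]⟩

theorem mem_C_of_mem_B {g n : G} (hn : n ∈ P.B) : g ∈ C P n ↔ g ∈ P.B := by
  constructor
  · intro h
    obtain ⟨x, hx, y, hy, rfl⟩ := mem_C.1 h
    exact mul_mem (mul_mem hx hn) hy
  · intro h
    exact mem_C.2 ⟨g * n⁻¹, mul_mem h (inv_mem hn), 1, one_mem _, by simp⟩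

theorem Rel.refl (n : G) : Rel P n n := by simp [Rel, one_mem]

theorem Rel.symm {n n' : G} (h : Rel P n n') : Rel P n' n := by
  have := inv_mem h
  simpa [Rel] using this

theorem Rel.trans {a b c : G} (h : Rel P a b) (h' : Rel P b c) : Rel P a c := by
  have := mul_mem h h'
  simpa [Rel, mul_assoc] using this

theorem Rel.mul_left {n n' : G} (g : G) (h : Rel P n n') : Rel P (g * n) (g * n') := by
  simpa [Rel, mul_assoc] using h

theorem conj_mem₁ {n t : G} (hn : n ∈ P.N) (ht : t ∈ P.B) (ht' : t ∈ P.N) : n * t * n⁻¹ ∈ P.B :=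
  P.conj_mem n hn t ⟨ht, ht'⟩

theorem conj_mem₂ {n t : G} (hn : n ∈ P.N) (ht : t ∈ P.B) (ht' : t ∈ P.N) : n⁻¹ * t * n ∈ P.B := by
  simpa using P.conj_mem n⁻¹ (inv_mem hn) t ⟨ht, ht'⟩

theorem Rel.mul_right {n n' m : G} (hn : n ∈ P.N) (hn' : n' ∈ P.N) (hm : m ∈ P.N)
    (h : Rel P n n') : Rel P (n * m) (n' * m) := by
  have := conj_mem₂ hm h (mul_mem (inv_mem hn) hn')
  simpa [Rel, mul_assoc] using this

theorem S_mem_N {s : G} (hs : s ∈ P.S) : s ∈ P.N := P.subset hs

theorem rel_ss_mul {s n : G} (hs : s ∈ P.S) (hn : n ∈ P.N) : Rel P (s * (s * n)) n := by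
  have h1 : (s * s)⁻¹ ∈ P.B := inv_mem (P.sq_mem s hs)
  have h2 : (s * s)⁻¹ ∈ P.N := inv_mem (mul_mem (S_mem_N hs) (S_mem_N hs))
  have := conj_mem₂ hn h1 h2
  simpa [Rel, mul_assoc] using this

theorem rel_mul_ss {s n : G} (hs : s ∈ P.S) : Rel P (n * s * s) n := by
  have h1 : (s * s)⁻¹ ∈ P.B := inv_mem (P.sq_mem s hs)
  simpa [Rel, mul_assoc] using h1

theorem rel_inv_mul {s n : G} (hs : s ∈ P.S) (hn : n ∈ P.N) : Rel P (s⁻¹ * n) (s * n) := by
  have := (rel_ss_mul hs hn).symm.mul_left s⁻¹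
  simpa [mul_assoc] using this

theorem rel_mul_inv {s n : G} (hs : s ∈ P.S) : Rel P (n * s⁻¹) (n * s) := by
  have h1 : (s * s) ∈ P.B := (P.sq_mem s hs)
  simpa [Rel, mul_assoc] using h1

/-- `s ∉ B` for a distinguished generator. -/
theorem S_not_mem_B {s : G} (hs : s ∈ P.S) : s ∉ P.B := by
  intro h
  apply P.conj_ne s hs
  ext x
  constructor
  · rintro ⟨b, hb, rfl⟩
    exact mul_mem (mul_mem h hb) h
  · intro hx
    exact ⟨s⁻¹ * x * s⁻¹, mul_mem (mul_mem (inv_mem h) hx) (inv_mem h), by simp [mul_assoc]⟩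

/-- There is `b ∈ B` with `s b s ∉ B`. -/
theorem exists_sbs_not_mem {s : G} (hs : s ∈ P.S) : ∃ b ∈ P.B, s * b * s ∉ P.B := by
  by_contra hcon
  push Not at hcon
  apply P.conj_ne s hs
  ext x
  constructor
  · rintro ⟨b, hb, rfl⟩
    exact hcon b hb
  · intro hx
    have ht : (s * s)⁻¹ ∈ P.B := inv_mem (P.sq_mem s hs)
    refine ⟨s⁻¹ * x * s⁻¹, ?_, by simp [mul_assoc]⟩
    have h1 : s⁻¹ * x * s⁻¹ = (s * s)⁻¹ * (s * x * s) * (s * s)⁻¹ := by
      simp [mul_assoc]
    rw [h1]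
    exact mul_mem (mul_mem ht (hcon x hx)) ht

/-- left multiplication by `s`. -/
theorem left_mul {s n g : G} (hs : s ∈ P.S) (hn : n ∈ P.N) (h : g ∈ C P n) :
    s * g ∈ C P (s * n) ∪ C P n := by
  obtain ⟨x, hx, y, hy, rfl⟩ := mem_C.1 h
  have := P.mul_mem_union s hs n hn x hx
  have e : s * (x * n * y) = (s * x * n) * y := by simp only [mul_assoc]
  rw [e]
  rcases this with h1 | h1
  · exact Or.inl (mul_right_mem_C hy h1)
  · exact Or.inr (mul_right_mem_C hy h1)

theorem left_mul_inv {s n g : G} (hs : s ∈ P.S) (hn : n ∈ P.N) (h : g ∈ C P n) :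
    s⁻¹ * g ∈ C P (s * n) ∪ C P n := by
  have ht : (s * s)⁻¹ ∈ P.B := inv_mem (P.sq_mem s hs)
  have e : s⁻¹ * g = s * ((s * s)⁻¹ * g) := by simp [mul_assoc]
  rw [e]
  exact left_mul hs hn (mul_left_mem_C ht h)

theorem right_mul {s n g : G} (hs : s ∈ P.S) (hn : n ∈ P.N) (h : g ∈ C P n) :
    g * s ∈ C P (n * s) ∪ C P n := by
  have h1 := left_mul_inv hs (inv_mem hn) (inv_mem_C h)
  rcases h1 with h1 | h1
  · left
    have h2 := inv_mem_C h1
    simp only [mul_inv_rev, inv_inv] at h2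
    rwa [C_eq_of_rel (rel_mul_inv hs)] at h2
  · right
    have h2 := inv_mem_C h1
    simpa only [mul_inv_rev, inv_inv] using h2

theorem right_mul_inv {s n g : G} (hs : s ∈ P.S) (hn : n ∈ P.N) (h : g ∈ C P n) :
    g * s⁻¹ ∈ C P (n * s) ∪ C P n := by
  have ht : (s * s)⁻¹ ∈ P.B := inv_mem (P.sq_mem s hs)
  have e : g * s⁻¹ = (g * (s * s)⁻¹) * s := by simp [mul_assoc]
  rw [e]
  exact right_mul hs hn (mul_right_mem_C ht h)

/-- General principle: a set containing `1`... membership in `B ⊔ closure J` by left induction. -/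
theorem sup_closure_induction_left {J : Set G} {p : G → Prop} (one : p 1)
    (hB : ∀ b ∈ P.B, ∀ y, p y → p (b * y))
    (hJ : ∀ s ∈ J, ∀ y, p y → p (s * y)) (hJ' : ∀ s ∈ J, ∀ y, p y → p (s⁻¹ * y))
    {g : G} (hg : g ∈ P.B ⊔ Subgroup.closure J) : p g := by
  have h1 : P.B ⊔ Subgroup.closure J = Subgroup.closure ((P.B : Set G) ∪ J) := by
    rw [Subgroup.closure_union, Subgroup.closure_eq]
  rw [h1] at hg
  induction hg using Subgroup.closure_induction_left with
  | one => exact one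
  | mul_left x hx y _ ih =>
    rcases hx with hx | hx
    · exact hB x hx y ih
    · exact hJ x hx y ih
  | inv_mul_cancel x hx y _ ih =>
    rcases hx with hx | hx
    · exact hB x⁻¹ (inv_mem hx) y ih
    · exact hJ' x hx y ih

/-- The parabolic `P_J` is `B W_J B`. -/
theorem mem_parabolic_iff {J : Set G} (hJ : J ⊆ P.S) (g : G) :
    g ∈ P.parabolic J ↔ ∃ n ∈ Subgroup.closure J, g ∈ C P n := by
  have hJN : Subgroup.closure J ≤ P.N := (Subgroup.closure_le _).2 (hJ.trans P.subset)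
  constructor
  · intro hg
    refine sup_closure_induction_left (P := P) (J := J)
      (p := fun g => ∃ n ∈ Subgroup.closure J, g ∈ C P n) ?_ ?_ ?_ ?_ hg
    · exact ⟨1, one_mem _, self_mem_C 1⟩
    · rintro b hb y ⟨n, hn, hy⟩
      exact ⟨n, hn, mul_left_mem_C hb hy⟩
    · rintro s hs y ⟨n, hn, hy⟩
      rcases left_mul (hJ hs) (hJN hn) hy with h | h
      · exact ⟨s * n, mul_mem (Subgroup.subset_closure hs) hn, h⟩
      · exact ⟨n, hn, h⟩
    · rintro s hs y ⟨n, hn, hy⟩
      rcases left_mul_inv (hJ hs) (hJN hn) hy with h | h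
      · exact ⟨s * n, mul_mem (Subgroup.subset_closure hs) hn, h⟩
      · exact ⟨n, hn, h⟩
  · rintro ⟨n, hn, hg⟩
    obtain ⟨x, hx, y, hy, rfl⟩ := mem_C.1 hg
    have hB : P.B ≤ P.parabolic J := le_sup_left
    have hC : Subgroup.closure J ≤ P.parabolic J := le_sup_right
    exact mul_mem (mul_mem (hB hx) (hC hn)) (hB hy)

theorem B_le_parabolic (J : Set G) : P.B ≤ P.parabolic J := le_sup_left

theorem closure_le_parabolic (J : Set G) : Subgroup.closure J ≤ P.parabolic J := le_sup_right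

theorem parabolic_S : P.parabolic P.S = ⊤ := by
  rw [eq_top_iff, ← P.sup_eq_top, sup_le_iff]
  refine ⟨B_le_parabolic _, ?_⟩
  rw [← P.closure_sup, sup_le_iff]
  exact ⟨closure_le_parabolic _, inf_le_left.trans (B_le_parabolic _)⟩

/-- Bruhat decomposition, existence. -/
theorem bruhat (g : G) : ∃ n ∈ P.N, g ∈ C P n := by
  have hg : g ∈ P.parabolic P.S := by rw [parabolic_S]; trivial
  obtain ⟨n, hn, h⟩ := (mem_parabolic_iff (le_refl _) g).1 hg
  exact ⟨n, (Subgroup.closure_le _).2 P.subset hn, h⟩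


/-! ### Words and length -/

variable (P) in
/-- `w` is a word in the letters `K` representing `n` modulo `B`. -/
def Rep (K : Set G) (w : List G) (n : G) : Prop := (∀ s ∈ w, s ∈ K) ∧ Rel P w.prod n

theorem prod_mem_closure {K : Set G} {w : List G} (hw : ∀ s ∈ w, s ∈ K) :
    w.prod ∈ Subgroup.closure K :=
  list_prod_mem (fun s hs => Subgroup.subset_closure (hw s hs))

theorem prod_mem_N {w : List G} (hw : ∀ s ∈ w, s ∈ P.S) : w.prod ∈ P.N :=
  list_prod_mem (fun s hs => P.subset (hw s hs))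

theorem Rep.mono {K K' : Set G} (h : K ⊆ K') {w : List G} {n : G} (hr : Rep P K w n) :
    Rep P K' w n := ⟨fun s hs => h (hr.1 s hs), hr.2⟩

theorem Rep.self {K : Set G} {w : List G} (hw : ∀ s ∈ w, s ∈ K) : Rep P K w w.prod :=
  ⟨hw, Rel.refl _⟩

theorem Rep.of_rel {K : Set G} {w : List G} {n n' : G} (hr : Rep P K w n) (h : Rel P n n') :
    Rep P K w n' := ⟨hr.1, hr.2.trans h⟩

theorem Rep.cons {K : Set G} {w : List G} {n s : G} (hs : s ∈ K) (hr : Rep P K w n) :
    Rep P K (s :: w) (s * n) := by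
  refine ⟨?_, ?_⟩
  · intro x hx
    rcases List.mem_cons.1 hx with rfl | hx
    · exact hs
    · exact hr.1 x hx
  · rw [List.prod_cons]
    exact hr.2.mul_left s

theorem Rep.mem_N {K : Set G} (hK : K ⊆ P.S) {w : List G} {n : G} (_hr : Rep P K w n) :
    w.prod ∈ P.N := prod_mem_N (fun s hs => hK (_hr.1 s hs))

theorem Rep.snoc {K : Set G} (hK : K ⊆ P.S) {w : List G} {n s : G} (hs : s ∈ K) (hn : n ∈ P.N)
    (hr : Rep P K w n) : Rep P K (w ++ [s]) (n * s) := by
  refine ⟨?_, ?_⟩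
  · intro x hx
    rcases List.mem_append.1 hx with hx | hx
    · exact hr.1 x hx
    · rw [List.mem_singleton] at hx; rw [hx]; exact hs
  · rw [List.prod_append, List.prod_singleton]
    exact hr.2.mul_right (hr.mem_N hK) hn (S_mem_N (hK hs))

/-- every element of `closure K` is represented by a `K`-word. -/
theorem exists_rep_of_mem_closure {K : Set G} (hK : K ⊆ P.S) {n : G}
    (hn : n ∈ Subgroup.closure K) : ∃ w, Rep P K w n := by
  have hKN : Subgroup.closure K ≤ P.N := (Subgroup.closure_le _).2 (hK.trans P.subset)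
  induction hn using Subgroup.closure_induction_left with
  | one => exact ⟨[], by simp, by simp [Rel.refl]⟩
  | mul_left x hx y hy ih =>
    obtain ⟨w, hw⟩ := ih
    exact ⟨x :: w, hw.cons hx⟩
  | inv_mul_cancel x hx y hy ih =>
    obtain ⟨w, hw⟩ := ih
    exact ⟨x :: w, (hw.cons hx).of_rel (rel_inv_mul (hK hx) (hKN hy)).symm⟩

theorem rel_T_mul {t n : G} (ht : t ∈ P.B) (ht' : t ∈ P.N) (hn : n ∈ P.N) : Rel P n (t * n) := by
  have := conj_mem₂ hn ht ht'
  simpa [Rel, mul_assoc] using this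

/-- every element of `N` is represented by an `S`-word. -/
theorem exists_rep {n : G} (hn : n ∈ P.N) : ∃ w, Rep P P.S w n := by
  have h1 : P.N = Subgroup.closure (P.S ∪ ((P.B ⊓ P.N : Subgroup G) : Set G)) := by
    rw [Subgroup.closure_union, Subgroup.closure_eq, P.closure_sup]
  have hn' := hn
  rw [h1] at hn'
  induction hn' using Subgroup.closure_induction_left with
  | one => exact ⟨[], by simp, by simp [Rel.refl]⟩
  | mul_left x hx y hy ih =>
    rw [← h1] at hy
    obtain ⟨w, hw⟩ := ih hy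
    rcases hx with hx | hx
    · exact ⟨x :: w, hw.cons hx⟩
    · exact ⟨w, hw.of_rel (rel_T_mul hx.1 hx.2 hy)⟩
  | inv_mul_cancel x hx y hy ih =>
    rw [← h1] at hy
    obtain ⟨w, hw⟩ := ih hy
    rcases hx with hx | hx
    · exact ⟨x :: w, (hw.cons hx).of_rel (rel_inv_mul hx hy).symm⟩
    · exact ⟨w, hw.of_rel (rel_T_mul (inv_mem hx.1) (inv_mem hx.2) hy)⟩

open Classical in
variable (P) in
/-- The length of `n ∈ N` (with respect to the distinguished generators, modulo `B ⊓ N`). -/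
noncomputable def len (n : G) : ℕ :=
  if h : ∃ k, ∃ w, Rep P P.S w n ∧ w.length = k then Nat.find h else 0

theorem exists_rep_len {n : G} (hn : n ∈ P.N) : ∃ w, Rep P P.S w n ∧ w.length = len P n := by
  classical
  have h : ∃ k, ∃ w, Rep P P.S w n ∧ w.length = k := by
    obtain ⟨w, hw⟩ := exists_rep hn
    exact ⟨_, w, hw, rfl⟩
  rw [len, dif_pos h]
  exact Nat.find_spec h

theorem len_le {n : G} {w : List G} (hw : Rep P P.S w n) : len P n ≤ w.length := by
  classical
  have h : ∃ k, ∃ w, Rep P P.S w n ∧ w.length = k := ⟨_, w, hw, rfl⟩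
  rw [len, dif_pos h]
  exact Nat.find_min' h ⟨w, hw, rfl⟩

theorem len_eq_of_rel {n n' : G} (hn : n ∈ P.N) (hn' : n' ∈ P.N) (h : Rel P n n') :
    len P n = len P n' := by
  apply le_antisymm
  · obtain ⟨w, hw, hl⟩ := exists_rep_len hn'
    rw [← hl]; exact len_le (hw.of_rel h.symm)
  · obtain ⟨w, hw, hl⟩ := exists_rep_len hn
    rw [← hl]; exact len_le (hw.of_rel h)

theorem len_eq_zero_iff {n : G} (hn : n ∈ P.N) : len P n = 0 ↔ n ∈ P.B := by
  constructor
  · intro h
    obtain ⟨w, hw, hl⟩ := exists_rep_len hn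
    rw [h, List.length_eq_zero_iff] at hl
    subst hl
    simpa [Rel] using hw.2
  · intro h
    have : Rep P P.S [] n := ⟨by simp, by simpa [Rel] using h⟩
    simpa using len_le this

theorem len_s_mul_le {s n : G} (hs : s ∈ P.S) (hn : n ∈ P.N) : len P (s * n) ≤ len P n + 1 := by
  obtain ⟨w, hw, hl⟩ := exists_rep_len hn
  rw [← hl]
  exact len_le (hw.cons hs)

theorem len_le_s_mul {s n : G} (hs : s ∈ P.S) (hn : n ∈ P.N) : len P n ≤ len P (s * n) + 1 := by
  have h1 := len_s_mul_le hs (mul_mem (S_mem_N hs) hn)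
  rwa [len_eq_of_rel (mul_mem (S_mem_N hs) (mul_mem (S_mem_N hs) hn)) hn (rel_ss_mul hs hn)] at h1

theorem len_mul_s_le {s n : G} (hs : s ∈ P.S) (hn : n ∈ P.N) : len P (n * s) ≤ len P n + 1 := by
  obtain ⟨w, hw, hl⟩ := exists_rep_len hn
  rw [← hl]
  have := len_le (hw.snoc (le_refl _) hs hn)
  simpa using this

theorem len_le_mul_s {s n : G} (hs : s ∈ P.S) (hn : n ∈ P.N) : len P n ≤ len P (n * s) + 1 := by
  have h1 := len_mul_s_le hs (mul_mem hn (S_mem_N hs))
  rwa [len_eq_of_rel (mul_mem (mul_mem hn (S_mem_N hs)) (S_mem_N hs)) hn (rel_mul_ss hs)] at h1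

theorem len_S {s : G} (hs : s ∈ P.S) : len P s = 1 := by
  apply le_antisymm
  · have : Rep P P.S [s] s := ⟨by simpa using hs, by simp [Rel.refl]⟩
    simpa using len_le this
  · rw [Nat.one_le_iff_ne_zero, Ne, len_eq_zero_iff (S_mem_N hs)]
    exact S_not_mem_B hs

/-- Bruhat decomposition, uniqueness (auxiliary form). -/
theorem rel_of_C_eq_aux (k : ℕ) : ∀ n ∈ P.N, ∀ n' ∈ P.N, len P n ≤ k → len P n ≤ len P n' →
    C P n = C P n' → Rel P n n' := by
  induction k with
  | zero =>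
    intro n hn n' hn' h0 _ hC
    have hnB : n ∈ P.B := (len_eq_zero_iff hn).1 (Nat.le_zero.1 h0)
    have : n' ∈ C P n := hC ▸ self_mem_C n'
    rw [mem_C_of_mem_B hnB] at this
    exact mul_mem (inv_mem hnB) this
  | succ k ih =>
    intro n hn n' hn' hk hle hC
    rcases Nat.lt_or_ge (len P n) (k + 1) with hlt | hge
    · exact ih n hn n' hn' (Nat.lt_succ_iff.1 hlt) hle hC
    have hlen : len P n = k + 1 := le_antisymm hk hge
    obtain ⟨w, hw, hl⟩ := exists_rep_len hn
    rw [hlen] at hl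
    obtain ⟨s, w', rfl⟩ : ∃ s w', w = s :: w' := by
      cases w with
      | nil => simp at hl
      | cons s w' => exact ⟨s, w', rfl⟩
    have hs : s ∈ P.S := hw.1 s (by simp)
    have hw' : ∀ x ∈ w', x ∈ P.S := fun x hx => hw.1 x (by simp [hx])
    set n1 := w'.prod with hn1
    have hn1N : n1 ∈ P.N := prod_mem_N hw'
    have hrel : Rel P (s * n1) n := by simpa using hw.2
    have hlen1 : len P n1 ≤ k := by
      have : len P n1 ≤ w'.length := len_le (Rep.self (P := P) hw')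
      simp only [List.length_cons, Nat.add_right_cancel_iff] at hl
      omega
    have hmem : s * n1 ∈ C P n' := by
      rw [← hC, ← C_eq_of_rel hrel]; exact self_mem_C _
    have h2 := left_mul_inv hs hn' hmem
    rw [inv_mul_cancel_left] at h2
    rcases h2 with h2 | h2
    · -- n1 ∈ C (s n')
      have hsn' : s * n' ∈ P.N := mul_mem (S_mem_N hs) hn'
      have h3 : Rel P n1 (s * n') := by
        apply ih n1 hn1N (s * n') hsn' hlen1 _ (C_eq_of_mem h2)
        have := len_le_s_mul hs hn'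
        omega
      have h4 : Rel P (s * n1) (s * (s * n')) := h3.mul_left s
      exact hrel.symm.trans (h4.trans (rel_ss_mul hs hn'))
    · -- n1 ∈ C n'
      exfalso
      have h3 : Rel P n1 n' := ih n1 hn1N n' hn' hlen1 (by omega) (C_eq_of_mem h2)
      have := len_eq_of_rel hn1N hn' h3
      omega

/-- Bruhat decomposition, uniqueness. -/
theorem rel_of_C_eq {n n' : G} (hn : n ∈ P.N) (hn' : n' ∈ P.N) (h : C P n = C P n') :
    Rel P n n' := by
  rcases le_total (len P n) (len P n') with hle | hle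
  · exact rel_of_C_eq_aux _ n hn n' hn' le_rfl hle h
  · exact (rel_of_C_eq_aux _ n' hn' n hn le_rfl hle h.symm).symm

theorem C_eq_iff {n n' : G} (hn : n ∈ P.N) (hn' : n' ∈ P.N) : C P n = C P n' ↔ Rel P n n' :=
  ⟨rel_of_C_eq hn hn', C_eq_of_rel⟩

theorem not_rel_s_mul {s n : G} (hs : s ∈ P.S) (hn : n ∈ P.N) : ¬ Rel P (s * n) n := by
  intro h
  have h1 : n⁻¹ * s⁻¹ * n ∈ P.B := by simpa [Rel, mul_assoc] using h
  have h2 : n⁻¹ * s⁻¹ * n ∈ P.N := mul_mem (mul_mem (inv_mem hn) (inv_mem (S_mem_N hs))) hn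
  have h3 := conj_mem₁ hn h1 h2
  have h4 : s⁻¹ ∈ P.B := by simpa [mul_assoc] using h3
  exact S_not_mem_B hs (by simpa using inv_mem h4)


/-- If `ℓ(n) ≤ ℓ(sn)` then `s B n ⊆ B s n B` (auxiliary form). -/
theorem sBn_subset_aux (k : ℕ) : ∀ s ∈ P.S, ∀ n ∈ P.N, len P n ≤ k → len P n ≤ len P (s * n) →
    ∀ b ∈ P.B, s * b * n ∈ C P (s * n) := by
  induction k with
  | zero =>
    intro s hs n hn h0 _ b hb
    have hnB : n ∈ P.B := (len_eq_zero_iff hn).1 (Nat.le_zero.1 h0)
    exact mem_C.2 ⟨1, one_mem _, n⁻¹ * b * n, mul_mem (mul_mem (inv_mem hnB) hb) hnB,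
      by simp [mul_assoc]⟩
  | succ k ih =>
    intro s hs n hn hk hle b hb
    rcases Nat.lt_or_ge (len P n) (k + 1) with hlt | hge
    · exact ih s hs n hn (Nat.lt_succ_iff.1 hlt) hle b hb
    have hlen : len P n = k + 1 := le_antisymm hk hge
    obtain ⟨w, hw, hl⟩ := exists_rep_len hn
    rw [hlen] at hl
    obtain ⟨w', s', rfl⟩ : ∃ w' s', w = w' ++ [s'] := by
      rcases List.eq_nil_or_concat' w with rfl | h
      · simp at hl
      · exact h
    have hs' : s' ∈ P.S := hw.1 s' (by simp)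
    have hw' : ∀ x ∈ w', x ∈ P.S := fun x hx => hw.1 x (by simp [hx])
    set n1 := w'.prod with hn1
    have hn1N : n1 ∈ P.N := prod_mem_N hw'
    have hsN := S_mem_N hs
    have hs'N := S_mem_N hs'
    have hrel : Rel P (n1 * s') n := by simpa using hw.2
    have hlen1 : len P n1 ≤ k := by
      have : len P n1 ≤ w'.length := len_le (Rep.self (P := P) hw')
      simp only [List.length_append, List.length_cons, List.length_nil, zero_add,
        Nat.add_right_cancel_iff] at hl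
      omega
    by_contra hcon
    have hmem : s * b * n ∈ C P n := by
      rcases P.mul_mem_union s hs n hn b hb with h | h
      · exact absurd h hcon
      · exact h
    -- s b n1 = (s b n) t⁻¹ s'⁻¹
    have ht : (n⁻¹ * (n1 * s')) ∈ P.B := hrel.symm
    have e : s * b * n1 = (s * b * n) * (n⁻¹ * (n1 * s')) * s'⁻¹ := by simp [mul_assoc]
    have h2 := right_mul_inv hs' hn (mul_right_mem_C ht hmem)
    rw [← e] at h2
    have hrel2 : Rel P (n * s') n1 :=
      ((hrel.mul_right (mul_mem hn1N hs'N) hn hs'N).symm).trans (rel_mul_ss hs')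
    rw [C_eq_of_rel hrel2] at h2
    have hle1 : len P n1 ≤ len P (s * n1) := by
      by_contra hlt
      push Not at hlt
      have h3 : len P (s * n) = len P (s * n1 * s') := by
        apply len_eq_of_rel (mul_mem hsN hn) (mul_mem (mul_mem hsN hn1N) hs'N)
        rw [mul_assoc]
        exact (hrel.mul_left s).symm
      have h4 := len_mul_s_le hs' (mul_mem hsN hn1N)
      omega
    have h5 := ih s hs n1 hn1N hlen1 hle1 b hb
    rcases h2 with h2 | h2
    · exact not_rel_s_mul hs hn1N (rel_of_C_eq (mul_mem hsN hn1N) hn1N (C_eq_of_mem_mem h5 h2))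
    · have h6 : Rel P (s * n1) n := rel_of_C_eq (mul_mem hsN hn1N) hn (C_eq_of_mem_mem h5 h2)
      have h7 : Rel P n1 (s * n) := (rel_ss_mul hs hn1N).symm.trans (h6.mul_left s)
      have := len_eq_of_rel hn1N (mul_mem hsN hn) h7
      omega

/-- If `ℓ(n) ≤ ℓ(sn)` then `s B n ⊆ B s n B`. -/
theorem sBn_subset {s n b : G} (hs : s ∈ P.S) (hn : n ∈ P.N) (hle : len P n ≤ len P (s * n))
    (hb : b ∈ P.B) : s * b * n ∈ C P (s * n) :=
  sBn_subset_aux _ s hs n hn le_rfl hle b hb

/-- If `ℓ(sn) ≤ ℓ(n)` then `s B n` meets `B n B`. -/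
theorem exists_sbn_mem {s n : G} (hs : s ∈ P.S) (hn : n ∈ P.N) (hle : len P (s * n) ≤ len P n) :
    ∃ b ∈ P.B, s * b * n ∈ C P n := by
  obtain ⟨b0, hb0, hb0'⟩ := exists_sbs_not_mem hs
  have hsN := S_mem_N hs
  have h1 : s * b0 * s ∈ C P s := by
    rcases P.mul_mem_union s hs s hsN b0 hb0 with h | h
    · exact absurd ((mem_C_of_mem_B (P.sq_mem s hs)).1 h) hb0'
    · exact h
  obtain ⟨b1, hb1, b2, hb2, h2⟩ := mem_C.1 h1
  refine ⟨b0, hb0, ?_⟩
  have hsn : s * n ∈ P.N := mul_mem hsN hn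
  have hrel : Rel P (s * (s * n)) n := rel_ss_mul hs hn
  have h3 : s * b2 * (s * n) ∈ C P (s * (s * n)) := by
    apply sBn_subset hs hsn _ hb2
    rw [len_eq_of_rel (mul_mem hsN hsn) hn hrel]
    exact hle
  rw [C_eq_of_rel hrel] at h3
  -- s b0 n = b1 (s b2 (s n)) t'
  have ht : (s * (s * n))⁻¹ * n ∈ P.B := hrel
  have e : s * b0 * n = b1 * (s * b2 * (s * n)) * ((s * (s * n))⁻¹ * n) := by
    have : s * b0 = b1 * s * b2 * s⁻¹ := by rw [← h2]; simp
    rw [this]; simp [mul_assoc]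
  rw [e]
  exact mul_mem_C hb1 ht h3

theorem len_s_mul_ne {s n : G} (hs : s ∈ P.S) (hn : n ∈ P.N) : len P (s * n) ≠ len P n := by
  intro h
  obtain ⟨b, hb, h1⟩ := exists_sbn_mem hs hn h.le
  have h2 := sBn_subset hs hn h.ge hb
  exact not_rel_s_mul hs hn (rel_of_C_eq (mul_mem (S_mem_N hs) hn) hn (C_eq_of_mem_mem h2 h1))

/-- The exchange step. -/
theorem rel_of_len_lt {s s' n : G} (hs : s ∈ P.S) (hs' : s' ∈ P.S) (hn : n ∈ P.N)
    (h1 : len P n ≤ len P (s * n)) (h2 : len P (s * (n * s')) ≤ len P (n * s')) :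
    Rel P (s * n) (n * s') := by
  have hsN := S_mem_N hs
  have hs'N := S_mem_N hs'
  obtain ⟨b, hb, h3⟩ := exists_sbn_mem hs (mul_mem hn hs'N) h2
  have h4 := right_mul_inv hs' (mul_mem hn hs'N) h3
  have e : s * b * (n * s') * s'⁻¹ = s * b * n := by simp [mul_assoc]
  rw [e, C_eq_of_rel (rel_mul_ss hs')] at h4
  have h5 := sBn_subset hs hn h1 hb
  rcases h4 with h4 | h4
  · exact absurd (rel_of_C_eq (mul_mem hsN hn) hn (C_eq_of_mem_mem h5 h4)) (not_rel_s_mul hs hn)
  · exact rel_of_C_eq (mul_mem hsN hn) (mul_mem hn hs'N) (C_eq_of_mem_mem h5 h4)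

/-- The exchange condition for words. -/
theorem exchange {s : G} (hs : s ∈ P.S) (w : List G) (hw : ∀ x ∈ w, x ∈ P.S)
    (h : len P (s * w.prod) ≤ len P w.prod) :
    ∃ w1 s' w2, w = w1 ++ s' :: w2 ∧ Rel P (s * w1.prod) (w1.prod * s') := by
  induction w using List.reverseRecOn with
  | nil =>
    exfalso
    simp only [List.prod_nil, mul_one] at h
    rw [len_S hs, (len_eq_zero_iff (one_mem _)).2 (one_mem _)] at h
    omega
  | append_singleton w0 s' ih =>
    have hs' : s' ∈ P.S := hw s' (by simp)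
    have hw0 : ∀ x ∈ w0, x ∈ P.S := fun x hx => hw x (by simp [hx])
    rcases le_total (len P (s * w0.prod)) (len P w0.prod) with hle | hle
    · obtain ⟨w1, s'', w2, rfl, hr⟩ := ih hw0 hle
      exact ⟨w1, s'', w2 ++ [s'], by simp, hr⟩
    · refine ⟨w0, s', [], rfl, ?_⟩
      apply rel_of_len_lt hs hs' (prod_mem_N hw0) hle
      simpa using h

/-- Consequence of exchange: `s w ≡ w` with one letter deleted. -/
theorem exchange' {s : G} (hs : s ∈ P.S) (w : List G) (hw : ∀ x ∈ w, x ∈ P.S)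
    (h : len P (s * w.prod) ≤ len P w.prod) :
    ∃ w1 s' w2, w = w1 ++ s' :: w2 ∧ Rel P (s * w.prod) (w1 ++ w2).prod := by
  obtain ⟨w1, s', w2, rfl, hr⟩ := exchange hs w hw h
  refine ⟨w1, s', w2, rfl, ?_⟩
  have hs' : s' ∈ P.S := hw s' (by simp)
  have hw1 : ∀ x ∈ w1, x ∈ P.S := fun x hx => hw x (by simp [hx])
  have hw2 : ∀ x ∈ w2, x ∈ P.S := fun x hx => hw x (by simp [hx])
  have hsN := S_mem_N hs
  have hs'N := S_mem_N hs'
  have h1N := prod_mem_N hw1
  have h2N := prod_mem_N hw2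
  simp only [List.prod_append, List.prod_cons]
  have h3 : Rel P (s * w1.prod * (s' * w2.prod)) (w1.prod * s' * (s' * w2.prod)) :=
    hr.mul_right (mul_mem hsN h1N) (mul_mem h1N hs'N) (mul_mem hs'N h2N)
  have h4 : Rel P (w1.prod * s' * (s' * w2.prod)) (w1.prod * w2.prod) := by
    rw [mul_assoc]
    exact (rel_ss_mul hs' h2N).mul_left _
  rw [← mul_assoc]
  exact h3.trans h4

/-- Deletion: a `K`-word representing `n` can be shortened to a reduced `K`-word. -/
theorem exists_reduced_rep_aux {K : Set G} (hK : K ⊆ P.S) (k : ℕ) :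
    ∀ (w : List G) (n : G), n ∈ P.N → w.length ≤ k → Rep P K w n →
      ∃ w', Rep P K w' n ∧ w'.length = len P n := by
  induction k with
  | zero =>
    intro w n hn hl hw
    refine ⟨w, hw, ?_⟩
    have := len_le (hw.mono hK)
    omega
  | succ k ih =>
    intro w n hn hl hw
    cases w with
    | nil =>
      refine ⟨[], hw, ?_⟩
      have := len_le (hw.mono hK)
      simpa using this.antisymm (Nat.zero_le _) |>.symm
    | cons s w0 =>
      have hs : s ∈ K := hw.1 s (by simp)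
      have hw0 : ∀ x ∈ w0, x ∈ K := fun x hx => hw.1 x (by simp [hx])
      have hw0S : ∀ x ∈ w0, x ∈ P.S := fun x hx => hK (hw0 x hx)
      have hl0 : w0.length ≤ k := by simpa using hl
      obtain ⟨w1, hw1, hl1⟩ := ih w0 w0.prod (prod_mem_N hw0S) hl0 (Rep.self hw0)
      have hw1S : ∀ x ∈ w1, x ∈ P.S := fun x hx => hK (hw1.1 x hx)
      have hsN := S_mem_N (hK hs)
      have hrel : Rel P (s * w1.prod) n := by
        have := hw.2
        rw [List.prod_cons] at this
        exact (hw1.2.mul_left s).trans this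
      have hlen1 : len P w1.prod = len P w0.prod :=
        len_eq_of_rel (prod_mem_N hw1S) (prod_mem_N hw0S) hw1.2
      rcases le_total (len P (s * w1.prod)) (len P w1.prod) with hle | hle
      · obtain ⟨u1, s', u2, rfl, hr⟩ := exchange' (hK hs) w1 hw1S hle
        have hu : ∀ x ∈ u1 ++ u2, x ∈ K := by
          intro x hx
          apply hw1.1 x
          rcases List.mem_append.1 hx with hx | hx
          · simp [hx]
          · simp [hx]
        apply ih (u1 ++ u2) n hn _ ⟨hu, hr.symm.trans hrel⟩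
        have h5 := len_le (Rep.self (P := P) hw0S)
        simp only [List.length_append, List.length_cons] at hl1 ⊢
        omega
      · refine ⟨s :: w1, ⟨?_, by rw [List.prod_cons]; exact hrel⟩, ?_⟩
        · intro x hx
          rcases List.mem_cons.1 hx with rfl | hx
          · exact hs
          · exact hw1.1 x hx
        · have h6 := len_s_mul_ne (hK hs) (prod_mem_N hw1S)
          have h7 := len_s_mul_le (hK hs) (prod_mem_N hw1S)
          have h8 := len_eq_of_rel (mul_mem hsN (prod_mem_N hw1S)) hn hrel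
          simp only [List.length_cons]
          omega

theorem exists_reduced_rep {K : Set G} (hK : K ⊆ P.S) {w : List G} {n : G} (hn : n ∈ P.N)
    (hw : Rep P K w n) : ∃ w', Rep P K w' n ∧ w'.length = len P n :=
  exists_reduced_rep_aux hK _ w n hn le_rfl hw

/-- `S ∩ P_K = K`. -/
theorem mem_of_mem_parabolic {K : Set G} (hK : K ⊆ P.S) {s : G} (hs : s ∈ P.S)
    (h : s ∈ P.parabolic K) : s ∈ K := by
  obtain ⟨n, hn, hsn⟩ := (mem_parabolic_iff hK s).1 h
  have hnN : n ∈ P.N := (Subgroup.closure_le _).2 (hK.trans P.subset) hn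
  have hrel : Rel P n s := (rel_of_C_eq (S_mem_N hs) hnN (C_eq_of_mem hsn)).symm
  obtain ⟨w, hw⟩ := exists_rep_of_mem_closure hK hn
  obtain ⟨w', hw', hl⟩ := exists_reduced_rep hK (S_mem_N hs) (hw.of_rel hrel)
  rw [len_S hs, List.length_eq_one_iff] at hl
  obtain ⟨k, rfl⟩ := hl
  have hk : k ∈ K := hw'.1 k (by simp)
  have : Rel P k s := by simpa using hw'.2
  rw [← P.inj k (hK hk) s hs this]
  exact hk


/-- The letters of a reduced word for `n` lie in every subgroup containing `B` and `n B n⁻¹`. -/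
theorem letters_mem {M : Subgroup G} (hM : P.B ≤ M) : ∀ (w : List G) (n : G), n ∈ P.N →
    Rep P P.S w n → w.length = len P n → (∀ b ∈ P.B, n * b * n⁻¹ ∈ M) → ∀ s ∈ w, s ∈ M := by
  intro w
  induction w with
  | nil => intro n _ _ _ _ s hs; simp at hs
  | cons s w' ih =>
    intro n hn hw hl hconj
    have hs : s ∈ P.S := hw.1 s (by simp)
    have hsN := S_mem_N hs
    have hw' : ∀ x ∈ w', x ∈ P.S := fun x hx => hw.1 x (by simp [hx])
    have hn' : s⁻¹ * n ∈ P.N := mul_mem (inv_mem hsN) hn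
    have hrep' : Rep P P.S w' (s⁻¹ * n) := by
      refine ⟨hw', ?_⟩
      have := hw.2.mul_left s⁻¹
      simpa using this
    have hlen' : len P (s⁻¹ * n) = len P (s * n) :=
      len_eq_of_rel hn' (mul_mem hsN hn) (rel_inv_mul hs hn)
    have h1 := len_le hrep'
    have h2 := len_le_s_mul hs hn
    simp only [List.length_cons] at hl
    obtain ⟨b, hb, h3⟩ := exists_sbn_mem hs hn (by omega)
    obtain ⟨b1, hb1, b2, hb2, h4⟩ := mem_C.1 h3
    have hsM : s ∈ M := by
      have e : s = b1 * (n * b2 * n⁻¹) * b⁻¹ := by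
        have : s = (s * b * n) * n⁻¹ * b⁻¹ := by simp [mul_assoc]
        rw [this, h4]; simp [mul_assoc]
      rw [e]
      exact mul_mem (mul_mem (hM hb1) (hconj b2 hb2)) (hM (inv_mem hb))
    have h5 := ih (s⁻¹ * n) hn' hrep' (by omega) (by
      intro b hb
      have e : s⁻¹ * n * b * (s⁻¹ * n)⁻¹ = s⁻¹ * (n * b * n⁻¹) * s := by simp [mul_assoc]
      rw [e]
      exact mul_mem (mul_mem (inv_mem hsM) (hconj b hb)) hsM)
    intro x hx
    rcases List.mem_cons.1 hx with rfl | hx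
    · exact hsM
    · exact h5 x hx

theorem mem_of_conj_le {M : Subgroup G} (hM : P.B ≤ M) {n : G} (hn : n ∈ P.N)
    (h : ∀ b ∈ P.B, n * b * n⁻¹ ∈ M) : n ∈ M := by
  obtain ⟨w, hw, hl⟩ := exists_rep_len hn
  have h1 := letters_mem hM w n hn hw hl h
  have h2 : w.prod ∈ M := list_prod_mem h1
  have e : n = w.prod * (w.prod⁻¹ * n) := by simp
  rw [e]
  exact mul_mem h2 (hM hw.2)

/-- If `g B g⁻¹ ≤ M` and `B ≤ M` then `g ∈ M`. -/
theorem mem_of_conj_le' {M : Subgroup G} (hM : P.B ≤ M) {g : G}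
    (h : ∀ b ∈ P.B, g * b * g⁻¹ ∈ M) : g ∈ M := by
  obtain ⟨n, hn, hg⟩ := bruhat (P := P) g
  obtain ⟨b1, hb1, b2, hb2, rfl⟩ := mem_C.1 hg
  have hnM : n ∈ M := by
    apply mem_of_conj_le hM hn
    intro b hb
    have := h (b2⁻¹ * b * b2) (mul_mem (mul_mem (inv_mem hb2) hb) hb2)
    have e : n * b * n⁻¹ = b1⁻¹ * (b1 * n * b2 * (b2⁻¹ * b * b2) * (b1 * n * b2)⁻¹) * b1 := by
      simp [mul_assoc]
    rw [e]
    exact mul_mem (mul_mem (hM (inv_mem hb1)) this) (hM hb1)
  exact mul_mem (mul_mem (hM hb1) hnM) (hM hb2)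

/-- Every subgroup containing `B` is the standard parabolic of `S ∩ M`. -/
theorem eq_parabolic {M : Subgroup G} (hM : P.B ≤ M) : M = P.parabolic (P.S ∩ (M : Set G)) := by
  apply le_antisymm
  · intro g hg
    obtain ⟨n, hn, hgn⟩ := bruhat (P := P) g
    obtain ⟨b1, hb1, b2, hb2, rfl⟩ := mem_C.1 hgn
    have hnM : n ∈ M := by
      have e : n = b1⁻¹ * (b1 * n * b2) * b2⁻¹ := by simp [mul_assoc]
      rw [e]
      exact mul_mem (mul_mem (hM (inv_mem hb1)) hg) (hM (inv_mem hb2))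
    obtain ⟨w, hw, hl⟩ := exists_rep_len hn
    have h1 := letters_mem hM w n hn hw hl
      (fun b hb => mul_mem (mul_mem hnM (hM hb)) (inv_mem hnM))
    have h2 : w.prod ∈ Subgroup.closure (P.S ∩ (M : Set G)) :=
      prod_mem_closure (fun s hs => ⟨hw.1 s hs, h1 s hs⟩)
    have hnP : n ∈ P.parabolic (P.S ∩ (M : Set G)) := by
      have e : n = w.prod * (w.prod⁻¹ * n) := by simp
      rw [e]
      exact mul_mem (closure_le_parabolic _ h2) (B_le_parabolic _ hw.2)
    exact mul_mem (mul_mem (B_le_parabolic _ hb1) hnP) (B_le_parabolic _ hb2)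
  · rw [Cfsg.BNPair.parabolic, sup_le_iff]
    exact ⟨hM, (Subgroup.closure_le _).2 Set.inter_subset_right⟩

theorem S_inter_parabolic {K : Set G} (hK : K ⊆ P.S) : P.S ∩ (P.parabolic K : Set G) = K := by
  ext s
  constructor
  · rintro ⟨hs, h⟩
    exact mem_of_mem_parabolic hK hs h
  · intro hs
    exact ⟨hK hs, closure_le_parabolic _ (Subgroup.subset_closure hs)⟩

theorem parabolic_mono {J K : Set G} (h : J ⊆ K) : P.parabolic J ≤ P.parabolic K :=
  sup_le_sup_left (Subgroup.closure_mono h) _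

theorem parabolic_le_iff {J K : Set G} (hJ : J ⊆ P.S) (hK : K ⊆ P.S) :
    P.parabolic J ≤ P.parabolic K ↔ J ⊆ K := by
  constructor
  · intro h
    rw [← S_inter_parabolic hJ, ← S_inter_parabolic hK]
    exact Set.inter_subset_inter_right _ h
  · exact parabolic_mono

theorem parabolic_injective {J K : Set G} (hJ : J ⊆ P.S) (hK : K ⊆ P.S)
    (h : P.parabolic J = P.parabolic K) : J = K := by
  rw [← S_inter_parabolic hJ, ← S_inter_parabolic hK, h]

theorem parabolic_inf {J K : Set G} (hJ : J ⊆ P.S) (hK : K ⊆ P.S) :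
    P.parabolic J ⊓ P.parabolic K = P.parabolic (J ∩ K) := by
  have h := eq_parabolic (P := P) (M := P.parabolic J ⊓ P.parabolic K)
    (le_inf (B_le_parabolic _) (B_le_parabolic _))
  rw [h]
  congr 1
  rw [Subgroup.coe_inf, Set.inter_inter_distrib_left, S_inter_parabolic hJ,
    S_inter_parabolic hK]

end Cfsg.Agent.Lib.Helper3.BN
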