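import Mathlib
import Cfsg.Agent.Lib.Helper3.BNPair

/-!
# (B,N)-pairs, part 2: rank one parabolics.
-/

set_option autoImplicit false

namespace Cfsg.Agent.Lib.Helper3.BN

open DoubleCoset

variable {G : Type*} [Group G] {P : Cfsg.BNPair G}

/-- `P_{s} = B ∪ B s B`. -/
theorem parabolic_singleton {s : G} (hs : s ∈ P.S) :
    (P.parabolic {s} : Set G) = (P.B : Set G) ∪ C P s := by
  have h1B : ∀ g, g ∈ C P 1 ↔ g ∈ P.B := fun g => mem_C_of_mem_B (one_mem _)
  ext g
  constructor
  · intro hg
    refine sup_closure_induction_left (P := P) (J := {s})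
      (p := fun g => g ∈ (P.B : Set G) ∪ C P s) ?_ ?_ ?_ ?_ hg
    · exact Or.inl (one_mem _)
    · rintro b hb y (hy | hy)
      · exact Or.inl (mul_mem hb hy)
      · exact Or.inr (mul_left_mem_C hb hy)
    · rintro s' rfl y (hy | hy)
      · right
        exact mem_C.2 ⟨1, one_mem _, y, hy, by simp⟩
      · rcases left_mul hs (S_mem_N hs) hy with h | h
        · exact Or.inl ((mem_C_of_mem_B (P.sq_mem _ hs)).1 h)
        · exact Or.inr h
    · rintro s' rfl y (hy | hy)
      · rcases left_mul_inv hs (one_mem _) ((h1B y).2 hy) with h | h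
        · right; simpa using h
        · exact Or.inl ((h1B _).1 h)
      · rcases left_mul_inv hs (S_mem_N hs) hy with h | h
        · exact Or.inl ((mem_C_of_mem_B (P.sq_mem _ hs)).1 h)
        · exact Or.inr h
  · rintro (hg | hg)
    · exact B_le_parabolic _ hg
    · obtain ⟨x, hx, y, hy, rfl⟩ := mem_C.1 hg
      exact mul_mem (mul_mem (B_le_parabolic _ hx)
        (closure_le_parabolic _ (Subgroup.subset_closure rfl))) (B_le_parabolic _ hy)

theorem parabolic_empty : P.parabolic ∅ = P.B := by
  simp [Cfsg.BNPair.parabolic]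

end Cfsg.Agent.Lib.Helper3.BN
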