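import Mathlib

/-!
# Tools for multiply transitive permutation groups: simplicity criteria
-/

set_option autoImplicit false

namespace Cfsg.Agent.Lib.Helper3.Perm

open MulAction Subgroup

variable {G Ω : Type*} [Group G] [MulAction G Ω]

/-- `n`-transitivity in terms of injective functions. -/
theorem exists_smul_of_injective {n : ℕ} (h : IsMultiplyPretransitive G Ω n) {x y : Fin n → Ω}
    (hx : Function.Injective x) (hy : Function.Injective y) : ∃ g : G, ∀ i, g • x i = y i := by
  obtain ⟨g, hg⟩ := h.exists_smul_eq (⟨x, hx⟩ : Fin n ↪ Ω) ⟨y, hy⟩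
  exact ⟨g, fun i => DFunLike.congr_fun hg i⟩

theorem injective_vec3 {a b c : Ω} (hab : a ≠ b) (hac : a ≠ c) (hbc : b ≠ c) :
    Function.Injective ![a, b, c] := by
  intro i j hij
  fin_cases i <;> fin_cases j <;> simp_all [Ne.symm]

theorem exists_smul_three (h : IsMultiplyPretransitive G Ω 3) {a b c a' b' c' : Ω}
    (hab : a ≠ b) (hac : a ≠ c) (hbc : b ≠ c) (hab' : a' ≠ b') (hac' : a' ≠ c') (hbc' : b' ≠ c') :
    ∃ g : G, g • a = a' ∧ g • b = b' ∧ g • c = c' := by
  obtain ⟨g, hg⟩ := exists_smul_of_injective h (injective_vec3 hab hac hbc)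
    (injective_vec3 hab' hac' hbc')
  exact ⟨g, hg 0, hg 1, hg 2⟩

/-- A nontrivial normal subgroup of a faithful primitive group is transitive. -/
theorem isPretransitive_of_normal_ne_bot [FaithfulSMul G Ω] [IsPreprimitive G Ω]
    (N : Subgroup G) [N.Normal] (hN : N ≠ ⊥) : IsPretransitive N Ω := by
  apply IsQuasiPreprimitive.isPretransitive_of_normal (G := G)
  intro h
  apply hN
  rw [eq_bot_iff]
  intro n hn
  rw [mem_bot]
  apply FaithfulSMul.eq_of_smul_eq_smul (α := Ω)
  intro x
  rw [one_smul]
  have : x ∈ fixedPoints N Ω := by rw [h]; trivial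
  exact this ⟨n, hn⟩

/-- A transitive subgroup containing a point stabiliser is everything. -/
theorem eq_top_of_stabilizer_le (N : Subgroup G) (ht : IsPretransitive N Ω) (a : Ω)
    (h : stabilizer G a ≤ N) : N = ⊤ := by
  rw [eq_top_iff]
  intro g _
  obtain ⟨n, hn⟩ := ht.exists_smul_eq a (g • a)
  have h1 : (n : G)⁻¹ * g ∈ stabilizer G a := by
    rw [mem_stabilizer_iff, mul_smul, inv_smul_eq_iff]
    exact hn.symm
  have e : g = (n : G) * ((n : G)⁻¹ * g) := by simp
  rw [e]
  exact mul_mem n.2 (h h1)

/-- **Criterion A**: a faithful primitive group with simple point stabiliser and no regular normal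
subgroup is simple. -/
theorem isSimpleGroup_of_stabilizer [FaithfulSMul G Ω] [IsPreprimitive G Ω] [Nontrivial G]
    (a : Ω) (hs : IsSimpleGroup (stabilizer G a))
    (hreg : ∀ N : Subgroup G, N.Normal → IsPretransitive N Ω → N ⊓ stabilizer G a ≠ ⊥) :
    IsSimpleGroup G := by
  refine IsSimpleGroup.mk (fun N hN => ?_)
  by_cases hbot : N = ⊥
  · exact Or.inl hbot
  right
  have ht := isPretransitive_of_normal_ne_bot (Ω := Ω) N hbot
  have hK : (N.subgroupOf (stabilizer G a)).Normal := inferInstance
  rcases hs.eq_bot_or_eq_top_of_normal _ hK with h | h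
  · exfalso
    apply hreg N hN ht
    rw [subgroupOf_eq_bot] at h
    exact disjoint_iff.1 h
  · rw [subgroupOf_eq_top] at h
    exact eq_top_of_stabilizer_le N ht a h

/-- **Criterion B**: a regular normal subgroup of a 3-transitive group of degree at least 4 is an
elementary abelian 2-group, so the degree is a power of 2. -/
theorem card_eq_two_pow_of_regular_normal [Finite Ω] (h3 : IsMultiplyPretransitive G Ω 3)
    (h4 : 4 ≤ Nat.card Ω) (N : Subgroup G) [hN : N.Normal] (ht : IsPretransitive N Ω) (a : Ω)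
    (hr : N ⊓ stabilizer G a = ⊥) : ∃ k, Nat.card Ω = 2 ^ k := by
  classical
  -- injectivity of n ↦ n • a on N
  have hinj : ∀ x ∈ N, ∀ y ∈ N, x • a = y • a → x = y := by
    intro x hx y hy h
    have h1 : y⁻¹ * x ∈ N ⊓ stabilizer G a := by
      refine mem_inf.2 ⟨mul_mem (inv_mem hy) hx, ?_⟩
      rw [mem_stabilizer_iff, mul_smul, h, inv_smul_smul]
    rw [hr, mem_bot] at h1
    exact (inv_mul_eq_one.1 h1).symm
  have hbij : Function.Bijective (fun n : N => (n : G) • a) := by
    constructor
    · intro x y h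
      exact Subtype.ext (hinj x x.2 y y.2 h)
    · intro b
      obtain ⟨n, hn⟩ := ht.exists_smul_eq a b
      exact ⟨n, hn⟩
  have hcard : Nat.card N = Nat.card Ω := Nat.card_congr (Equiv.ofBijective _ hbij)
  have hfin : Finite N := Finite.of_injective _ hbij.1
  have hsq : ∀ x ∈ N, x * x = 1 := by
    intro x hx
    by_contra hx2
    have hx1 : x ≠ 1 := by rintro rfl; simp at hx2
    have hxx : x * x ∈ N := mul_mem hx hx
    have h01 : a ≠ x • a := by
      intro h
      exact hx1 (hinj x hx 1 (one_mem _) (by rw [one_smul]; exact h.symm))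
    have h02 : a ≠ (x * x) • a := by
      intro h
      exact hx2 (hinj _ hxx 1 (one_mem _) (by rw [one_smul]; exact h.symm))
    have h12 : x • a ≠ (x * x) • a := by
      intro h
      have := hinj x hx _ hxx h
      exact hx1 (by simpa using this)
    -- a fourth point
    obtain ⟨c, hc⟩ : ∃ c : Ω, c ∉ ({a, x • a, (x * x) • a} : Finset Ω) := by
      by_contra hcon
      push Not at hcon
      have : Fintype Ω := Fintype.ofFinite Ω
      have h5 : (Finset.univ : Finset Ω) ⊆ {a, x • a, (x * x) • a} := fun c _ => hcon c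
      have h6 := Finset.card_le_card h5
      have h7 : ({a, x • a, (x * x) • a} : Finset Ω).card ≤ 3 := Finset.card_le_three
      rw [Finset.card_univ, ← Nat.card_eq_fintype_card] at h6
      omega
    simp only [Finset.mem_insert, Finset.mem_singleton, not_or] at hc
    obtain ⟨g, hga, hgb, hgc⟩ := exists_smul_three h3 h01 h02 h12 h01 (Ne.symm hc.1)
      (Ne.symm hc.2.1)
    have hconj : g * x * g⁻¹ = x := by
      apply hinj _ (hN.conj_mem x hx g) x hx
      rw [mul_smul, mul_smul]
      have : g⁻¹ • a = a := by rw [inv_smul_eq_iff, hga]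
      rw [this, hgb]
    have hcomm : g * x = x * g := by
      have := congrArg (· * g) hconj
      simpa [mul_assoc] using this
    apply hc.2.2
    rw [← hgc, ← mul_smul, ← mul_assoc, hcomm, mul_assoc, hcomm, ← mul_assoc, mul_smul, hga]
  have hp : IsPGroup 2 N := by
    intro x
    refine ⟨1, ?_⟩
    apply Subtype.ext
    have := hsq x x.2
    simpa [pow_two] using this
  have : Fact (Nat.Prime 2) := ⟨Nat.prime_two⟩
  obtain ⟨k, hk⟩ := IsPGroup.iff_card.1 hp
  exact ⟨k, by rw [← hcard, hk]⟩

/-- In a 3-transitive group, a normal subgroup with a nontrivial (faithfully acting) point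
stabiliser is transitive on the remaining points. -/
theorem exists_smul_of_normal_of_three [FaithfulSMul G Ω] (h3 : IsMultiplyPretransitive G Ω 3)
    (N : Subgroup G) [hN : N.Normal] (a : Ω) (hne : N ⊓ stabilizer G a ≠ ⊥) {d e : Ω}
    (hd : d ≠ a) (he : e ≠ a) : ∃ n ∈ N ⊓ stabilizer G a, n • d = e := by
  by_cases hde : d = e
  · exact ⟨1, one_mem _, by rw [one_smul, hde]⟩
  obtain ⟨n, hn, hn1⟩ : ∃ n ∈ N ⊓ stabilizer G a, n ≠ 1 := by
    obtain ⟨n, hn⟩ := Subgroup.ne_bot_iff_exists_ne_one.1 hne
    exact ⟨n.1, n.2, fun h => hn (Subtype.ext h)⟩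
  obtain ⟨hnN, hna⟩ := mem_inf.1 hn
  rw [mem_stabilizer_iff] at hna
  obtain ⟨b, hb⟩ : ∃ b : Ω, n • b ≠ b := by
    by_contra hcon
    push Not at hcon
    apply hn1
    apply FaithfulSMul.eq_of_smul_eq_smul (α := Ω)
    intro x; rw [hcon x, one_smul]
  have hba : b ≠ a := by rintro rfl; exact hb hna
  have hca : n • b ≠ a := by
    intro h
    apply hba
    rw [← hna] at h
    exact smul_left_cancel n h
  obtain ⟨g, hga, hgb, hgc⟩ := exists_smul_three h3 (Ne.symm hba) (Ne.symm hca) (Ne.symm hb)
    (Ne.symm hd) (Ne.symm he) hde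
  have hginv : g⁻¹ • a = a := by rw [inv_smul_eq_iff, hga]
  refine ⟨g * n * g⁻¹, mem_inf.2 ⟨hN.conj_mem n hnN g, ?_⟩, ?_⟩
  · rw [mem_stabilizer_iff, mul_smul, mul_smul, hginv, hna, hga]
  · have : g⁻¹ • d = b := by rw [inv_smul_eq_iff, hgb]
    rw [mul_smul, mul_smul, this, hgc]


/-- An element of prime order `p` in a faithful group of degree `p` generates a transitive group. -/
theorem exists_zpow_smul_eq [FaithfulSMul G Ω] [Finite Ω] {p : ℕ} [hp : Fact p.Prime]
    (hΩ : Nat.card Ω = p) (x : G) (hx : orderOf x = p) (a b : Ω) : ∃ i : ℤ, x ^ i • a = b := by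
  -- first for a point moved by x
  have key : ∀ a : Ω, x • a ≠ a → ∀ b, ∃ i : ℤ, x ^ i • a = b := by
    intro a ha b
    have h1 : (orbit (zpowers x) a).ncard ∣ p := by
      rw [← index_stabilizer, ← hx, ← Nat.card_zpowers]
      exact index_dvd_card _
    have h2 : (orbit (zpowers x) a).ncard = p := by
      rcases hp.out.eq_one_or_self_of_dvd _ h1 with h | h
      · exfalso
        obtain ⟨c, hc⟩ := Set.ncard_eq_one.1 h
        have h3 : a ∈ orbit (zpowers x) a := mem_orbit_self a
        have h4 : x • a ∈ orbit (zpowers x) a := ⟨⟨x, mem_zpowers x⟩, rfl⟩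
        rw [hc, Set.mem_singleton_iff] at h3 h4
        exact ha (h4.trans h3.symm)
      · exact h
    have h5 : orbit (zpowers x) a = Set.univ := by
      apply Set.eq_of_subset_of_ncard_le (Set.subset_univ _) _ (Set.toFinite _)
      rw [Set.ncard_univ, hΩ, h2]
    have h6 : b ∈ orbit (zpowers x) a := by rw [h5]; trivial
    obtain ⟨⟨y, hy⟩, hyb⟩ := h6
    obtain ⟨i, rfl⟩ := mem_zpowers_iff.1 hy
    exact ⟨i, hyb⟩
  have hx1 : x ≠ 1 := by
    rintro rfl
    rw [orderOf_one] at hx
    exact hp.out.one_lt.ne hx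
  obtain ⟨c, hc⟩ : ∃ c : Ω, x • c ≠ c := by
    by_contra hcon
    push Not at hcon
    apply hx1
    apply FaithfulSMul.eq_of_smul_eq_smul (α := Ω)
    intro y; rw [hcon y, one_smul]
  obtain ⟨i, hi⟩ := key c hc a
  obtain ⟨j, hj⟩ := key c hc b
  refine ⟨j - i, ?_⟩
  rw [← hi, ← mul_smul, ← zpow_add, sub_add_cancel, hj]

/-- The normaliser of a subgroup of prime order `p` in a faithful group of degree `p` has order
`p * j` with `1 ≤ j ≤ p - 1`. -/
theorem card_normalizer_zpowers [Finite G] [FaithfulSMul G Ω] [Finite Ω] {p : ℕ}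
    [hp : Fact p.Prime] (hΩ : Nat.card Ω = p) (x : G) (hx : orderOf x = p) :
    ∃ j, 1 ≤ j ∧ j ≤ p - 1 ∧ Nat.card (normalizer (zpowers x : Set G)) = p * j := by
  classical
  have htr := exists_zpow_smul_eq hΩ x hx
  have hne : Nonempty Ω := by
    rw [← Nat.card_pos_iff.trans (and_iff_left inferInstance), hΩ]
    exact hp.out.pos
  obtain ⟨a⟩ := hne
  set H := normalizer (zpowers x : Set G) with hH
  have hQH : zpowers x ≤ H := le_normalizer
  have htH : IsPretransitive H Ω := by
    constructor
    intro b c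
    obtain ⟨i, hi⟩ := htr b c
    exact ⟨⟨x ^ i, hQH (zpow_mem (mem_zpowers x) i)⟩, hi⟩
  have hidx : (stabilizer H a).index = p := by rw [index_stabilizer_of_transitive, hΩ]
  have hcard : Nat.card (stabilizer H a) * p = Nat.card H := by
    rw [← hidx]; exact card_mul_index _
  have hx1 : x ≠ 1 := by
    rintro rfl
    rw [orderOf_one] at hx
    exact hp.out.one_lt.ne hx
  let φ : stabilizer H a → zpowers x := fun g =>
    ⟨(g : H) * x * ((g : H) : G)⁻¹, (mem_normalizer_iff.1 (g : H).2 x).1 (mem_zpowers x)⟩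
  have hφinj : Function.Injective φ := by
    intro g g' h
    have h1 : ((g : H) : G) * x * ((g : H) : G)⁻¹ = ((g' : H) : G) * x * ((g' : H) : G)⁻¹ :=
      congrArg Subtype.val h
    set u : G := ((g : H) : G) with hu
    set v : G := ((g' : H) : G) with hv
    have hua : u • a = a := g.2
    have hva : v • a = a := g'.2
    -- w = v⁻¹ u commutes with x and fixes a
    have hcomm : (v⁻¹ * u) * x = x * (v⁻¹ * u) := by
      have h2 := congrArg (fun z => v⁻¹ * z * u) h1
      simpa [mul_assoc] using h2
    have hcommi : ∀ i : ℤ, (v⁻¹ * u) * x ^ i = x ^ i * (v⁻¹ * u) := fun i =>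
      ((show Commute (v⁻¹ * u) x from hcomm).zpow_right i).eq
    have hw : v⁻¹ * u = 1 := by
      apply FaithfulSMul.eq_of_smul_eq_smul (α := Ω)
      intro b
      obtain ⟨i, rfl⟩ := htr a b
      rw [one_smul, ← mul_smul, hcommi, mul_smul, mul_smul, hua, inv_smul_eq_iff.2 hva.symm]
    have : u = v := by
      have := congrArg (fun z => v * z) hw
      simpa using this
    exact Subtype.ext (Subtype.ext this)
  have hφ1 : (1 : zpowers x) ∉ Set.range φ := by
    rintro ⟨g, hg⟩
    have h1 : ((g : H) : G) * x * ((g : H) : G)⁻¹ = 1 := congrArg Subtype.val hg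
    apply hx1
    simpa using h1
  have hlt : Nat.card (stabilizer H a) < p := by
    have : Fintype (stabilizer H a) := Fintype.ofFinite _
    have : Fintype (zpowers x) := Fintype.ofFinite _
    have := Fintype.card_lt_of_injective_of_notMem φ hφinj hφ1
    rwa [← Nat.card_eq_fintype_card, ← Nat.card_eq_fintype_card, Nat.card_zpowers, hx] at this
  refine ⟨Nat.card (stabilizer H a), Nat.card_pos, by omega, ?_⟩
  rw [← hcard, mul_comm]

/-- **Criterion P**: simplicity of a 3-transitive group of prime degree from arithmetic data. -/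
theorem isSimpleGroup_of_prime_degree [Finite G] [FaithfulSMul G Ω] [Finite Ω]
    {p k : ℕ} [hp : Fact p.Prime] (hΩ : Nat.card Ω = p) (h3 : IsMultiplyPretransitive G Ω 3)
    (hp2 : ¬ p ^ 2 ∣ Nat.card G) (hk : k.Prime) (hkp : k ∣ p - 1) (hk2 : ¬ k ^ 2 ∣ Nat.card G)
    (hmod : (Nat.card G / p) % p = k) (hbig : p * k < Nat.card G) : IsSimpleGroup G := by
  classical
  have hp3 : 3 ≤ p := by
    have h1 := hk.two_le
    have h2 : 0 < p - 1 := by have := hp.out.two_le; omega
    have := Nat.le_of_dvd h2 hkp
    omega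
  have h2t : IsMultiplyPretransitive G Ω 2 :=
    isMultiplyPretransitive_of_le (n := 3) (by norm_num) (by rw [hΩ]; exact hp3)
  have hprim : IsPreprimitive G Ω := isPreprimitive_of_is_two_pretransitive h2t
  have hnt : Nontrivial G := by
    rw [← Finite.one_lt_card_iff_nontrivial]
    have := hp.out.two_le
    have := hk.two_le
    nlinarith
  have hne : Nonempty Ω := by
    rw [← Nat.card_pos_iff.trans (and_iff_left inferInstance), hΩ]
    exact hp.out.pos
  obtain ⟨a⟩ := hne
  refine IsSimpleGroup.mk (fun N hN => ?_)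
  by_cases hbot : N = ⊥
  · exact Or.inl hbot
  right
  have ht := isPretransitive_of_normal_ne_bot (Ω := Ω) N hbot
  have hpN : p ∣ Nat.card N := by
    rw [← hΩ, ← index_stabilizer_of_transitive N a]
    exact index_dvd_card _
  obtain ⟨x, hx⟩ := exists_prime_orderOf_dvd_card' p hpN
  have hxG : orderOf (x : G) = p := by rw [Subgroup.orderOf_coe, hx]
  have hG0 : Nat.card G ≠ 0 := Nat.card_pos.ne'
  have hpG : p ∣ Nat.card G := hpN.trans (card_subgroup_dvd_card N)
  have hfac : (Nat.card G).factorization p = 1 := by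
    apply le_antisymm
    · by_contra h
      push Not at h
      exact hp2 ((hp.out.pow_dvd_iff_le_factorization hG0).2 h)
    · exact (hp.out.dvd_iff_one_le_factorization hG0).1 hpG
  let P : Sylow p G := Sylow.ofCard (zpowers (x : G)) (by rw [Nat.card_zpowers, hxG, hfac, pow_one])
  have hPcoe : (P : Subgroup G) = zpowers (x : G) := Sylow.coe_ofCard _ _
  have hPN : (P : Subgroup G) ≤ N := by
    rw [hPcoe, zpowers_le]; exact x.2
  have hfrat : normalizer ((P : Subgroup G) : Set G) ⊔ N = ⊤ := Sylow.normalizer_sup_eq_top' P hPN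
  obtain ⟨j, hj1, hj2, hjc⟩ := card_normalizer_zpowers hΩ (x : G) hxG
  rw [← hPcoe] at hjc
  set H := normalizer ((P : Subgroup G) : Set G) with hH
  -- Sylow counting
  have hsyl : H.index % p = 1 := by
    have h1 := card_sylow_modEq_one p G
    rw [Sylow.card_eq_index_normalizer P] at h1
    have h2 : 1 % p = 1 := Nat.mod_eq_of_lt hp.out.one_lt
    rw [← h2]; exact h1
  have hcardG : Nat.card G = p * (H.index * j) := by
    rw [← card_mul_index H, hjc]; ring
  have hjk : j = k := by
    rw [← hmod, hcardG, Nat.mul_div_cancel_left _ hp.out.pos, Nat.mul_mod, hsyl, one_mul,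
      Nat.mod_mod, Nat.mod_eq_of_lt (by have := hp.out.two_le; omega)]
  subst hjk
  -- the index of N divides j
  have hidx : N.index ∣ j := by
    have h1 : N.index = N.relIndex H := by
      rw [← relIndex_top_right, ← hfrat, relIndex_sup_right]
    have h2 : N.relIndex H ∣ (P : Subgroup G).relIndex H := relIndex_dvd_of_le_left H hPN
    have h3 : (P : Subgroup G).relIndex H = j := by
      have h4 := relIndex_mul_relIndex ⊥ (P : Subgroup G) H bot_le le_normalizer
      rw [relIndex_bot_left, relIndex_bot_left, hjc, hPcoe, Nat.card_zpowers, hxG] at h4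
      exact Nat.eq_of_mul_eq_mul_left hp.out.pos h4
    rw [h1]; rw [h3] at h2; exact h2
  rcases hk.eq_one_or_self_of_dvd _ hidx with h | h
  · exact index_eq_one.1 h
  · exfalso
    have hNc : Nat.card N * j = Nat.card G := by rw [← h]; exact card_mul_index N
    -- N has a nontrivial point stabiliser
    have hstab : N ⊓ stabilizer G a ≠ ⊥ := by
      intro hb
      have h5 : stabilizer N a = ⊥ := by
        rw [eq_bot_iff]
        intro n hn
        have : (n : G) ∈ N ⊓ stabilizer G a := mem_inf.2 ⟨n.2, hn⟩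
        rw [hb, mem_bot] at this
        exact Subtype.ext this
      have h6 := index_stabilizer_of_transitive N a
      rw [h5, index_bot, hΩ] at h6
      rw [h6] at hNc
      omega
    -- so (p - 1) divides |N|
    obtain ⟨d, hd⟩ : ∃ d : Ω, d ≠ a := by
      by_contra hcon
      push Not at hcon
      have : Subsingleton Ω := ⟨fun u v => (hcon u).trans (hcon v).symm⟩
      have := Finite.card_le_one_iff_subsingleton.2 this
      omega
    have horb : orbit (N ⊓ stabilizer G a : Subgroup G) d = {a}ᶜ := by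
      ext e
      constructor
      · rintro ⟨n, rfl⟩ he
        have hna : (n : G) • a = a := (mem_inf.1 n.2).2
        apply hd
        have he' : (n : G) • d = a := he
        exact smul_left_cancel (n : G) (he'.trans hna.symm)
      · intro he
        obtain ⟨n, hn, hne⟩ := exists_smul_of_normal_of_three h3 N a hstab hd he
        exact ⟨⟨n, hn⟩, hne⟩
    have hdvd : p - 1 ∣ Nat.card (N ⊓ stabilizer G a : Subgroup G) := by
      have h7 := index_stabilizer (N ⊓ stabilizer G a : Subgroup G) d
      rw [horb, Set.ncard_compl, Set.ncard_singleton, hΩ] at h7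
      rw [← h7]; exact index_dvd_card _
    have hdvd2 : j ∣ Nat.card N := (hkp.trans hdvd).trans (card_dvd_of_le inf_le_left)
    apply hk2
    rw [← hNc, pow_two]
    exact Nat.mul_dvd_mul_right hdvd2 j


/-- Criteria A and B combined. -/
theorem isSimpleGroup_of_stabilizer_of_three [FaithfulSMul G Ω] [Finite Ω]
    (h3 : IsMultiplyPretransitive G Ω 3) (h4 : 4 ≤ Nat.card Ω) (hpow : ∀ k, Nat.card Ω ≠ 2 ^ k)
    (a : Ω) (hs : IsSimpleGroup (stabilizer G a)) : IsSimpleGroup G := by
  have h2t : IsMultiplyPretransitive G Ω 2 :=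
    isMultiplyPretransitive_of_le (n := 3) (by norm_num) (by omega)
  have hprim : IsPreprimitive G Ω := isPreprimitive_of_is_two_pretransitive h2t
  have hnt : Nontrivial G := by
    obtain ⟨x, y, hxy⟩ := hs.toNontrivial
    exact ⟨x, y, fun h => hxy (Subtype.ext h)⟩
  apply isSimpleGroup_of_stabilizer a hs
  intro N hN ht hb
  obtain ⟨k, hk⟩ := card_eq_two_pow_of_regular_normal h3 h4 N ht a hb
  exact hpow k hk

/-- The stabiliser of a point acts faithfully on the remaining points. -/
theorem faithfulSMul_ofStabilizer [FaithfulSMul G Ω] (a : Ω) :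
    FaithfulSMul (stabilizer G a) (SubMulAction.ofStabilizer G a) := by
  constructor
  intro g g' h
  apply Subtype.ext
  apply FaithfulSMul.eq_of_smul_eq_smul (α := Ω)
  intro b
  by_cases hb : b = a
  · rw [hb, g.2, g'.2]
  · have := h ⟨b, hb⟩
    exact congrArg Subtype.val this

/-- The order of a sharply `k`-transitive group. -/
theorem card_of_sharply [Finite Ω] {k : ℕ} (hk : IsMultiplyPretransitive G Ω k) (x : Fin k ↪ Ω)
    (h : stabilizer G x = ⊥) : Nat.card G = (Nat.card Ω).descFactorial k := by
  classical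
  have : Fintype Ω := Fintype.ofFinite Ω
  have h1 := index_stabilizer_of_transitive G x
  rw [h, index_bot] at h1
  rw [h1, Nat.card_eq_fintype_card, Fintype.card_embedding_eq, Fintype.card_fin,
    Nat.card_eq_fintype_card]

theorem card_stabilizer_mul [IsPretransitive G Ω] (a : Ω) :
    Nat.card (stabilizer G a) * Nat.card Ω = Nat.card G := by
  rw [← index_stabilizer_of_transitive G a]
  exact card_mul_index _

end Cfsg.Agent.Lib.Helper3.Perm
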