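import Mathlib
import Cfsg.Agent.Lib.Helper28.M24Chain
import Cfsg.Agent.Lib.Helper3.PermTools

/-!
# Simplicity of `M24` and `M23`
-/

set_option autoImplicit false

namespace Cfsg.Agent.Lib.Helper3.M24S

open MulAction Subgroup Cfsg Cfsg.Agent.Lib.Helper28 Cfsg.Agent.Lib.Helper3.Perm

theorem m24_five : IsMultiplyPretransitive M24 GolayPt 5 := by
  constructor
  intro x y
  obtain ⟨g1, hg1, h1⟩ := exists_M24_map_base (List.ofFn x) (by simp)
    (List.nodup_ofFn.2 x.injective)
  obtain ⟨g2, hg2, h2⟩ := exists_M24_map_base (List.ofFn y) (by simp)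
    (List.nodup_ofFn.2 y.injective)
  refine ⟨⟨g2⁻¹ * g1, M24.mul_mem (M24.inv_mem hg2) hg1⟩, ?_⟩
  apply DFunLike.ext
  intro i
  have h3 : (List.ofFn x).map g1 = (List.ofFn y).map g2 := by
    rw [h1, h2]; simp
  rw [List.map_ofFn, List.map_ofFn, List.ofFn_inj] at h3
  have h4 : g1 (x i) = g2 (y i) := congrFun h3 i
  show (g2⁻¹ * g1) (x i) = y i
  rw [Equiv.Perm.mul_apply, h4]; simp

theorem card_golayPt : Nat.card GolayPt = 24 := by
  rw [Nat.card_eq_fintype_card]; rfl

theorem m24_trans (n : ℕ) (hn : n ≤ 5) : IsMultiplyPretransitive M24 GolayPt n :=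
  have := m24_five
  isMultiplyPretransitive_of_le (n := 5) hn (by rw [card_golayPt]; norm_num)

instance m24_pretransitive : IsPretransitive M24 GolayPt :=
  is_one_pretransitive_iff.1 (m24_trans 1 (by norm_num))

theorem card_stabilizer (p : GolayPt) : Nat.card (stabilizer M24 p) = 10200960 := by
  have := card_stabilizer_mul (G := M24) p
  rw [card_golayPt, card_M24] at this
  omega

theorem m23_simple (p : GolayPt) : IsSimpleGroup (stabilizer M24 p) := by
  have := faithfulSMul_ofStabilizer (G := M24) p
  have : Fact (Nat.Prime 23) := ⟨by norm_num⟩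
  have h4 : IsMultiplyPretransitive (stabilizer M24 p) (SubMulAction.ofStabilizer M24 p) 4 :=
    SubMulAction.ofStabilizer.isMultiplyPretransitive.1 m24_five
  have hc : Nat.card (SubMulAction.ofStabilizer M24 p) = 23 := by
    rw [SubMulAction.nat_card_ofStabilizer_eq, card_golayPt]
  have h3 : IsMultiplyPretransitive (stabilizer M24 p) (SubMulAction.ofStabilizer M24 p) 3 :=
    isMultiplyPretransitive_of_le (n := 4) (by norm_num) (by rw [hc]; norm_num)
  apply isSimpleGroup_of_prime_degree (Ω := SubMulAction.ofStabilizer M24 p) (p := 23) (k := 11)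
    hc h3
  all_goals try rw [card_stabilizer]
  all_goals norm_num

theorem m24_simple : IsSimpleGroup M24 := by
  apply isSimpleGroup_of_stabilizer_of_three (Ω := GolayPt) (m24_trans 3 (by norm_num))
    (by rw [card_golayPt]; norm_num) _ none (m23_simple none)
  intro k hk
  rw [card_golayPt] at hk
  have h5 : k < 5 := by
    by_contra h
    push Not at h
    have : 2 ^ 5 ≤ 2 ^ k := Nat.pow_le_pow_right (by norm_num) h
    omega
  interval_cases k <;> omega

end Cfsg.Agent.Lib.Helper3.M24S
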