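import Mathlib
import Cfsg.Agent.Lib.Helper28.M24Chain
import Cfsg.Agent.Lib.Helper3.M24Simple

/-!
# Tools on top of the `M24` engine: enumeration of small stabilisers, octads, dodecads
-/

set_option autoImplicit false

namespace Cfsg.Agent.Lib.Helper3.M24T

open MulAction Subgroup Cfsg Cfsg.Agent.Lib.Helper28
open scoped Pointwise

/-- the identity table -/
def idT : List ℕ := List.range 24

theorem permOf_idT : permOf idT = 1 := by
  have : idT = tblOf 1 := by
    unfold idT tblOf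
    apply List.ext_getElem
    · simp
    · intro i h1 h2
      simp only [List.length_range] at h1
      simp [idx_ptOf h1]
  rw [this, permOf_tblOf]

/-- sifting step -/
theorem sift {pre : List ℕ} {β A : ℕ} {U : List (List ℕ)} (h : lvlCheck pre β A U = true)
    (h1 : ∀ g ∈ stabL pre, g (ptOf β) ∈ un A) {g : Equiv.Perm GolayPt} (hg : g ∈ stabL pre) :
    ∃ u ∈ U, ∃ g' ∈ stabL (pre ++ [β]), inM24 u = true ∧ g = permOf u * g' := by
  obtain ⟨u, hu, hu1, hu2, hu3⟩ := exists_of_lvlCheck h (h1 g hg)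
  have hus : permOf u ∈ stabL pre := (mem_stabL _ _).2 ⟨permOf_mem_M24 hu1, hu2⟩
  refine ⟨u, hu, (permOf u)⁻¹ * g, ?_, hu1, by simp⟩
  rw [stabL_append, mem_inf]
  refine ⟨mul_mem (inv_mem hus) hg, ?_⟩
  rw [mem_stabilizer_iff, Equiv.Perm.smul_def, Equiv.Perm.mul_apply, Equiv.Perm.inv_eq_iff_eq]
  exact hu3.symm

theorem stab6_enum {g : Equiv.Perm GolayPt} (hg : g ∈ stabL [23, 0, 1, 2, 3, 5]) :
    ∃ u ∈ U7, inM24 u = true ∧ g = permOf u := by
  obtain ⟨u, hu, g', hg', h1, h2⟩ := sift lvl7 (fun _ h => stab6_image h) hg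
  have : g' ∈ stabL [23, 0, 1, 2, 3, 5, 4] := hg'
  rw [stab7_eq_bot, mem_bot] at this
  exact ⟨u, hu, h1, by rw [h2, this, mul_one]⟩

theorem stab5_enum {g : Equiv.Perm GolayPt} (hg : g ∈ stabL [23, 0, 1, 2, 3]) :
    ∃ u ∈ U6, ∃ v ∈ U7, inM24 u = true ∧ inM24 v = true ∧ g = permOf u * permOf v := by
  obtain ⟨u, hu, g', hg', h1, h2⟩ := sift lvl6 (fun _ h => stab5_image h) hg
  obtain ⟨v, hv, h3, h4⟩ := stab6_enum hg'
  exact ⟨u, hu, v, hv, h1, h3, by rw [h2, h4]⟩

/-- every octad can be moved to the base octad -/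
theorem exists_map_octad {o : Finset GolayPt} (ho : o ∈ octads) :
    ∃ g ∈ M24, g • o = un O5 := by
  have hc : o.card = 8 := ho.2
  obtain ⟨s, hs, hs5⟩ := Finset.exists_subset_card_eq (show 5 ≤ o.card by omega)
  obtain ⟨g, hg, h⟩ := exists_M24_map_base s.toList (by simp [hs5]) s.nodup_toList
  refine ⟨g, hg, ?_⟩
  have ho' := smul_mem_octads hg ho
  have hO5 : un O5 ∈ octads := un_mem_octads (by decide +kernel)
  rw [mem_octads_iff] at ho' hO5
  by_contra hne
  have hne' : mk (g • o) ≠ mk (un O5) := fun h => hne (mk_injective h)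
  have h4 := popc_land_le_four ho'.1 hO5.1 ho'.2 hO5.2 hne'
  rw [← mk_inter, ← card_eq_popc] at h4
  have hsub : g • s ⊆ g • o ∩ un O5 := by
    intro p hp
    rw [Finset.mem_inter]
    refine ⟨Finset.smul_finset_subset_smul_finset hs hp, ?_⟩
    rw [smul_finset_eq_image, Finset.mem_image] at hp
    obtain ⟨q, hq, rfl⟩ := hp
    have : g q ∈ s.toList.map g := List.mem_map_of_mem (Finset.mem_toList.2 hq)
    rw [h] at this
    simp only [Finset.length_toList, hs5] at this
    revert this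
    generalize g q = r
    revert r
    decide +kernel
  have := Finset.card_le_card hsub
  rw [card_smul, hs5] at this
  omega

end Cfsg.Agent.Lib.Helper3.M24T
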