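import Mathlib
import Cfsg.Agent.Lib.Helper3.M24Tools

/-!
# Dodecads: `M24` is transitive on pairs (dodecad, ordered 5-tuple of its points), sharply
-/

set_option autoImplicit false

namespace Cfsg.Agent.Lib.Helper3.Dod

open MulAction Subgroup Cfsg Cfsg.Agent.Lib.Helper28 Cfsg.Agent.Lib.Helper3.M24T
open scoped Pointwise

/-- the base dodecad `{0,1,2,3,4,12,16,17,18,19,21,∞}` -/
def D0 : ℕ := 11472927

/-- mask of the five base points -/
def F5 : ℕ := 8388623

/-- images of the base dodecad under the stabiliser of the five base points -/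
def ims48 : List ℕ := U6.flatMap (fun u => U7.map (fun v => img u (img v D0)))

theorem dod_check : allRange 12 0 (fun a =>
    !((enc B12 a &&& F5 == F5) && (popc (enc B12 a) == 12)) || ims48.contains (enc B12 a)) = true := by
  decide +kernel

theorem D0_lt : D0 < 2 ^ 24 := by decide

theorem D0_dod : un D0 ∈ dodecads := by
  rw [mem_dodecads_iff, mk_un D0_lt]
  decide +kernel

theorem U6_in : ∀ u ∈ U6, inM24 u = true ∧ ∀ i ∈ [23, 0, 1, 2, 3], u.getD i 0 = i := by
  decide +kernel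

theorem U7_in : ∀ u ∈ U7, inM24 u = true ∧ ∀ i ∈ [23, 0, 1, 2, 3], u.getD i 0 = i := by
  decide +kernel

theorem permOf_mem_stab5 {u : List ℕ} (h : inM24 u = true ∧ ∀ i ∈ [23, 0, 1, 2, 3], u.getD i 0 = i) :
    permOf u ∈ stabL [23, 0, 1, 2, 3] := by
  rw [mem_stabL]
  refine ⟨permOf_mem_M24 h.1, fun i hi => ?_⟩
  have hi24 : i < 24 := by
    revert i; decide
  rw [permOf_apply (isTbl_of_inM24 h.1), idx_ptOf hi24, h.2 i hi]

/-- the stabiliser of the five base points is transitive on the dodecads containing them -/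
theorem exists_map_of_base {d : Finset GolayPt} (hd : d ∈ dodecads) (hF : un F5 ⊆ d) :
    ∃ g ∈ stabL [23, 0, 1, 2, 3], g • un D0 = d := by
  rw [mem_dodecads_iff] at hd
  have h1 := forall_lt_of_allRange 12 _ dod_check (mk d % 4096) (Nat.mod_lt _ (by decide))
  simp only [isCode_iff.1 hd.1] at h1
  have h2 : mk d &&& F5 = F5 := by
    have := subset_iff_land.1 hF
    rw [mk_un (by decide)] at this
    rw [Nat.land_comm]; exact this
  simp only [h2, hd.2, beq_self_eq_true, Bool.and_self, Bool.not_true, Bool.false_or,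
    List.contains_iff_mem] at h1
  simp only [ims48, List.mem_flatMap, List.mem_map] at h1
  obtain ⟨u, hu, v, hv, huv⟩ := h1
  have hu' := U6_in u hu
  have hv' := U7_in v hv
  refine ⟨permOf u * permOf v, mul_mem (permOf_mem_stab5 hu') (permOf_mem_stab5 hv'), ?_⟩
  apply mk_injective
  rw [mul_smul, mk_permOf_smul (isTbl_of_inM24 hu'.1), mk_permOf_smul (isTbl_of_inM24 hv'.1),
    mk_un D0_lt, huv]

theorem uniq_check : ∀ u ∈ U6, ∀ v ∈ U7, img u (img v D0) = D0 → u = idT ∧ v = idT := by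
  decide +kernel

/-- only the identity fixes the five base points and the base dodecad -/
theorem eq_one_of_base {g : Equiv.Perm GolayPt} (hg : g ∈ stabL [23, 0, 1, 2, 3])
    (hD : g • un D0 = un D0) : g = 1 := by
  obtain ⟨u, hu, v, hv, hu1, hv1, rfl⟩ := stab5_enum hg
  have := congrArg mk hD
  rw [mul_smul, mk_permOf_smul (isTbl_of_inM24 hu1), mk_permOf_smul (isTbl_of_inM24 hv1),
    mk_un D0_lt] at this
  obtain ⟨rfl, rfl⟩ := uniq_check u hu v hv this
  rw [permOf_idT, mul_one]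

/-- the five base points -/
def base5 : List GolayPt := [23, 0, 1, 2, 3].map ptOf

theorem mem_base5_iff (p : GolayPt) : p ∈ base5 ↔ p ∈ un F5 := by
  revert p; decide +kernel

theorem map_base5_of_mem {g : Equiv.Perm GolayPt} (hg : g ∈ stabL [23, 0, 1, 2, 3]) :
    base5.map g = base5 := by
  rw [mem_stabL] at hg
  unfold base5
  rw [List.map_map]
  apply List.map_congr_left
  intro i hi
  exact hg.2 i hi

theorem mem_stab5_of_map {g : Equiv.Perm GolayPt} (hg : g ∈ M24) (h : base5.map g = base5) :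
    g ∈ stabL [23, 0, 1, 2, 3] := by
  rw [mem_stabL]
  refine ⟨hg, ?_⟩
  unfold base5 at h
  simp only [List.map_cons, List.map_nil, List.cons.injEq, and_true] at h
  obtain ⟨h1, h2, h3, h4, h5⟩ := h
  intro i hi
  simp only [List.mem_cons, List.not_mem_nil, or_false] at hi
  rcases hi with rfl | rfl | rfl | rfl | rfl <;> assumption

/-- **Master lemma**: every (dodecad, 5 distinct points on it) can be moved to the base one. -/
theorem exists_map_dodecad {d : Finset GolayPt} (hd : d ∈ dodecads) (xs : List GolayPt)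
    (hlen : xs.length = 5) (hnd : xs.Nodup) (hxs : ∀ x ∈ xs, x ∈ d) :
    ∃ g ∈ M24, g • d = un D0 ∧ xs.map g = base5 := by
  obtain ⟨g1, hg1, h1⟩ := exists_M24_map_base xs hlen.le hnd
  rw [hlen] at h1
  have h1' : xs.map g1 = base5 := h1
  have hd1 := smul_mem_dodecads hg1 hd
  have hF : un F5 ⊆ g1 • d := by
    intro p hp
    rw [← mem_base5_iff, ← h1', List.mem_map] at hp
    obtain ⟨x, hx, rfl⟩ := hp
    exact (mem_smul_finset_iff g1 d x).2 (hxs x hx)
  obtain ⟨k, hk, hkd⟩ := exists_map_of_base hd1 hF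
  have hkM : k ∈ M24 := ((mem_stabL _ _).1 hk).1
  refine ⟨k⁻¹ * g1, M24.mul_mem (M24.inv_mem hkM) hg1, ?_, ?_⟩
  · rw [mul_smul, ← hkd, inv_smul_smul]
  · have h2 : base5.map (k⁻¹ : Equiv.Perm GolayPt) = base5 := map_base5_of_mem (inv_mem hk)
    rw [← h2, ← h1', List.map_map]
    rfl

/-- five distinct points of a dodecad -/
theorem exists_five {d : Finset GolayPt} (hd : d ∈ dodecads) :
    ∃ xs : List GolayPt, xs.length = 5 ∧ xs.Nodup ∧ ∀ x ∈ xs, x ∈ d := by
  have hc : d.card = 12 := hd.2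
  obtain ⟨s, hs, hs5⟩ := Finset.exists_subset_card_eq (show 5 ≤ d.card by omega)
  exact ⟨s.toList, by simp [hs5], s.nodup_toList, fun x hx => hs (Finset.mem_toList.1 hx)⟩

/-- `M24` is transitive on dodecads. -/
theorem exists_smul_eq {d d' : Finset GolayPt} (hd : d ∈ dodecads) (hd' : d' ∈ dodecads) :
    ∃ g ∈ M24, g • d = d' := by
  obtain ⟨xs, h1, h2, h3⟩ := exists_five hd
  obtain ⟨ys, h1', h2', h3'⟩ := exists_five hd'
  obtain ⟨g, hg, hgd, _⟩ := exists_map_dodecad hd xs h1 h2 h3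
  obtain ⟨g', hg', hgd', _⟩ := exists_map_dodecad hd' ys h1' h2' h3'
  refine ⟨g'⁻¹ * g, M24.mul_mem (M24.inv_mem hg') hg, ?_⟩
  rw [mul_smul, hgd, ← hgd', inv_smul_smul]

/-- existence part of sharp 5-transitivity -/
theorem exists_of_lists {d : Finset GolayPt} (hd : d ∈ dodecads) (xs ys : List GolayPt)
    (hx1 : xs.length = 5) (hx2 : xs.Nodup) (hx3 : ∀ x ∈ xs, x ∈ d)
    (hy1 : ys.length = 5) (hy2 : ys.Nodup) (hy3 : ∀ x ∈ ys, x ∈ d) :
    ∃ g ∈ M24, g • d = d ∧ xs.map g = ys := by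
  obtain ⟨g, hg, hgd, hgx⟩ := exists_map_dodecad hd xs hx1 hx2 hx3
  obtain ⟨g', hg', hgd', hgy⟩ := exists_map_dodecad hd ys hy1 hy2 hy3
  refine ⟨g'⁻¹ * g, M24.mul_mem (M24.inv_mem hg') hg, ?_, ?_⟩
  · rw [mul_smul, hgd, ← hgd', inv_smul_smul]
  · have : xs.map (g'⁻¹ * g : Equiv.Perm GolayPt) = (xs.map g).map (g'⁻¹ : Equiv.Perm GolayPt) := by
      rw [List.map_map]; rfl
    rw [this, hgx, ← hgy, List.map_map]
    simp

/-- uniqueness part of sharp 5-transitivity -/
theorem eq_one_of_fixes {d : Finset GolayPt} (hd : d ∈ dodecads) (xs : List GolayPt)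
    (hx1 : xs.length = 5) (hx2 : xs.Nodup) (hx3 : ∀ x ∈ xs, x ∈ d)
    {g : Equiv.Perm GolayPt} (hg : g ∈ M24) (hgd : g • d = d) (hgx : ∀ x ∈ xs, g x = x) : g = 1 := by
  obtain ⟨h, hh, hhd, hhx⟩ := exists_map_dodecad hd xs hx1 hx2 hx3
  have hk : h * g * h⁻¹ ∈ stabL [23, 0, 1, 2, 3] := by
    apply mem_stab5_of_map (M24.mul_mem (M24.mul_mem hh hg) (M24.inv_mem hh))
    rw [← hhx, List.map_map]
    apply List.map_congr_left
    intro x hx
    simp [hgx x hx]
  have hkD : (h * g * h⁻¹) • un D0 = un D0 := by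
    rw [← hhd, mul_smul, mul_smul, inv_smul_smul, hgd]
  have := eq_one_of_base hk hkD
  have h3 := congrArg (fun z => h⁻¹ * z * h) this
  simpa [mul_assoc] using h3

end Cfsg.Agent.Lib.Helper3.Dod
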