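import Mathlib
import Cfsg.Prelude.Def_Sporadic_a

/-!
# Counting in Steiner systems: intersection numbers
-/

set_option autoImplicit false
set_option linter.unusedSectionVars false

namespace Cfsg.Agent.Lib.Helper3.Steiner

open Finset

variable {α : Type*} [Fintype α] [DecidableEq α] {t k : ℕ} {B : Set (Finset α)}

open Classical in
/-- the blocks as a finset -/
noncomputable def blocks (B : Set (Finset α)) : Finset (Finset α) := Finset.univ.filter (· ∈ B)

theorem mem_blocks {b : Finset α} : b ∈ blocks B ↔ b ∈ B := by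
  classical
  simp [blocks]

theorem ncard_eq_card_blocks : B.ncard = (blocks B).card := by
  rw [← Set.ncard_coe_finset]
  congr 1
  ext b
  simp [mem_blocks]

theorem ncard_setOf_eq (P : Finset α → Prop) [DecidablePred P] :
    {c | c ∈ B ∧ P c}.ncard = ((blocks B).filter P).card := by
  rw [← Set.ncard_coe_finset]
  congr 1
  ext b
  simp [mem_blocks]

/-- The number of `t`-sets between `S` and `b`. -/
theorem card_between (S b : Finset α) (hSb : S ⊆ b) (t : ℕ) (ht : S.card ≤ t) :
    ((powersetCard t b).filter (S ⊆ ·)).card = (b.card - S.card).choose (t - S.card) := by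
  rw [← card_sdiff_of_subset hSb, ← card_powersetCard]
  apply card_nbij' (fun s => s \ S) (fun u => u ∪ S)
  · intro s hs
    simp only [mem_coe, mem_filter, mem_powersetCard] at hs ⊢
    obtain ⟨⟨h1, h2⟩, h3⟩ := hs
    exact ⟨sdiff_subset_sdiff h1 (le_refl _), by rw [card_sdiff_of_subset h3, h2]⟩
  · intro u hu
    simp only [mem_coe, mem_filter, mem_powersetCard] at hu ⊢
    obtain ⟨h1, h2⟩ := hu
    refine ⟨⟨union_subset (h1.trans sdiff_subset) hSb, ?_⟩, subset_union_right⟩
    rw [card_union_of_disjoint, h2]
    · omega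
    · exact disjoint_of_subset_left h1 sdiff_disjoint
  · intro s hs
    simp only [mem_coe, mem_filter, mem_powersetCard] at hs
    exact sdiff_union_of_subset hs.2
  · intro u hu
    simp only [mem_coe, mem_powersetCard] at hu
    apply union_sdiff_cancel_right
    exact disjoint_of_subset_left hu.1 sdiff_disjoint

/-- The number of blocks containing a set `S` of size at most `t`. -/
theorem card_blocks_containing (hB : Cfsg.IsSteinerSystem t k B) (S : Finset α) (hS : S.card ≤ t) :
    ((blocks B).filter (S ⊆ ·)).card * (k - S.card).choose (t - S.card) =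
      (Fintype.card α - S.card).choose (t - S.card) := by
  have h := sum_card_bipartiteAbove_eq_sum_card_bipartiteBelow
    (s := (blocks B).filter (S ⊆ ·)) (t := (powersetCard t univ).filter (S ⊆ ·))
    (fun b s => s ⊆ b)
  have h1 : ∀ b ∈ (blocks B).filter (S ⊆ ·),
      (bipartiteAbove (fun b s => s ⊆ b) ((powersetCard t univ).filter (S ⊆ ·)) b).card =
        (k - S.card).choose (t - S.card) := by
    intro b hb
    rw [mem_filter, mem_blocks] at hb
    rw [← hB.1 b hb.1, ← card_between S b hb.2 t hS]
    congr 1
    ext s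
    simp only [bipartiteAbove, mem_filter, mem_powersetCard, subset_univ, true_and]
    tauto
  have h2 : ∀ s ∈ (powersetCard t univ).filter (S ⊆ ·),
      (bipartiteBelow (fun b s => s ⊆ b) ((blocks B).filter (S ⊆ ·)) s).card = 1 := by
    intro s hs
    rw [mem_filter, mem_powersetCard] at hs
    obtain ⟨b, ⟨hb1, hb2⟩, hb3⟩ := hB.2 s hs.1.2
    rw [card_eq_one]
    refine ⟨b, ?_⟩
    ext c
    simp only [bipartiteBelow, mem_filter, mem_blocks, mem_singleton]
    constructor
    · rintro ⟨⟨hc1, _⟩, hc2⟩
      exact hb3 c ⟨hc1, hc2⟩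
    · rintro rfl
      exact ⟨⟨hb1, hs.2.trans hb2⟩, hb2⟩
  rw [sum_congr rfl h1, sum_congr rfl h2, sum_const, sum_const, smul_eq_mul, smul_eq_mul, mul_one,
    card_between S univ (subset_univ _) t hS, card_univ] at h
  exact h

/-- The number `λ_i` of blocks containing an `i`-set. -/
theorem card_blocks_containing' (hB : Cfsg.IsSteinerSystem t k B) (htk : t ≤ k) (S : Finset α)
    (hS : S.card ≤ t) :
    ((blocks B).filter (S ⊆ ·)).card =
      (Fintype.card α - S.card).choose (t - S.card) / (k - S.card).choose (t - S.card) := by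
  rw [← card_blocks_containing hB S hS, Nat.mul_div_cancel]
  exact Nat.choose_pos (by omega)

/-- The fundamental counting identity, valid for every set `b`. -/
theorem sum_choose_inter (hB : Cfsg.IsSteinerSystem t k B) (htk : t ≤ k) (b : Finset α) (i : ℕ)
    (hi : i ≤ t) :
    ∑ c ∈ blocks B, (c ∩ b).card.choose i =
      b.card.choose i * ((Fintype.card α - i).choose (t - i) / (k - i).choose (t - i)) := by
  have h := sum_card_bipartiteAbove_eq_sum_card_bipartiteBelow
    (s := blocks B) (t := powersetCard i b) (fun c s => s ⊆ c)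
  have h1 : ∀ c ∈ blocks B,
      (bipartiteAbove (fun c s => s ⊆ c) (powersetCard i b) c).card = (c ∩ b).card.choose i := by
    intro c _
    rw [← card_powersetCard]
    congr 1
    ext s
    simp only [bipartiteAbove, mem_filter, mem_powersetCard, subset_inter_iff]
    tauto
  have h2 : ∀ s ∈ powersetCard i b,
      (bipartiteBelow (fun c s => s ⊆ c) (blocks B) s).card =
        (Fintype.card α - i).choose (t - i) / (k - i).choose (t - i) := by
    intro s hs
    rw [mem_powersetCard] at hs
    have := card_blocks_containing' hB htk s (by omega)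
    rw [hs.2] at this
    exact this
  rw [sum_congr rfl h1, sum_congr rfl h2, sum_const, smul_eq_mul, card_powersetCard] at h
  exact h

/-- intersection numbers with a set `b` -/
noncomputable def N (B : Set (Finset α)) (b : Finset α) (j : ℕ) : ℕ :=
  ((blocks B).filter (fun c => (c ∩ b).card = j)).card

/-- The counting identity in terms of intersection numbers. -/
theorem sum_N (hB : Cfsg.IsSteinerSystem t k B) (htk : t ≤ k) (b : Finset α) (i : ℕ)
    (hi : i ≤ t) :
    ∑ j ∈ range (k + 1), N B b j * j.choose i =
      b.card.choose i * ((Fintype.card α - i).choose (t - i) / (k - i).choose (t - i)) := by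
  rw [← sum_choose_inter hB htk b i hi]
  rw [← sum_fiberwise_of_maps_to (s := blocks B) (t := range (k + 1))
    (g := fun c => (c ∩ b).card)]
  · apply sum_congr rfl
    intro j _
    rw [N, ← smul_eq_mul, ← sum_const]
    apply sum_congr rfl
    intro c hc
    rw [(mem_filter.1 hc).2]
  · intro c hc
    rw [mem_range, Nat.lt_succ_iff, ← hB.1 c (mem_blocks.1 hc)]
    exact card_le_card inter_subset_left

/-- Distinct blocks meet in fewer than `t` points. -/
theorem card_inter_lt (hB : Cfsg.IsSteinerSystem t k B) {b c : Finset α} (hb : b ∈ B) (hc : c ∈ B)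
    (hbc : c ≠ b) : (c ∩ b).card < t := by
  by_contra h
  push Not at h
  obtain ⟨s, hs, hst⟩ := exists_subset_card_eq h
  obtain ⟨d, _, hd⟩ := hB.2 s hst
  exact hbc ((hd c ⟨hc, hs.trans inter_subset_left⟩).trans
    (hd b ⟨hb, hs.trans inter_subset_right⟩).symm)

theorem N_eq_zero (hB : Cfsg.IsSteinerSystem t k B) {b : Finset α} (hb : b ∈ B) {j : ℕ}
    (h1 : t ≤ j) (h2 : j < k) : N B b j = 0 := by
  rw [N, card_eq_zero, filter_eq_empty_iff]
  intro c hc hj
  rw [mem_blocks] at hc
  by_cases hcb : c = b
  · subst hcb
    rw [inter_self, hB.1 c hc] at hj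
    omega
  · have := card_inter_lt hB hb hc hcb
    omega

theorem N_self (hB : Cfsg.IsSteinerSystem t k B) {b : Finset α} (hb : b ∈ B) : N B b k = 1 := by
  rw [N, card_eq_one]
  refine ⟨b, ?_⟩
  ext c
  simp only [mem_filter, mem_blocks, mem_singleton]
  constructor
  · rintro ⟨hc, hj⟩
    have h1 : c ∩ b = c := eq_of_subset_of_card_le inter_subset_left (by rw [hj, hB.1 c hc])
    have h2 : c ∩ b = b := eq_of_subset_of_card_le inter_subset_right (by rw [hj, hB.1 b hb])
    rw [← h1, h2]
  · rintro rfl
    exact ⟨hb, by rw [inter_self, hB.1 c hb]⟩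

theorem ne_of_N_eq_zero {b c : Finset α} (hc : c ∈ B) {j : ℕ} (h : N B b j = 0) :
    (c ∩ b).card ≠ j := by
  rw [N, card_eq_zero, filter_eq_empty_iff] at h
  exact h (mem_blocks.2 hc)

end Cfsg.Agent.Lib.Helper3.Steiner
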