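import Mathlib
import Cfsg.Prelude.Def_KGroupFacts

/-!
# Automorphisms of permutation groups induced by permutations; orbit sizes modulo a prime
-/

set_option autoImplicit false

namespace Cfsg.Agent.Lib.Helper3.AutP

open MulAction Subgroup
open scoped Pointwise

variable {Ω : Type*}

/-- If every subgroup of index `n` of the permutation group `G` is the stabiliser of a point outside the
set `F` of common fixed points, every automorphism of `G` is induced by a permutation fixing `F` pointwise. -/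
theorem exists_perm_of_aut (G : Subgroup (Equiv.Perm Ω)) (F : Set Ω) (n : ℕ)
    (hF : ∀ g ∈ G, ∀ x ∈ F, g x = x)
    (h1 : ∀ H : Subgroup G, H.index = n → ∃ x, x ∉ F ∧ H = stabilizer G x)
    (h2 : ∀ x, x ∉ F → (stabilizer G x).index = n)
    (h3 : ∀ x, x ∉ F → ∀ y, y ∉ F → stabilizer G x = stabilizer G y → x = y)
    (α : MulAut G) :
    ∃ π : Equiv.Perm Ω, (∀ x ∈ F, π x = x) ∧
      ∀ g : G, ((α g : G) : Equiv.Perm Ω) = π * (g : Equiv.Perm Ω) * π⁻¹ := by
  classical
  have key : ∀ β : MulAut G, ∀ x, x ∉ F →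
      ∃ y, y ∉ F ∧ (stabilizer G x).map (β : G →* G) = stabilizer G y := by
    intro β x hx
    apply h1
    rw [Subgroup.index_map_equiv, h2 x hx]
  choose! f hf1 hf2 using key
  let φ : MulAut G → Ω → Ω := fun β x => if x ∈ F then x else f β x
  have hφF : ∀ β x, x ∈ F → φ β x = x := fun β x hx => if_pos hx
  have hφN : ∀ β x, x ∉ F → φ β x = f β x := fun β x hx => if_neg hx
  have hinv : ∀ β x, φ β⁻¹ (φ β x) = x := by
    intro β x
    by_cases hx : x ∈ F
    · rw [hφF β x hx, hφF _ x hx]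
    · rw [hφN β x hx, hφN _ _ (hf1 β x hx)]
      apply h3 _ (hf1 _ _ (hf1 β x hx)) _ hx
      rw [← hf2 _ _ (hf1 β x hx), ← hf2 β x hx, Subgroup.map_map]
      have : ((β⁻¹ : MulAut G) : G →* G).comp (β : G →* G) = MonoidHom.id G := by
        ext g
        simp
      rw [this, Subgroup.map_id]
  let π : Equiv.Perm Ω := ⟨φ α, φ α⁻¹, hinv α, fun x => by simpa using hinv α⁻¹ x⟩
  have hπ : ∀ x, π x = φ α x := fun _ => rfl
  have hmove : ∀ g : G, ∀ x, x ∉ F → (g : Equiv.Perm Ω) x ∉ F := by
    intro g x hx hgx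
    apply hx
    have := hF (g⁻¹ : G) (g⁻¹ : G).2 _ hgx
    have h' : ((g⁻¹ : G) : Equiv.Perm Ω) ((g : Equiv.Perm Ω) x) = x := by simp
    rw [h'] at this
    rw [this]; exact hgx
  have heq : ∀ g : G, ∀ x, ((α g : G) : Equiv.Perm Ω) (π x) = π ((g : Equiv.Perm Ω) x) := by
    intro g x
    by_cases hx : x ∈ F
    · rw [hF g g.2 x hx, hπ, hφF α x hx, hF _ (α g).2 x hx]
    · rw [hπ, hπ, hφN α x hx, hφN α _ (hmove g x hx)]
      apply h3 _ (hmove (α g) _ (hf1 α x hx)) _ (hf1 α _ (hmove g x hx))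
      have e1 : stabilizer G (((α g : G) : Equiv.Perm Ω) (f α x)) = stabilizer G ((α g) • f α x) := rfl
      have e2 : stabilizer G (f α ((g : Equiv.Perm Ω) x)) = (stabilizer G (g • x)).map (α : G →* G) :=
        (hf2 α _ (hmove g x hx)).symm
      rw [e1, e2, stabilizer_smul_eq_stabilizer_map_conj, stabilizer_smul_eq_stabilizer_map_conj,
        ← hf2 α x hx, Subgroup.map_map, Subgroup.map_map]
      congr 1
      ext s
      simp
  refine ⟨π, fun x hx => by rw [hπ, hφF α x hx], fun g => ?_⟩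
  ext y
  have := heq g (π⁻¹ y)
  have e : π (π⁻¹ y) = y := by simp
  rw [e] at this
  rw [this]
  simp

/-- a set invariant under a permutation of `p`-power order has as many points as fixed points, mod `p` -/
theorem card_modEq_fix [DecidableEq Ω] (g : Equiv.Perm Ω) (p : ℕ) [hp : Fact p.Prime] (hg : g ^ p = 1)
    (S : Finset Ω) (hS : ∀ y ∈ S, g y ∈ S) :
    S.card ≡ (S.filter fun y => g y = y).card [MOD p] := by
  let f : Function.End {y // y ∈ S} := fun y => ⟨g y.1, hS y.1 y.2⟩
  have hpow : ∀ k : ℕ, ∀ y : {y // y ∈ S}, ((f ^ k) y).1 = (g ^ k) y.1 := by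
    intro k
    induction k with
    | zero => intro y; rfl
    | succ k ih =>
      intro y
      rw [pow_succ', pow_succ']
      change g ((f ^ k) y).1 = g ((g ^ k) y.1)
      rw [ih]
  have hf : f ^ p ^ 1 = 1 := by
    funext y
    apply Subtype.ext
    rw [pow_one, hpow, hg]
    rfl
  have := Equiv.Perm.card_fixedPoints_modEq hf
  rw [Fintype.card_coe] at this
  refine this.trans ?_
  have e : Fintype.card (Function.fixedPoints f) = (S.filter fun y => g y = y).card := by
    rw [← Fintype.card_coe]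
    apply Fintype.card_congr
    exact
      { toFun := fun y => ⟨y.1.1, Finset.mem_filter.2 ⟨y.1.2, congrArg Subtype.val y.2⟩⟩
        invFun := fun y => ⟨⟨y.1, (Finset.mem_filter.1 y.2).1⟩, Subtype.ext (Finset.mem_filter.1 y.2).2⟩
        left_inv := fun _ => rfl
        right_inv := fun _ => rfl }
  rw [e]

/-- orbit sizes modulo `p` -/
theorem orbit_mod [Fintype Ω] [DecidableEq Ω] (K : Subgroup (Equiv.Perm Ω)) (A : Finset Ω)
    (hA : ∀ k ∈ K, ∀ a ∈ A, k a = a) (x : Ω) (hx : x ∉ A) (g : Equiv.Perm Ω) (hgK : g ∈ K)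
    (p : ℕ) [hp : Fact p.Prime] (hg : g ^ p = 1) :
    ∃ r, r + A.card ≤ (Finset.univ.filter fun y => g y = y).card ∧ (g x = x → 1 ≤ r) ∧
      (orbit K x).ncard ≡ r [MOD p] := by
  classical
  let S : Finset Ω := (orbit K x).toFinset
  have hmem : ∀ y, y ∈ S ↔ y ∈ orbit K x := fun y => Set.mem_toFinset
  have hS : ∀ y ∈ S, g y ∈ S := by
    intro y hy
    rw [hmem] at hy ⊢
    obtain ⟨k, rfl⟩ := hy
    exact ⟨⟨g, hgK⟩ * k, rfl⟩
  refine ⟨(S.filter fun y => g y = y).card, ?_, ?_, ?_⟩
  · rw [← Finset.card_union_of_disjoint]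
    · apply Finset.card_le_card
      intro y hy
      rw [Finset.mem_union] at hy
      rw [Finset.mem_filter]
      refine ⟨Finset.mem_univ _, ?_⟩
      rcases hy with hy | hy
      · exact (Finset.mem_filter.1 hy).2
      · exact hA g hgK y hy
    · rw [Finset.disjoint_left]
      intro y hy hyA
      have hy1 := (hmem y).1 (Finset.mem_filter.1 hy).1
      obtain ⟨k, rfl⟩ := hy1
      apply hx
      have h1 := hA (k⁻¹ : K) (k⁻¹ : K).2 _ hyA
      have h2 : ((k⁻¹ : K) : Equiv.Perm Ω) (k • x) = x := by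
        change ((k⁻¹ : K) : Equiv.Perm Ω) ((k : Equiv.Perm Ω) x) = x
        simp
      rw [h2] at h1
      rw [h1]; exact hyA
  · intro hgx
    rw [Nat.succ_le_iff, Finset.card_pos]
    exact ⟨x, Finset.mem_filter.2 ⟨(hmem x).2 (mem_orbit_self x), hgx⟩⟩
  · have := card_modEq_fix g p hg S hS
    rwa [Set.ncard_eq_toFinset_card' (orbit K x)]

/-- size bounds for an orbit avoiding the fixed set `A` -/
theorem orbit_bound [Fintype Ω] [DecidableEq Ω] (K : Subgroup (Equiv.Perm Ω)) (A : Finset Ω)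
    (hA : ∀ k ∈ K, ∀ a ∈ A, k a = a) (x : Ω) (hx : x ∉ A) :
    0 < (orbit K x).ncard ∧ (orbit K x).ncard + A.card ≤ Fintype.card Ω := by
  classical
  constructor
  · rw [Set.ncard_pos]
    exact ⟨x, mem_orbit_self x⟩
  · rw [Set.ncard_eq_toFinset_card' (orbit K x), ← Finset.card_union_of_disjoint]
    · exact Finset.card_le_univ _
    · rw [Finset.disjoint_left]
      intro y hy hyA
      rw [Set.mem_toFinset] at hy
      obtain ⟨k, rfl⟩ := hy
      apply hx
      have h1 := hA (k⁻¹ : K) (k⁻¹ : K).2 _ hyA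
      have h2 : ((k⁻¹ : K) : Equiv.Perm Ω) (k • x) = x := by
        change ((k⁻¹ : K) : Equiv.Perm Ω) ((k : Equiv.Perm Ω) x) = x
        simp
      rw [h2] at h1
      rw [h1]; exact hyA

/-- a permutation group acting faithfully on an invariant set `C` has order at most `|C|!` -/
theorem card_le_factorial [Fintype Ω] [DecidableEq Ω] (H : Subgroup (Equiv.Perm Ω)) (C : Finset Ω)
    (hC : ∀ g ∈ H, ∀ y, g y ∈ C ↔ y ∈ C) (h : ∀ g ∈ H, (∀ p ∈ C, g p = p) → g = 1) :
    Nat.card H ≤ C.card.factorial := by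
  let f : H → Equiv.Perm {y // y ∈ C} := fun g => g.1.subtypePerm (hC g.1 g.2)
  have hf : Function.Injective f := by
    intro g g' e
    have h1 : (g⁻¹ * g' : H).1 = 1 := by
      apply h _ (g⁻¹ * g' : H).2
      intro p hp
      have h2 := congrArg (fun σ : Equiv.Perm {y // y ∈ C} => ((σ ⟨p, hp⟩ : {y // y ∈ C}) : Ω)) e
      have h3 : g.1 p = g'.1 p := h2
      change g.1⁻¹ (g'.1 p) = p
      rw [← h3]
      simp
    have h4 : g⁻¹ * g' = 1 := Subtype.ext h1
    exact (inv_mul_eq_one.1 h4)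
  have := Nat.card_le_card_of_injective f hf
  rwa [Nat.card_eq_fintype_card (α := Equiv.Perm {y // y ∈ C}), Fintype.card_perm,
    Fintype.card_coe] at this

/-- if only the identity fixes all points outside one orbit, the group is small -/
theorem card_le_factorial_compl [Fintype Ω] [DecidableEq Ω] (K : Subgroup (Equiv.Perm Ω))
    (A : Finset Ω) (hA : ∀ k ∈ K, ∀ a ∈ A, k a = a) (x : Ω) (hx : x ∉ A)
    (h : ∀ g ∈ K, (∀ y, y ∉ orbit K x → g y = y) → g = 1) :
    Nat.card K ≤ (Fintype.card Ω - (orbit K x).ncard - A.card).factorial := by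
  classical
  have hdisj : Disjoint (orbit K x).toFinset A := by
    rw [Finset.disjoint_left]
    intro y hy hyA
    rw [Set.mem_toFinset] at hy
    obtain ⟨k, rfl⟩ := hy
    apply hx
    have h1 := hA (k⁻¹ : K) (k⁻¹ : K).2 _ hyA
    have h2 : ((k⁻¹ : K) : Equiv.Perm Ω) (k • x) = x := by
      change ((k⁻¹ : K) : Equiv.Perm Ω) ((k : Equiv.Perm Ω) x) = x
      simp
    rw [h2] at h1
    rw [h1]; exact hyA
  let C : Finset Ω := ((orbit K x).toFinset ∪ A)ᶜ
  have hmemC : ∀ y, y ∈ C ↔ y ∉ orbit K x ∧ y ∉ A := by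
    intro y
    simp only [C, Finset.mem_compl, Finset.mem_union, Set.mem_toFinset, not_or]
  have hcard : C.card = Fintype.card Ω - (orbit K x).ncard - A.card := by
    rw [Finset.card_compl, Finset.card_union_of_disjoint hdisj,
      Set.ncard_eq_toFinset_card' (orbit K x), Nat.sub_sub]
  rw [← hcard]
  apply card_le_factorial K C
  · intro g hg y
    rw [hmemC, hmemC]
    have e1 : g y ∈ orbit K x ↔ y ∈ orbit K x := by
      have : g y = (⟨g, hg⟩ : K) • y := rfl
      rw [this]
      constructor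
      · intro hy
        have := mem_orbit_of_mem_orbit (⟨g, hg⟩ : K)⁻¹ hy
        rwa [inv_smul_smul] at this
      · intro hy
        exact mem_orbit_of_mem_orbit _ hy
    have e2 : g y ∈ A ↔ y ∈ A := by
      constructor
      · intro hy
        have h1 := hA g⁻¹ (K.inv_mem hg) _ hy
        have h2 : g⁻¹ (g y) = y := by simp
        rw [h2] at h1
        rw [h1]; exact hy
      · intro hy
        rw [hA g hg y hy]; exact hy
    rw [e1, e2]
  · intro g hg hfix
    apply h g hg
    intro y hy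
    by_cases hyA : y ∈ A
    · exact hA g hg y hyA
    · exact hfix y ((hmemC y).2 ⟨hy, hyA⟩)

/-- all automorphisms inner ⇒ `Out` trivial -/
theorem card_out_eq_one {G : Type*} [Group G] (h : ∀ α : MulAut G, ∃ g : G, MulAut.conj g = α) :
    Nat.card (Cfsg.Out G) = 1 := by
  have : Cfsg.Inn G = ⊤ := by
    rw [eq_top_iff]
    intro α _
    exact h α
  change (Cfsg.Inn G).index = 1
  rw [this, Subgroup.index_top]

end Cfsg.Agent.Lib.Helper3.AutP
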