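import Mathlib

/-!
# Orbits from lower-bound certificates

`G` acts on a finite invariant set `Obj`.  Given representatives `X i`, pairwise disjoint finite sets
`D i` of values of an arbitrary function `code`, each value being attained on the orbit of `X i`, with
`∑ |D i| = |Obj|`, and a numerical condition (no sum of several `|D i|` divides `|G|`), the orbits of the
`X i` are exactly the fibres of `code` over the `D i`.
-/

namespace Cfsg.Agent.Lib.Helper3.OrbCert

open MulAction

theorem orbits_of_cert {G α : Type*} [Group G] [Finite G] [MulAction G α]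
    (Obj : Set α) (hfin : Obj.Finite) (hObj : ∀ g : G, ∀ x ∈ Obj, g • x ∈ Obj)
    (k : ℕ) (X : ℕ → α) (hX : ∀ i < k, X i ∈ Obj)
    (code : α → ℕ) (D : ℕ → Finset ℕ)
    (hD : ∀ i < k, ∀ c ∈ D i, ∃ g : G, code (g • X i) = c)
    (hdisj : ∀ i < k, ∀ j < k, i ≠ j → Disjoint (D i) (D j))
    (htot : Obj.ncard = ∑ i ∈ Finset.range k, (D i).card)
    (hpos : ∀ i < k, (D i).Nonempty)
    (hnum : ∀ J ∈ (Finset.range k).powerset, ∀ i ∈ J,
      (∑ j ∈ J, (D j).card) ∣ Nat.card G → J = {i}) :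
    Set.InjOn code Obj ∧ (∀ x ∈ Obj, ∃ i < k, code x ∈ D i) ∧
    (∀ i < k, orbit G (X i) = {x | x ∈ Obj ∧ code x ∈ D i}) ∧
    (∀ i < k, (orbit G (X i)).ncard = (D i).card) := by
  classical
  set DD : Finset ℕ := (Finset.range k).biUnion D with hDD
  have hcardJ : ∀ J ⊆ Finset.range k, (J.biUnion D).card = ∑ j ∈ J, (D j).card := by
    intro J hJ
    apply Finset.card_biUnion
    intro i hi j hj hij
    exact hdisj i (Finset.mem_range.1 (hJ hi)) j (Finset.mem_range.1 (hJ hj)) hij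
  have hex : ∀ c : ℕ, ∃ x : α, c ∈ DD → (x ∈ Obj ∧ code x = c ∧
      ∃ i < k, c ∈ D i ∧ x ∈ orbit G (X i)) := by
    intro c
    by_cases hc : c ∈ DD
    · rw [hDD, Finset.mem_biUnion] at hc
      obtain ⟨i, hi, hci⟩ := hc
      rw [Finset.mem_range] at hi
      obtain ⟨g, hg⟩ := hD i hi c hci
      exact ⟨g • X i, fun _ => ⟨hObj g _ (hX i hi), hg, i, hi, hci, mem_orbit _ _⟩⟩
    · by_cases hk : 0 < k
      · exact ⟨X 0, fun h => absurd h hc⟩
      · exact ⟨X 0, fun h => absurd h hc⟩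
  choose φ hφ using hex
  have hφinj : Set.InjOn φ (DD : Set ℕ) := by
    intro c hc c' hc' h
    rw [← (hφ c hc).2.1, ← (hφ c' hc').2.1, h]
  have hP : φ '' (DD : Set ℕ) = Obj := by
    apply Set.eq_of_subset_of_ncard_le _ _ hfin
    · rintro _ ⟨c, hc, rfl⟩
      exact (hφ c hc).1
    · rw [Set.InjOn.ncard_image hφinj, Set.ncard_coe_finset, htot, hDD, hcardJ _ (Finset.Subset.refl _)]
  have hrep : ∀ x ∈ Obj, code x ∈ DD ∧ φ (code x) = x := by
    intro x hx
    rw [← hP] at hx
    obtain ⟨c, hc, rfl⟩ := hx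
    rw [(hφ c hc).2.1]
    exact ⟨hc, rfl⟩
  have hinj : Set.InjOn code Obj := by
    intro x hx y hy h
    rw [← (hrep x hx).2, ← (hrep y hy).2, h]
  have hcls : ∀ x ∈ Obj, ∃ i < k, code x ∈ D i := by
    intro x hx
    have := (hrep x hx).1
    rw [hDD, Finset.mem_biUnion] at this
    obtain ⟨i, hi, hci⟩ := this
    exact ⟨i, Finset.mem_range.1 hi, hci⟩
  have hfib : ∀ E ⊆ DD, {x | x ∈ Obj ∧ code x ∈ E}.ncard = E.card := by
    intro E hE
    have : {x | x ∈ Obj ∧ code x ∈ E} = φ '' (E : Set ℕ) := by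
      ext x
      constructor
      · rintro ⟨hx, hc⟩
        exact ⟨code x, hc, (hrep x hx).2⟩
      · rintro ⟨c, hc, rfl⟩
        have h1 := hφ c (hE hc)
        exact ⟨h1.1, by rw [h1.2.1]; exact hc⟩
    rw [this, Set.InjOn.ncard_image (hφinj.mono (by exact_mod_cast hE)), Set.ncard_coe_finset]
  have hsubDD : ∀ J ⊆ Finset.range k, J.biUnion D ⊆ DD := by
    intro J hJ
    exact Finset.biUnion_subset_biUnion_of_subset_left D hJ
  have hA : ∀ i < k, ∀ x ∈ Obj, code x ∈ D i → x ∈ orbit G (X i) := by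
    intro i hi x hx hc
    have h1 := hrep x hx
    obtain ⟨_, _, i', hi', hci', hor⟩ := hφ (code x) h1.1
    rw [h1.2] at hor
    by_cases hii : i = i'
    · rw [hii]; exact hor
    · exact absurd hci' (Finset.disjoint_left.1 (hdisj i hi i' hi' hii) hc)
  have horbObj : ∀ i < k, ∀ x ∈ orbit G (X i), x ∈ Obj := by
    rintro i hi _ ⟨g, rfl⟩
    exact hObj g _ (hX i hi)
  have hmain : ∀ i < k, orbit G (X i) = {x | x ∈ Obj ∧ code x ∈ D i} := by
    intro i hi
    set J : Finset ℕ := (Finset.range k).filter (fun j => ∃ x ∈ orbit G (X i), code x ∈ D j) with hJ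
    have hJsub : J ⊆ Finset.range k := Finset.filter_subset _ _
    have horb : orbit G (X i) = {x | x ∈ Obj ∧ code x ∈ J.biUnion D} := by
      ext x
      constructor
      · intro hx
        have hxO := horbObj i hi x hx
        obtain ⟨j, hj, hcj⟩ := hcls x hxO
        refine ⟨hxO, Finset.mem_biUnion.2 ⟨j, ?_, hcj⟩⟩
        rw [hJ, Finset.mem_filter, Finset.mem_range]
        exact ⟨hj, x, hx, hcj⟩
      · rintro ⟨hxO, hc⟩
        rw [Finset.mem_biUnion] at hc
        obtain ⟨j, hj, hcj⟩ := hc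
        rw [hJ, Finset.mem_filter, Finset.mem_range] at hj
        obtain ⟨hjk, x', hx', hcx'⟩ := hj
        have h1 : x' ∈ orbit G (X j) := hA j hjk x' (horbObj i hi x' hx') hcx'
        have h2 : x ∈ orbit G (X j) := hA j hjk x hxO hcj
        have e1 : orbit G x' = orbit G (X i) := orbit_eq_iff.2 hx'
        have e2 : orbit G x' = orbit G (X j) := orbit_eq_iff.2 h1
        rw [← e1, e2]
        exact h2
    have hcard : (orbit G (X i)).ncard = ∑ j ∈ J, (D j).card := by
      rw [horb, hfib _ (hsubDD J hJsub), hcardJ J hJsub]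
    have hdvd : (orbit G (X i)).ncard ∣ Nat.card G := by
      rw [← index_stabilizer]
      exact Subgroup.index_dvd_card _
    have hiJ : i ∈ J := by
      obtain ⟨c, hc⟩ := hpos i hi
      obtain ⟨g, hg⟩ := hD i hi c hc
      rw [hJ, Finset.mem_filter, Finset.mem_range]
      exact ⟨hi, g • X i, mem_orbit _ _, by rw [hg]; exact hc⟩
    have hJi := hnum J (Finset.mem_powerset.2 hJsub) i hiJ (hcard ▸ hdvd)
    rw [horb, hJi, Finset.singleton_biUnion]
  refine ⟨hinj, hcls, hmain, ?_⟩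
  intro i hi
  rw [hmain i hi]
  apply hfib
  intro c hc
  exact Finset.mem_biUnion.2 ⟨i, Finset.mem_range.2 hi, hc⟩

end Cfsg.Agent.Lib.Helper3.OrbCert
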