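import Mathlib
import Cfsg.Agent.Lib.Helper28.M24Trans
import Cfsg.Agent.Lib.Helper3.M24Tools

/-!
# Orbit certificates for subgroups of `M24` acting on code words (walks + bitmaps), counting tools
-/

set_option autoImplicit false

namespace Cfsg.Agent.Lib.Helper3.Orb

open MulAction Subgroup Cfsg Cfsg.Agent.Lib.Helper28 Cfsg.Agent.Lib.Helper3.M24T
open scoped Pointwise

/-- elements of `M24` fixing the points with indices `pts` and the sets with masks `ms` -/
def stabPM (pts ms : List ℕ) : Subgroup (Equiv.Perm GolayPt) where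
  carrier := {g | g ∈ M24 ∧ (∀ i ∈ pts, g (ptOf i) = ptOf i) ∧ ∀ m ∈ ms, g • un m = un m}
  mul_mem' := by
    rintro a b ⟨ha1, ha2, ha3⟩ ⟨hb1, hb2, hb3⟩
    refine ⟨M24.mul_mem ha1 hb1, fun i hi => ?_, fun m hm => ?_⟩
    · rw [Equiv.Perm.mul_apply, hb2 i hi, ha2 i hi]
    · rw [mul_smul, hb3 m hm, ha3 m hm]
  one_mem' := ⟨M24.one_mem, fun _ _ => rfl, fun _ _ => one_smul _ _⟩
  inv_mem' := by
    rintro a ⟨ha1, ha2, ha3⟩
    refine ⟨M24.inv_mem ha1, fun i hi => ?_, fun m hm => ?_⟩
    · rw [Equiv.Perm.inv_eq_iff_eq, ha2 i hi]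
    · rw [inv_smul_eq_iff, ha3 m hm]

theorem mem_stabPM {pts ms : List ℕ} {g : Equiv.Perm GolayPt} :
    g ∈ stabPM pts ms ↔ g ∈ M24 ∧ (∀ i ∈ pts, g (ptOf i) = ptOf i) ∧ ∀ m ∈ ms, g • un m = un m :=
  Iff.rfl

theorem stabPM_le (pts ms : List ℕ) : stabPM pts ms ≤ M24 := fun _ h => h.1

/-- the test for tables -/
def inStab (pts ms : List ℕ) (t : List ℕ) : Bool :=
  inM24 t && pts.all (fun i => decide (i < 24) && t.getD i 0 == i) &&
    ms.all (fun m => decide (m < 2 ^ 24) && img t m == m)

theorem permOf_mem_stabPM {pts ms t : List ℕ} (h : inStab pts ms t = true) :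
    isTbl t = true ∧ permOf t ∈ stabPM pts ms := by
  simp only [inStab, Bool.and_eq_true, List.all_eq_true, decide_eq_true_eq, beq_iff_eq] at h
  obtain ⟨⟨h1, h2⟩, h3⟩ := h
  have ht := isTbl_of_inM24 h1
  refine ⟨ht, permOf_mem_M24 h1, fun i hi => ?_, fun m hm => ?_⟩
  · rw [permOf_apply ht, idx_ptOf (h2 i hi).1, (h2 i hi).2]
  · rw [permOf_smul_un ht (h3 m hm).1, (h3 m hm).2]

theorem isTbl_idT : isTbl idT = true := by decide +kernel

/-- walk along generators, collecting the visited code words (by their information bits) in a bitmap -/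
def walk (gens : List (List ℕ)) : List ℕ → ℕ → ℕ → ℕ
  | [], m, B => B ||| (1 <<< (m % 4096))
  | j :: r, m, B => walk gens r (img (gens.getD j idT) m) (B ||| (1 <<< (m % 4096)))

theorem testBit_lor_shift {B k a : ℕ} (h : (B ||| (1 <<< k)).testBit a = true) :
    B.testBit a = true ∨ k = a := by
  rw [Nat.testBit_lor, Bool.or_eq_true] at h
  rcases h with h | h
  · exact Or.inl h
  · right
    rw [Nat.one_shiftLeft, Nat.testBit_two_pow] at h
    simpa using h

theorem walk_sound (H : Subgroup (Equiv.Perm GolayPt)) (gens : List (List ℕ))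
    (hg : ∀ t ∈ gens, isTbl t = true ∧ permOf t ∈ H) (steps : List ℕ) (m B a : ℕ)
    (hm : m < 2 ^ 24) (h : (walk gens steps m B).testBit a = true) :
    B.testBit a = true ∨ ∃ g ∈ H, mk (g • un m) % 4096 = a := by
  induction steps generalizing m B with
  | nil =>
    rcases testBit_lor_shift h with h | h
    · exact Or.inl h
    · exact Or.inr ⟨1, H.one_mem, by rw [one_smul, mk_un hm, h]⟩
  | cons j r ih =>
    have ht : isTbl (gens.getD j idT) = true ∧ permOf (gens.getD j idT) ∈ H := by
      by_cases hj : j < gens.length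
      · rw [List.getD_eq_getElem _ _ hj]; exact hg _ (List.getElem_mem hj)
      · rw [List.getD_eq_default _ _ (by omega), permOf_idT]; exact ⟨isTbl_idT, H.one_mem⟩
    have hm' : img (gens.getD j idT) m < 2 ^ 24 := by
      rw [← mk_un hm, ← mk_permOf_smul ht.1]; exact mk_lt _
    rcases ih (img (gens.getD j idT) m) _ hm' h with h1 | ⟨g, hgH, hga⟩
    · rcases testBit_lor_shift h1 with h2 | h2
      · exact Or.inl h2
      · exact Or.inr ⟨1, H.one_mem, by rw [one_smul, mk_un hm, h2]⟩
    · refine Or.inr ⟨g * permOf (gens.getD j idT), H.mul_mem hgH ht.2, ?_⟩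
      rw [mul_smul, permOf_smul_un ht.1 hm]; exact hga

/-- **Orbit certificate**: all code words satisfying `P` are images of `m0` under `H`. -/
theorem reach (H : Subgroup (Equiv.Perm GolayPt)) (hH : H ≤ M24) (gens : List (List ℕ))
    (hg : ∀ t ∈ gens, isTbl t = true ∧ permOf t ∈ H) (steps : List ℕ) (m0 W : ℕ)
    (hm0 : isCode m0 = true) (hW : walk gens steps m0 0 = W) (P : ℕ → Bool)
    (hcheck : allRange 12 0 (fun a => !P (enc B12 a) || W.testBit a) = true)
    (s : Finset GolayPt) (hs : isCode (mk s) = true) (hP : P (mk s) = true) :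
    ∃ g ∈ H, g • un m0 = s := by
  have h1 := forall_lt_of_allRange 12 _ hcheck (mk s % 4096) (Nat.mod_lt _ (by decide))
  simp only [isCode_iff.1 hs, hP, Bool.not_true, Bool.false_or] at h1
  rw [← hW] at h1
  rcases walk_sound H gens hg steps m0 0 _ (isCode_lt hm0) h1 with h2 | ⟨g, hgH, hga⟩
  · simp at h2
  · refine ⟨g, hgH, ?_⟩
    apply mk_injective
    have h3 : isCode (mk (g • un m0)) = true :=
      (mem_M24_iff_forall g).1 (hH hgH) _ (by rw [mk_un (isCode_lt hm0)]; exact hm0)
    rw [← isCode_iff.1 h3, hga, isCode_iff.1 hs]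

/-- counting code words -/
theorem ncard_code (P : ℕ → Prop) [DecidablePred P] :
    {x : Finset GolayPt | isCode (mk x) = true ∧ P (mk x)}.ncard =
      ((Finset.range 4096).filter (fun a => P (enc B12 a))).card := by
  have : {x : Finset GolayPt | isCode (mk x) = true ∧ P (mk x)} =
      ↑(((Finset.range 4096).filter (fun a => P (enc B12 a))).image fun a => un (enc B12 a)) := by
    ext s
    simp only [Finset.coe_image, Finset.coe_filter, Finset.mem_range, Set.mem_image]
    constructor
    · rintro ⟨h1, h2⟩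
      refine ⟨mk s % 4096, ⟨Nat.mod_lt _ (by decide), ?_⟩, ?_⟩
      · rw [isCode_iff.1 h1]; exact h2
      · rw [isCode_iff.1 h1, un_mk]
    · rintro ⟨a, ⟨ha, h2⟩, rfl⟩
      show isCode (mk (un (enc B12 a))) = true ∧ P (mk (un (enc B12 a)))
      rw [mk_un (enc_facts a ha).2.1]
      exact ⟨isCode_enc ha, h2⟩
  rw [this, Set.ncard_coe_finset, Finset.card_image_of_injOn]
  intro a ha b hb h
  simp only [Finset.coe_filter, Finset.mem_range] at ha hb
  have h' : mk (un (enc B12 a)) = mk (un (enc B12 b)) := congrArg mk h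
  rw [mk_un (enc_facts a ha.1).2.1, mk_un (enc_facts b hb.1).2.1] at h'
  rw [← (enc_facts a ha.1).1, ← (enc_facts b hb.1).1, h']

/-- transport of counts along a permutation -/
theorem ncard_transport (g : Equiv.Perm GolayPt) (P Q : Finset GolayPt → Prop)
    (h : ∀ x, P x ↔ Q (g • x)) : {x | P x}.ncard = {x | Q x}.ncard := by
  have : {x | Q x} = (fun x : Finset GolayPt => g • x) '' {x | P x} := by
    ext y
    constructor
    · intro hy
      refine ⟨g⁻¹ • y, ?_, smul_inv_smul g y⟩
      show P (g⁻¹ • y)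
      rw [h, smul_inv_smul]; exact hy
    · rintro ⟨x, hx, rfl⟩
      exact (h x).1 hx
  rw [this, Set.ncard_image_of_injective _ (MulAction.injective g)]

theorem smul_inter (g : Equiv.Perm GolayPt) (s t : Finset GolayPt) :
    g • (s ∩ t) = g • s ∩ g • t := by
  rw [smul_finset_eq_image, smul_finset_eq_image, smul_finset_eq_image]
  exact Finset.image_inter s t g.injective

theorem card_smul_inter (g : Equiv.Perm GolayPt) (s t : Finset GolayPt) :
    (g • s ∩ g • t).card = (s ∩ t).card := by
  rw [← smul_inter, card_smul]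

theorem smul_mem_octads_iff {g : Equiv.Perm GolayPt} (hg : g ∈ M24) {o : Finset GolayPt} :
    g • o ∈ octads ↔ o ∈ octads := by
  constructor
  · intro h
    have := smul_mem_octads (M24.inv_mem hg) h
    rwa [inv_smul_smul] at this
  · exact smul_mem_octads hg

theorem smul_mem_dodecads_iff {g : Equiv.Perm GolayPt} (hg : g ∈ M24) {o : Finset GolayPt} :
    g • o ∈ dodecads ↔ o ∈ dodecads := by
  constructor
  · intro h
    have := smul_mem_dodecads (M24.inv_mem hg) h
    rwa [inv_smul_smul] at this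
  · exact smul_mem_dodecads hg

end Cfsg.Agent.Lib.Helper3.Orb
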