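import Mathlib
import Cfsg.Agent.Lib.Helper3.OrbitTool

/-!
# Orbit certificates, packaged: classes of code words under a subgroup of `M24`; WLOG lemmas
-/

set_option autoImplicit false

namespace Cfsg.Agent.Lib.Helper3.Orb

open MulAction Subgroup Cfsg Cfsg.Agent.Lib.Helper28 Cfsg.Agent.Lib.Helper3.M24T
open scoped Pointwise

/-- certificate data: (class value, representative, walk, bitmap) -/
abbrev Cert := List (ℕ × ℕ × List ℕ × ℕ)

/-- the data are consistent -/
def certOk (gens : List (List ℕ)) (data : Cert) : Bool :=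
  data.all fun e => isCode e.2.1 && walk gens e.2.2.1 e.2.1 0 == e.2.2.2

/-- bit `a` of the bitmap of class `k` -/
def lookupBit (data : Cert) (k a : ℕ) : Bool :=
  match data.find? (fun e => e.1 == k) with
  | some e => e.2.2.2.testBit a
  | none => false

/-- representative of the class `k` -/
def repOf (data : Cert) (k : ℕ) : ℕ :=
  match data.find? (fun e => e.1 == k) with
  | some e => e.2.1
  | none => 0

theorem exists_rep_of_cert (H : Subgroup (Equiv.Perm GolayPt)) (hH : H ≤ M24)
    (gens : List (List ℕ)) (hg : ∀ t ∈ gens, isTbl t = true ∧ permOf t ∈ H) (data : Cert)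
    (hdata : certOk gens data = true) (obj : ℕ → Bool) (cls : ℕ → ℕ)
    (hchk : allRange 12 0 (fun a => !obj (enc B12 a) ||
      lookupBit data (cls (enc B12 a)) a) = true)
    (s : Finset GolayPt) (hs : isCode (mk s) = true) (ho : obj (mk s) = true) :
    ∃ g ∈ H, g • un (repOf data (cls (mk s))) = s := by
  have h1 := forall_lt_of_allRange 12 _ hchk (mk s % 4096) (Nat.mod_lt _ (by decide))
  simp only [isCode_iff.1 hs, ho, Bool.not_true, Bool.false_or] at h1
  unfold lookupBit at h1
  unfold repOf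
  cases hf : data.find? (fun e => e.1 == cls (mk s)) with
  | none => rw [hf] at h1; simp at h1
  | some e =>
    rw [hf] at h1
    simp only at h1 ⊢
    have he : e ∈ data := List.mem_of_find?_eq_some hf
    have h2 := List.all_eq_true.1 hdata e he
    simp only [Bool.and_eq_true, beq_iff_eq] at h2
    rw [← h2.2] at h1
    rcases walk_sound H gens hg _ _ 0 _ (isCode_lt h2.1) h1 with h3 | ⟨g, hgH, hga⟩
    · simp at h3
    · refine ⟨g, hgH, ?_⟩
      apply mk_injective
      have h3 : isCode (mk (g • un e.2.1)) = true :=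
        (mem_M24_iff_forall g).1 (hH hgH) _ (by rw [mk_un (isCode_lt h2.1)]; exact h2.1)
      rw [← isCode_iff.1 h3, hga, isCode_iff.1 hs]

/-- **Packaged orbit certificate**: two objects in the same class are in the same `H`-orbit. -/
theorem same_orbit_of_cert (H : Subgroup (Equiv.Perm GolayPt)) (hH : H ≤ M24)
    (gens : List (List ℕ)) (hg : ∀ t ∈ gens, isTbl t = true ∧ permOf t ∈ H) (data : Cert)
    (hdata : certOk gens data = true) (obj : ℕ → Bool) (cls : ℕ → ℕ)
    (hchk : allRange 12 0 (fun a => !obj (enc B12 a) ||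
      lookupBit data (cls (enc B12 a)) a) = true)
    (s s' : Finset GolayPt) (hs : isCode (mk s) = true) (hs' : isCode (mk s') = true)
    (ho : obj (mk s) = true) (ho' : obj (mk s') = true) (hc : cls (mk s) = cls (mk s')) :
    ∃ g ∈ H, g • s = s' := by
  obtain ⟨g1, hg1, h1⟩ := exists_rep_of_cert H hH gens hg data hdata obj cls hchk s hs ho
  obtain ⟨g2, hg2, h2⟩ := exists_rep_of_cert H hH gens hg data hdata obj cls hchk s' hs' ho'
  refine ⟨g2 * g1⁻¹, H.mul_mem hg2 (H.inv_mem hg1), ?_⟩
  rw [mul_smul, ← h1, inv_smul_smul, hc, h2]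

theorem gens_good {pts ms : List ℕ} {gens : List (List ℕ)}
    (h : gens.all (inStab pts ms) = true) :
    ∀ t ∈ gens, isTbl t = true ∧ permOf t ∈ stabPM pts ms :=
  fun t ht => permOf_mem_stabPM (List.all_eq_true.1 h t ht)

/-- extend a list of distinct points of a set to one of length five -/
theorem extend_list {d : Finset GolayPt} (hd : 5 ≤ d.card) (xs : List GolayPt) (hnd : xs.Nodup)
    (hx : ∀ x ∈ xs, x ∈ d) (hlen : xs.length ≤ 5) :
    ∃ ys : List GolayPt, (xs ++ ys).length = 5 ∧ (xs ++ ys).Nodup ∧ ∀ x ∈ xs ++ ys, x ∈ d := by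
  have h1 : 5 - xs.length ≤ (d \ xs.toFinset).card := by
    have := Finset.le_card_sdiff xs.toFinset d
    have h3 : xs.toFinset.card ≤ xs.length := List.toFinset_card_le xs
    omega
  obtain ⟨s, hs, hs2⟩ := Finset.exists_subset_card_eq h1
  refine ⟨s.toList, ?_, ?_, ?_⟩
  · rw [List.length_append, Finset.length_toList, hs2]; omega
  · rw [List.nodup_append]
    refine ⟨hnd, s.nodup_toList, ?_⟩
    intro a ha b hb hab
    have := hs (Finset.mem_toList.1 hb)
    rw [Finset.mem_sdiff, List.mem_toFinset] at this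
    exact this.2 (hab ▸ ha)
  · intro x hx'
    rcases List.mem_append.1 hx' with h | h
    · exact hx x h
    · exact (Finset.mem_sdiff.1 (hs (Finset.mem_toList.1 h))).1

/-- the base points -/
def basePts : List ℕ := [23, 0, 1, 2, 3]

/-- **WLOG for octads**: an octad with at most five marked distinct points on it can be moved to the
base octad with the marked points going to the first base points. -/
theorem exists_map_octad_list {o : Finset GolayPt} (ho : o ∈ octads) (xs : List GolayPt)
    (hnd : xs.Nodup) (hx : ∀ x ∈ xs, x ∈ o) (hlen : xs.length ≤ 5) :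
    ∃ k ∈ M24, k • o = un O5 ∧ xs.map k = (basePts.take xs.length).map ptOf := by
  have hc : o.card = 8 := ho.2
  obtain ⟨ys, h1, h2, h3⟩ := extend_list (by omega) xs hnd hx hlen
  obtain ⟨k, hk, hkx⟩ := exists_M24_map_base (xs ++ ys) h1.le h2
  refine ⟨k, hk, ?_, ?_⟩
  · apply octad_eq_of_five (smul_mem_octads hk ho) (un_mem_octads isOct_O5)
    have hsub : (xs ++ ys).toFinset.image k ⊆ k • o ∩ un O5 := by
      intro p hp
      rw [Finset.mem_image] at hp
      obtain ⟨q, hq, rfl⟩ := hp
      rw [Finset.mem_inter]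
      refine ⟨(mem_smul_finset_iff k o q).2 (h3 q (List.mem_toFinset.1 hq)), ?_⟩
      have : k q ∈ (xs ++ ys).map k := List.mem_map_of_mem (List.mem_toFinset.1 hq)
      rw [hkx, h1] at this
      revert this
      generalize k q = r
      revert r
      decide +kernel
    have := Finset.card_le_card hsub
    rwa [Finset.card_image_of_injective _ k.injective, List.toFinset_card_of_nodup h2, h1] at this
  · have := congrArg (List.take xs.length) hkx
    rw [List.map_append, List.take_left' (by simp), h1, ← List.map_take, List.take_take] at this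
    rw [this]
    congr 2
    simp [hlen]

/-- **WLOG for octads with an outside point**. -/
theorem exists_map_octad_list_out {o : Finset GolayPt} (ho : o ∈ octads) (xs : List GolayPt)
    (hnd : xs.Nodup) (hx : ∀ x ∈ xs, x ∈ o) (hlen : xs.length ≤ 5) {q : GolayPt} (hq : q ∉ o) :
    ∃ k ∈ M24, k • o = un O5 ∧ xs.map k = (basePts.take xs.length).map ptOf ∧ k q = ptOf 4 := by
  obtain ⟨k1, hk1, h1, h2⟩ := exists_map_octad_list ho xs hnd hx hlen
  have hq1 : k1 q ∉ un O5 := by rw [← h1, mem_smul_finset_iff]; exact hq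
  have hq2 : k1 q ∈ un 8241104 := by
    rw [mem_un] at hq1 ⊢
    have : ∀ j < 24, ¬ O5.testBit j = true → (8241104 : ℕ).testBit j = true := by decide
    exact this _ (idx_lt _) hq1
  obtain ⟨u, _, hu1, hu2, hu3⟩ := exists_of_lvlCheck lvl7 hq2
  have hus : permOf u ∈ stabL [23, 0, 1, 2, 3] :=
    (mem_stabL _ _).2 ⟨permOf_mem_M24 hu1, fun i hi => hu2 i (by
      simp only [List.mem_cons, List.not_mem_nil, or_false] at hi ⊢; tauto)⟩
  refine ⟨(permOf u)⁻¹ * k1, M24.mul_mem (M24.inv_mem (permOf_mem_M24 hu1)) hk1, ?_, ?_, ?_⟩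
  · rw [mul_smul, h1, inv_smul_eq_iff, stab5_smul_O5 hus]
  · have h3 : xs.map ((permOf u)⁻¹ * k1 : Equiv.Perm GolayPt) =
        (xs.map k1).map ((permOf u)⁻¹ : Equiv.Perm GolayPt) := by
      rw [List.map_map]; rfl
    rw [h3, h2, List.map_map]
    apply List.map_congr_left
    intro i hi
    have hi' : i ∈ [23, 0, 1, 2, 3] := List.mem_of_mem_take hi
    simp only [Function.comp]
    rw [Equiv.Perm.inv_eq_iff_eq]
    exact (((mem_stabL _ _).1 hus).2 i hi').symm
  · rw [Equiv.Perm.mul_apply, Equiv.Perm.inv_eq_iff_eq]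
    exact hu3.symm

theorem mem_iff_smul (g : Equiv.Perm GolayPt) (s : Finset GolayPt) (p : GolayPt) :
    p ∈ s ↔ g p ∈ g • s := (mem_smul_finset_iff g s p).symm

theorem mem_un_ptOf {m i : ℕ} (hi : i < 24) : ptOf i ∈ un m ↔ m.testBit i = true := by
  rw [mem_un, idx_ptOf hi]

theorem ptOf_mem_iff {s : Finset GolayPt} {i : ℕ} (hi : i < 24) :
    ptOf i ∈ s ↔ (mk s).testBit i = true := by
  rw [mem_iff_testBit, idx_ptOf hi]

theorem oct_iff {k : Equiv.Perm GolayPt} (hk : k ∈ M24) (y : Finset GolayPt) :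
    y ∈ octads ↔ isCode (mk (k • y)) = true ∧ popc (mk (k • y)) = 8 := by
  rw [← mem_octads_iff, smul_mem_octads_iff hk]

theorem dod_iff {k : Equiv.Perm GolayPt} (hk : k ∈ M24) (y : Finset GolayPt) :
    y ∈ dodecads ↔ isCode (mk (k • y)) = true ∧ popc (mk (k • y)) = 12 := by
  rw [← mem_dodecads_iff, smul_mem_dodecads_iff hk]

theorem mem_iff_bit {k : Equiv.Perm GolayPt} {x : GolayPt} {i : ℕ} (hkx : k x = ptOf i)
    (hi : i < 24) (y : Finset GolayPt) : x ∈ y ↔ (mk (k • y)).testBit i = true := by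
  rw [← ptOf_mem_iff hi, ← hkx, mem_smul_finset_iff]

theorem card_inter_eq {k : Equiv.Perm GolayPt} {o : Finset GolayPt} {M : ℕ} (hko : k • o = un M)
    (hM : M < 2 ^ 24) (y : Finset GolayPt) : (o ∩ y).card = popc (M &&& mk (k • y)) := by
  rw [← card_smul_inter k, hko, card_eq_popc, mk_inter, mk_un hM]

/-- conjugating back an element of a base stabiliser -/
theorem conj_back {k g : Equiv.Perm GolayPt} (hk : k ∈ M24) (hg : g ∈ M24) :
    k⁻¹ * g * k ∈ M24 := M24.mul_mem (M24.mul_mem (M24.inv_mem hk) hg) hk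

theorem conj_back_pt {k g : Equiv.Perm GolayPt} {x y : GolayPt} (hkx : k x = y) (hg : g y = y) :
    (k⁻¹ * g * k) x = x := by
  simp only [Equiv.Perm.mul_apply]
  rw [hkx, hg, ← hkx]; simp

theorem conj_back_set {k g : Equiv.Perm GolayPt} {o o' s s' : Finset GolayPt} (hko : k • o = s)
    (hko' : k • o' = s') (hg : g • s = s') : (k⁻¹ * g * k) • o = o' := by
  rw [mul_smul, mul_smul, hko, hg, ← hko', inv_smul_smul]

end Cfsg.Agent.Lib.Helper3.Orb
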