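import Mathlib
import Cfsg.Agent.Lib.Helper3.OrbitTool2
import Cfsg.Agent.Lib.Helper3.OrbCert

/-!
# Orbit certificates for subgroups of `M24` acting on sets of sets of points

Objects are encoded as lists of masks; visited objects are recorded through a hash value in a bitmap.
-/

set_option autoImplicit false
open scoped Pointwise
open Cfsg

namespace Cfsg.Agent.Lib.Helper3.SS

open MulAction Cfsg.Agent.Lib.Helper28 Cfsg.Agent.Lib.Helper3.M24T Cfsg.Agent.Lib.Helper3.Orb

/-- the set of sets encoded by a list of masks -/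
def unL (l : List ℕ) : Finset (Finset GolayPt) := (l.map un).toFinset

/-- well-formed lists of masks -/
def goodL (l : List ℕ) : Prop := l.Nodup ∧ ∀ m ∈ l, m < 2 ^ 24

instance (l : List ℕ) : Decidable (goodL l) := by unfold goodL; infer_instance

theorem un_inj {m n : ℕ} (hm : m < 2 ^ 24) (hn : n < 2 ^ 24) (h : un m = un n) : m = n := by
  rw [← mk_un hm, ← mk_un hn, h]

theorem nodup_map_un {l : List ℕ} (h : goodL l) : (l.map un).Nodup :=
  List.Nodup.map_on (fun m hm n hn hmn => un_inj (h.2 m hm) (h.2 n hn) hmn) h.1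

theorem card_unL {l : List ℕ} (h : goodL l) : (unL l).card = l.length := by
  unfold unL
  rw [List.toFinset_card_of_nodup (nodup_map_un h), List.length_map]

theorem mem_unL {l : List ℕ} {s : Finset GolayPt} : s ∈ unL l ↔ ∃ m ∈ l, un m = s := by
  unfold unL
  rw [List.mem_toFinset, List.mem_map]

/-- hash value of a set of sets -/
def code (P : ℕ) (S : Finset (Finset GolayPt)) : ℕ := (∑ s ∈ S, mk s * mk s) % P

/-- hash value of a list of masks -/
def codeL (P : ℕ) (l : List ℕ) : ℕ := (l.map fun m => m * m).sum % P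

theorem code_unL (P : ℕ) {l : List ℕ} (h : goodL l) : code P (unL l) = codeL P l := by
  unfold code codeL unL
  rw [List.sum_toFinset _ (nodup_map_un h), List.map_map]
  congr 2
  apply List.map_congr_left
  intro m hm
  simp only [Function.comp_apply, mk_un (h.2 m hm)]

/-- action of a table on a list of masks -/
def actL (t l : List ℕ) : List ℕ := l.map (img t)

theorem img_lt {t : List ℕ} (ht : isTbl t = true) {m : ℕ} (hm : m < 2 ^ 24) : img t m < 2 ^ 24 := by
  rw [← mk_un hm, ← mk_permOf_smul ht]; exact mk_lt _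

theorem goodL_actL {t : List ℕ} (ht : isTbl t = true) {l : List ℕ} (h : goodL l) :
    goodL (actL t l) := by
  constructor
  · apply List.Nodup.map_on _ h.1
    intro m hm n hn hmn
    apply un_inj (h.2 m hm) (h.2 n hn)
    have h1 : permOf t • un m = permOf t • un n := by
      rw [permOf_smul_un ht (h.2 m hm), permOf_smul_un ht (h.2 n hn), hmn]
    exact smul_left_cancel _ h1
  · intro m hm
    unfold actL at hm
    rw [List.mem_map] at hm
    obtain ⟨n, hn, rfl⟩ := hm
    exact img_lt ht (h.2 n hn)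

theorem smul_unL {t : List ℕ} (ht : isTbl t = true) {l : List ℕ} (h : goodL l) :
    permOf t • unL l = unL (actL t l) := by
  ext s
  rw [Finset.mem_smul_finset, mem_unL]
  constructor
  · rintro ⟨y, hy, rfl⟩
    obtain ⟨m, hm, rfl⟩ := mem_unL.1 hy
    exact ⟨img t m, List.mem_map_of_mem hm, (permOf_smul_un ht (h.2 m hm)).symm⟩
  · rintro ⟨m, hm, rfl⟩
    unfold actL at hm
    rw [List.mem_map] at hm
    obtain ⟨n, hn, rfl⟩ := hm
    exact ⟨un n, mem_unL.2 ⟨n, hn, rfl⟩, permOf_smul_un ht (h.2 n hn)⟩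

/-- walk along generators, recording the values of `cd` at the visited objects in a bitmap -/
def walkL (gens : List (List ℕ)) (cd : List ℕ → ℕ) : List ℕ → List ℕ → ℕ → ℕ
  | [], l, B => B ||| (1 <<< cd l)
  | j :: r, l, B => walkL gens cd r (actL (gens.getD j idT) l) (B ||| (1 <<< cd l))

theorem walkL_sound (H : Subgroup (Equiv.Perm GolayPt)) (gens : List (List ℕ))
    (hg : ∀ t ∈ gens, isTbl t = true ∧ permOf t ∈ H) (cd : List ℕ → ℕ) (steps : List ℕ)
    (l : List ℕ) (B a : ℕ) (hl : goodL l) (h : (walkL gens cd steps l B).testBit a = true) :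
    B.testBit a = true ∨ ∃ g ∈ H, ∃ l', goodL l' ∧ g • unL l = unL l' ∧ cd l' = a := by
  induction steps generalizing l B with
  | nil =>
    rcases testBit_lor_shift h with h | h
    · exact Or.inl h
    · exact Or.inr ⟨1, H.one_mem, l, hl, one_smul _ _, h⟩
  | cons j r ih =>
    have ht : isTbl (gens.getD j idT) = true ∧ permOf (gens.getD j idT) ∈ H := by
      by_cases hj : j < gens.length
      · rw [List.getD_eq_getElem _ _ hj]; exact hg _ (List.getElem_mem hj)
      · rw [List.getD_eq_default _ _ (by omega), permOf_idT]; exact ⟨isTbl_idT, H.one_mem⟩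
    rcases ih (actL (gens.getD j idT) l) _ (goodL_actL ht.1 hl) h with h1 | ⟨g, hgH, l', hl', hgl, hc⟩
    · rcases testBit_lor_shift h1 with h2 | h2
      · exact Or.inl h2
      · exact Or.inr ⟨1, H.one_mem, l, hl, one_smul _ _, h2⟩
    · refine Or.inr ⟨g * permOf (gens.getD j idT), H.mul_mem hgH ht.2, l', hl', ?_, hc⟩
      rw [mul_smul, smul_unL ht.1 hl, hgl]

/-- the bitmap of a list of positions -/
def bitsOf : List ℕ → ℕ → ℕ
  | [], B => B
  | c :: r, B => bitsOf r (B ||| (1 <<< c))

theorem testBit_bitsOf (D : List ℕ) (B c : ℕ) :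
    (bitsOf D B).testBit c = true ↔ B.testBit c = true ∨ c ∈ D := by
  induction D generalizing B with
  | nil => simp [bitsOf]
  | cons d r ih =>
    rw [bitsOf, ih, Nat.testBit_lor, Bool.or_eq_true, Nat.one_shiftLeft, Nat.testBit_two_pow,
      List.mem_cons]
    simp only [decide_eq_true_eq]
    constructor
    · rintro ((h | h) | h)
      · exact Or.inl h
      · exact Or.inr (Or.inl h.symm)
      · exact Or.inr (Or.inr h)
    · rintro (h | h | h)
      · exact Or.inl (Or.inl h)
      · exact Or.inl (Or.inr h.symm)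
      · exact Or.inr h

/-- strictly increasing lists -/
def incr : List ℕ → Bool
  | [] => true
  | [_] => true
  | a :: b :: r => decide (a < b) && incr (b :: r)

theorem incr_sorted : ∀ (l : List ℕ), incr l = true → l.Pairwise (· < ·)
  | [], _ => List.Pairwise.nil
  | [_], _ => List.pairwise_singleton _ _
  | a :: b :: r, h => by
    simp only [incr, Bool.and_eq_true, decide_eq_true_eq] at h
    have ih := incr_sorted (b :: r) h.2
    rw [List.pairwise_cons]
    refine ⟨?_, ih⟩
    intro c hc
    rw [List.mem_cons] at hc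
    rcases hc with rfl | hc
    · exact h.1
    · exact lt_trans h.1 ((List.pairwise_cons.1 ih).1 c hc)

theorem incr_nodup {l : List ℕ} (h : incr l = true) : l.Nodup :=
  (incr_sorted l h).imp (fun h => ne_of_lt h)

/-- certificate entries: representative, walk, sorted list of hash values -/
abbrev Entry := List ℕ × List ℕ × List ℕ

def entryOk (gens : List (List ℕ)) (cd : List ℕ → ℕ) (e : Entry) : Bool :=
  decide (goodL e.1) && incr e.2.2 &&
    ((walkL gens cd e.2.1 e.1 0 &&& bitsOf e.2.2 0) == bitsOf e.2.2 0)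

def disjOk : List Entry → Bool
  | [] => true
  | e :: r => r.all (fun e' => (bitsOf e.2.2 0 &&& bitsOf e'.2.2 0) == 0) && disjOk r

def certOkL (gens : List (List ℕ)) (cd : List ℕ → ℕ) (data : List Entry) : Bool :=
  data.all (entryOk gens cd) && disjOk data

theorem entry_sound (H : Subgroup (Equiv.Perm GolayPt)) (gens : List (List ℕ))
    (hg : ∀ t ∈ gens, isTbl t = true ∧ permOf t ∈ H) (cd : List ℕ → ℕ) (e : Entry)
    (he : entryOk gens cd e = true) :
    goodL e.1 ∧ e.2.2.Nodup ∧
      ∀ c ∈ e.2.2, ∃ g ∈ H, ∃ l', goodL l' ∧ g • unL e.1 = unL l' ∧ cd l' = c := by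
  simp only [entryOk, Bool.and_eq_true, decide_eq_true_eq, beq_iff_eq] at he
  obtain ⟨⟨h1, h2⟩, h3⟩ := he
  refine ⟨h1, incr_nodup h2, fun c hc => ?_⟩
  have h4 : (bitsOf e.2.2 0).testBit c = true := (testBit_bitsOf _ _ _).2 (Or.inr hc)
  rw [← h3, Nat.testBit_land, Bool.and_eq_true] at h4
  rcases walkL_sound H gens hg cd _ _ 0 c h1 h4.1 with h5 | h5
  · simp at h5
  · exact h5

theorem disj_of_land {D D' : List ℕ} (h : bitsOf D 0 &&& bitsOf D' 0 = 0) :
    Disjoint D.toFinset D'.toFinset := by
  rw [Finset.disjoint_left]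
  intro c hc hc'
  rw [List.mem_toFinset] at hc hc'
  have h1 : (bitsOf D 0 &&& bitsOf D' 0).testBit c = true := by
    rw [Nat.testBit_land, (testBit_bitsOf _ _ _).2 (Or.inr hc), (testBit_bitsOf _ _ _).2 (Or.inr hc')]
    rfl
  rw [h] at h1
  simp at h1

theorem disjOk_sound : ∀ (data : List Entry), disjOk data = true →
    data.Pairwise (fun e e' => Disjoint e.2.2.toFinset e'.2.2.toFinset)
  | [], _ => List.Pairwise.nil
  | e :: r, h => by
    simp only [disjOk, Bool.and_eq_true, List.all_eq_true, beq_iff_eq] at h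
    rw [List.pairwise_cons]
    exact ⟨fun e' he' => disj_of_land (h.1 e' he'), disjOk_sound r h.2⟩

/-- elements of `M24` fixing `B` -/
def stabIn {β : Type*} [MulAction (Equiv.Perm GolayPt) β] (B : β) : Subgroup (Equiv.Perm GolayPt) :=
  M24 ⊓ stabilizer (Equiv.Perm GolayPt) B

theorem mem_stabIn {β : Type*} [MulAction (Equiv.Perm GolayPt) β] {B : β} {g : Equiv.Perm GolayPt} :
    g ∈ stabIn B ↔ g ∈ M24 ∧ g • B = B := Iff.rfl

/-- elementary form of the orbit of `X` under the stabiliser of `B` in `M24` -/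
def orbE {β γ : Type*} [MulAction (Equiv.Perm GolayPt) β] [MulAction (Equiv.Perm GolayPt) γ]
    (B : β) (X : γ) : Set γ := {Y | ∃ g ∈ M24, g • B = B ∧ g • X = Y}

theorem orbit_stabIn {β γ : Type*} [MulAction (Equiv.Perm GolayPt) β]
    [MulAction (Equiv.Perm GolayPt) γ] (B : β) (X : γ) : orbit ↥(stabIn B) X = orbE B X := by
  ext Y
  constructor
  · rintro ⟨⟨g, hg⟩, rfl⟩
    exact ⟨g, hg.1, hg.2, rfl⟩
  · rintro ⟨g, hg, hgB, rfl⟩
    exact ⟨⟨g, hg, hgB⟩, rfl⟩

instance : Finite ↥M24 := inferInstance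

theorem card_stabIn {β : Type*} [MulAction (Equiv.Perm GolayPt) β] (B : β) :
    {Y | ∃ g ∈ M24, g • B = Y}.ncard * Nat.card ↥(stabIn B) = 244823040 := by
  have h1 : {Y | ∃ g ∈ M24, g • B = Y} = orbit ↥M24 B := by
    ext Y
    constructor
    · rintro ⟨g, hg, rfl⟩
      exact ⟨⟨g, hg⟩, rfl⟩
    · rintro ⟨⟨g, hg⟩, rfl⟩
      exact ⟨g, hg, rfl⟩
  have h2 : Nat.card ↥(stabIn B) = Nat.card ↥(stabilizer ↥M24 B) := by
    apply Nat.card_congr
    exact
      { toFun := fun g => ⟨⟨g.1, g.2.1⟩, g.2.2⟩
        invFun := fun g => ⟨g.1.1, g.1.2, g.2⟩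
        left_inv := fun _ => rfl
        right_inv := fun _ => rfl }
  rw [h1, h2, ← index_stabilizer, Subgroup.index_mul_card, card_M24]

/-- **Main wrapper.**  Orbits of the stabiliser in `M24` of `B` (conjugate to the base object `B0`)
on an `M24`-invariant family `Obj` of sets of sets. -/
theorem orbits_main {β : Type*} [MulAction (Equiv.Perm GolayPt) β] (B0 : β)
    (gens : List (List ℕ)) (hgens : ∀ t ∈ gens, isTbl t = true ∧ permOf t ∈ stabIn B0)
    (Obj : Set (Finset (Finset GolayPt))) (hObj : ∀ g ∈ M24, ∀ x ∈ Obj, g • x ∈ Obj)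
    (P : ℕ) (data : List Entry) (hdata : certOkL gens (codeL P) data = true)
    (hX : ∀ e ∈ data, unL e.1 ∈ Obj)
    (htot : Obj.ncard = ∑ i ∈ Finset.range data.length, (data.getD i default).2.2.length)
    (hpos : ∀ e ∈ data, e.2.2 ≠ [])
    (N : ℕ)
    (hnum : ∀ J ∈ (Finset.range data.length).powerset, ∀ i ∈ J,
      (∑ j ∈ J, (data.getD j default).2.2.length) ∣ N → J = {i})
    (k : Equiv.Perm GolayPt) (hk : k ∈ M24) (B : β) (hB : k • B = B0)
    (hN : Nat.card ↥(stabIn B) = N) :
    Set.InjOn (fun x => code P (k • x)) Obj ∧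
    (∀ x ∈ Obj, ∃ i < data.length, code P (k • x) ∈ (data.getD i default).2.2.toFinset) ∧
    (∀ i < data.length, orbE B (k⁻¹ • unL (data.getD i default).1) =
      {x | x ∈ Obj ∧ code P (k • x) ∈ (data.getD i default).2.2.toFinset}) ∧
    (∀ i < data.length, (orbE B (k⁻¹ • unL (data.getD i default).1)).ncard =
      (data.getD i default).2.2.length) := by
  simp only [certOkL, Bool.and_eq_true, List.all_eq_true] at hdata
  obtain ⟨hent, hdis⟩ := hdata
  have hmem : ∀ i < data.length, data.getD i default ∈ data := by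
    intro i hi
    rw [List.getD_eq_getElem _ _ hi]
    exact List.getElem_mem hi
  have hes := fun i (hi : i < data.length) =>
    entry_sound (stabIn B0) gens hgens (codeL P) _ (hent _ (hmem i hi))
  have hcardD : ∀ i < data.length, ((data.getD i default).2.2.toFinset).card =
      (data.getD i default).2.2.length := fun i hi =>
    List.toFinset_card_of_nodup (hes i hi).2.1
  have hkinv : k⁻¹ ∈ M24 := M24.inv_mem hk
  have hBk : B = k⁻¹ • B0 := by rw [← hB, inv_smul_smul]
  have key := OrbCert.orbits_of_cert (G := ↥(stabIn B)) Obj (Set.toFinite _)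
    (fun g x hx => hObj g.1 g.2.1 x hx) data.length
    (fun i => k⁻¹ • unL (data.getD i default).1)
    (fun i hi => hObj _ hkinv _ (hX _ (hmem i hi)))
    (fun x => code P (k • x)) (fun i => (data.getD i default).2.2.toFinset)
    (by
      intro i hi c hc
      rw [List.mem_toFinset] at hc
      obtain ⟨h, hh, l', hl', hgl, hcl⟩ := (hes i hi).2.2 c hc
      refine ⟨⟨k⁻¹ * h * k, M24.mul_mem (M24.mul_mem hkinv hh.1) hk, ?_⟩, ?_⟩
      · change (k⁻¹ * h * k) • B = B
        rw [mul_smul, mul_smul, hB, (mem_stabIn.1 hh).2, hBk]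
      · change code P (k • ((k⁻¹ * h * k) • (k⁻¹ • unL (data.getD i default).1))) = c
        rw [mul_smul, mul_smul, smul_inv_smul, smul_inv_smul, hgl, code_unL P hl', hcl])
    (by
      intro i hi j hj hij
      have hp := disjOk_sound data hdis
      rw [List.getD_eq_getElem _ _ hi, List.getD_eq_getElem _ _ hj]
      rcases lt_or_gt_of_ne hij with h | h
      · exact List.pairwise_iff_getElem.1 hp i j hi hj h
      · exact (List.pairwise_iff_getElem.1 hp j i hj hi h).symm)
    (by
      rw [htot]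
      exact Finset.sum_congr rfl (fun i hi => (hcardD i (Finset.mem_range.1 hi)).symm))
    (by
      intro i hi
      have := hpos _ (hmem i hi)
      obtain ⟨c, hc⟩ := List.exists_mem_of_ne_nil _ this
      exact ⟨c, List.mem_toFinset.2 hc⟩)
    (by
      intro J hJ i hiJ hdvd
      apply hnum J hJ i hiJ
      rw [← hN]
      have : ∑ j ∈ J, (data.getD j default).2.2.length =
          ∑ j ∈ J, ((data.getD j default).2.2.toFinset).card :=
        Finset.sum_congr rfl (fun j hj =>
          (hcardD j (Finset.mem_range.1 (Finset.mem_powerset.1 hJ hj))).symm)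
      rw [this]
      exact hdvd)
  obtain ⟨k1, k2, k3, k4⟩ := key
  refine ⟨k1, k2, ?_, ?_⟩
  · intro i hi
    rw [← orbit_stabIn]
    exact k3 i hi
  · intro i hi
    rw [← orbit_stabIn, k4 i hi, hcardD i hi]

end Cfsg.Agent.Lib.Helper3.SS
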