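import Mathlib
import Cfsg.Agent.Lib.Helper3.OrbitTool2
import Cfsg.Agent.Lib.Helper28.M24Pts

/-!
# Small subsets of the 24 points: counting and transitivity of `M24`
-/

set_option autoImplicit false
open scoped Pointwise
open Cfsg

namespace Cfsg.Agent.Lib.Helper3.Small

open Cfsg.Agent.Lib.Helper28 Cfsg.Agent.Lib.Helper3.M24T Cfsg.Agent.Lib.Helper3.Orb

/-- the number of `n`-subsets meeting `T` in exactly `j` points -/
theorem ncard_card_inter {α : Type*} [Fintype α] [DecidableEq α] (T : Finset α) (n j : ℕ)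
    (hj : j ≤ n) :
    {y : Finset α | y.card = n ∧ (T ∩ y).card = j}.ncard =
      T.card.choose j * (Tᶜ).card.choose (n - j) := by
  have key : {y : Finset α | y.card = n ∧ (T ∩ y).card = j} =
      ↑(((Finset.powersetCard j T) ×ˢ (Finset.powersetCard (n - j) Tᶜ)).image
        (fun p => p.1 ∪ p.2)) := by
    ext y
    simp only [Finset.coe_image, Set.mem_image, Finset.mem_coe, Finset.mem_product,
      Finset.mem_powersetCard, Set.mem_ofPred_eq]
    constructor
    · rintro ⟨h1, h2⟩
      refine ⟨(T ∩ y, Tᶜ ∩ y), ⟨⟨Finset.inter_subset_left, h2⟩, ⟨Finset.inter_subset_left, ?_⟩⟩, ?_⟩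
      · have h3 := Finset.card_inter_add_card_sdiff y T
        have h4 : Tᶜ ∩ y = y \ T := by
          ext a; simp only [Finset.mem_inter, Finset.mem_compl, Finset.mem_sdiff]; tauto
        change (Tᶜ ∩ y).card = n - j
        rw [h4]
        rw [Finset.inter_comm] at h3
        omega
      · ext a
        simp only [Finset.mem_union, Finset.mem_inter, Finset.mem_compl]
        tauto
    · rintro ⟨⟨a, b⟩, ⟨⟨ha, hac⟩, ⟨hb, hbc⟩⟩, rfl⟩
      simp only at ha hac hb hbc ⊢
      have hdis : Disjoint a b := by
        rw [Finset.disjoint_left]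
        intro x hxa hxb
        exact (Finset.mem_compl.1 (hb hxb)) (ha hxa)
      refine ⟨by rw [Finset.card_union_of_disjoint hdis]; omega, ?_⟩
      have : T ∩ (a ∪ b) = a := by
        ext x
        simp only [Finset.mem_inter, Finset.mem_union]
        constructor
        · rintro ⟨h1, h2 | h2⟩
          · exact h2
          · exact absurd h1 (Finset.mem_compl.1 (hb h2))
        · intro h
          exact ⟨ha h, Or.inl h⟩
      rw [this, hac]
  rw [key, Set.ncard_coe_finset, Finset.card_image_of_injOn, Finset.card_product,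
    Finset.card_powersetCard, Finset.card_powersetCard]
  rintro ⟨a, b⟩ hab ⟨a', b'⟩ hab' h
  simp only [Finset.coe_product, Set.mem_prod, Finset.mem_coe, Finset.mem_powersetCard] at hab hab'
  simp only at h
  have e1 : ∀ (a b : Finset α), a ⊆ T → b ⊆ Tᶜ → T ∩ (a ∪ b) = a := by
    intro a b ha hb
    ext x
    simp only [Finset.mem_inter, Finset.mem_union]
    constructor
    · rintro ⟨h1, h2 | h2⟩
      · exact h2
      · exact absurd h1 (Finset.mem_compl.1 (hb h2))
    · intro h
      exact ⟨ha h, Or.inl h⟩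
  have e2 : ∀ (a b : Finset α), a ⊆ T → b ⊆ Tᶜ → Tᶜ ∩ (a ∪ b) = b := by
    intro a b ha hb
    ext x
    simp only [Finset.mem_inter, Finset.mem_union, Finset.mem_compl]
    constructor
    · rintro ⟨h1, h2 | h2⟩
      · exact absurd (ha h2) h1
      · exact h2
    · intro h
      exact ⟨Finset.mem_compl.1 (hb h), Or.inr h⟩
  have h1 : a = a' := by
    rw [← e1 a b hab.1.1 hab.2.1, h, e1 a' b' hab'.1.1 hab'.2.1]
  have h2 : b = b' := by
    rw [← e2 a b hab.1.1 hab.2.1, h, e2 a' b' hab'.1.1 hab'.2.1]
  rw [h1, h2]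

theorem smul_toFinset (g : Equiv.Perm GolayPt) (l l' : List GolayPt) (h : l.map g = l') :
    g • l.toFinset = l'.toFinset := by
  subst h
  ext x
  rw [Finset.mem_smul_finset]
  simp only [List.mem_toFinset, List.mem_map, Equiv.Perm.smul_def]

/-- `M24` moves a pair of sets with at most five points in their union as freely as possible. -/
theorem exists_map_pair (s y z : Finset GolayPt) (hyz : y.card = z.card)
    (h : (s ∩ y).card = (s ∩ z).card) (h5 : (s ∪ y).card ≤ 5) :
    ∃ g ∈ M24, g • s = s ∧ g • y = z := by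
  have c1 := Finset.card_inter_add_card_sdiff s y
  have c2 := Finset.card_inter_add_card_sdiff s z
  have c3 := Finset.card_inter_add_card_sdiff y s
  have c4 := Finset.card_inter_add_card_sdiff z s
  rw [Finset.inter_comm y s] at c3
  rw [Finset.inter_comm z s] at c4
  have c5 : (s ∪ y).card = (s ∩ y).card + (s \ y).card + (y \ s).card := by
    have := Finset.card_union_add_card_inter s y
    omega
  have nd : ∀ y : Finset GolayPt, ((s ∩ y).toList ++ ((s \ y).toList ++ (y \ s).toList)).Nodup := by
    intro y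
    rw [List.nodup_append, List.nodup_append]
    refine ⟨Finset.nodup_toList _, ⟨Finset.nodup_toList _, Finset.nodup_toList _, ?_⟩, ?_⟩
    · intro a ha b hb hab
      subst hab
      rw [Finset.mem_toList, Finset.mem_sdiff] at ha hb
      exact hb.2 ha.1
    · intro a ha b hb hab
      subst hab
      rw [Finset.mem_toList, Finset.mem_inter] at ha
      rw [List.mem_append, Finset.mem_toList, Finset.mem_toList, Finset.mem_sdiff,
        Finset.mem_sdiff] at hb
      tauto
  obtain ⟨g, hg, hmap⟩ := exists_M24_map_list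
    ((s ∩ y).toList ++ ((s \ y).toList ++ (y \ s).toList))
    ((s ∩ z).toList ++ ((s \ z).toList ++ (z \ s).toList))
    (by simp only [List.length_append, Finset.length_toList]; omega)
    (by simp only [List.length_append, Finset.length_toList]; omega) (nd y) (nd z)
  rw [List.map_append, List.map_append] at hmap
  obtain ⟨m1, m23⟩ := List.append_inj hmap (by simp only [List.length_map, Finset.length_toList]; omega)
  obtain ⟨m2, m3⟩ := List.append_inj m23 (by simp only [List.length_map, Finset.length_toList]; omega)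
  have f1 := smul_toFinset g _ _ m1
  have f2 := smul_toFinset g _ _ m2
  have f3 := smul_toFinset g _ _ m3
  simp only [Finset.toList_toFinset] at f1 f2 f3
  refine ⟨g, hg, ?_, ?_⟩
  · have e : ∀ y : Finset GolayPt, s = (s ∩ y) ∪ (s \ y) := by
      intro y
      ext a
      simp only [Finset.mem_union, Finset.mem_inter, Finset.mem_sdiff]
      tauto
    conv_lhs => rw [e y]
    rw [Finset.smul_finset_union, f1, f2, ← e z]
  · have e : ∀ y : Finset GolayPt, y = (s ∩ y) ∪ (y \ s) := by
      intro y
      ext a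
      simp only [Finset.mem_union, Finset.mem_inter, Finset.mem_sdiff]
      tauto
    conv_lhs => rw [e y]
    rw [Finset.smul_finset_union, f1, f3, ← e z]

/-- six points of an octad can be moved to the standard position -/
theorem exists_map_six_in {o : Finset GolayPt} (ho : o ∈ octads) (xs : List GolayPt)
    (hnd : xs.Nodup) (hx : ∀ x ∈ xs, x ∈ o) (hlen : xs.length = 5) {q : GolayPt} (hq : q ∈ o)
    (hqx : q ∉ xs) :
    ∃ k ∈ M24, k • o = un O5 ∧ xs.map k = basePts.map ptOf ∧ k q = ptOf 5 := by
  obtain ⟨k1, hk1, h1, h2⟩ := exists_map_octad_list ho xs hnd hx hlen.le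
  rw [hlen] at h2
  have h2' : xs.map k1 = basePts.map ptOf := h2
  have hq1 : k1 q ∈ un O5 := by rw [← h1, mem_smul_finset_iff]; exact hq
  have hq0 : k1 q ∉ basePts.map ptOf := by
    rw [← h2']
    intro hmem
    rw [List.mem_map] at hmem
    obtain ⟨a, ha, hak⟩ := hmem
    exact hqx (k1.injective hak ▸ ha)
  have hq2 : k1 q ∈ un 147488 := by
    rw [mem_un] at hq1 ⊢
    have hne : ∀ j ∈ basePts, idx (k1 q) ≠ j := by
      intro j hj hidx
      apply hq0
      rw [List.mem_map]
      exact ⟨j, hj, by rw [← hidx, ptOf_idx]⟩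
    have : ∀ j < 24, O5.testBit j = true → (∀ i ∈ basePts, j ≠ i) →
      (147488 : ℕ).testBit j = true := by decide
    exact this _ (idx_lt _) hq1 hne
  obtain ⟨u, _, hu1, hu2, hu3⟩ := exists_of_lvlCheck lvl6 hq2
  have hus : permOf u ∈ stabL [23, 0, 1, 2, 3] :=
    (mem_stabL _ _).2 ⟨permOf_mem_M24 hu1, fun i hi => hu2 i hi⟩
  refine ⟨(permOf u)⁻¹ * k1, M24.mul_mem (M24.inv_mem (permOf_mem_M24 hu1)) hk1, ?_, ?_, ?_⟩
  · rw [mul_smul, h1, inv_smul_eq_iff, stab5_smul_O5 hus]
  · have : xs.map (⇑((permOf u)⁻¹ * k1)) = (xs.map k1).map (⇑(permOf u)⁻¹) := by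
      rw [List.map_map]; rfl
    rw [this, h2', List.map_map]
    apply List.map_congr_left
    intro i hi
    change (permOf u)⁻¹ (ptOf i) = ptOf i
    rw [Equiv.Perm.inv_eq_iff_eq, hu2 i hi]
  · change (permOf u)⁻¹ (k1 q) = ptOf 5
    rw [Equiv.Perm.inv_eq_iff_eq, hu3]

end Cfsg.Agent.Lib.Helper3.Small
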