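import Mathlib
import Cfsg.Agent.Lib.Helper3.SmallSets
import Cfsg.Agent.Lib.Helper3.Steiner
import Cfsg.Prelude.Def_SporadicCombinatorics

/-!
# Sextets: every tetrad lies in a unique sextet; there are 1771 sextets; `M24` is transitive on them
-/

set_option autoImplicit false
open scoped Pointwise
open Cfsg

namespace Cfsg.Agent.Lib.Helper3.Sext

open Cfsg.Agent.Lib.Helper28 Cfsg.Agent.Lib.Helper3.M24T Cfsg.Agent.Lib.Helper3.Orb
open Cfsg.Agent.Lib.Helper3

/-- membership in the code, for subsets -/
def inC (s : Finset GolayPt) : Prop := isCode (mk s) = true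

theorem inC_symmDiff {s t : Finset GolayPt} (hs : inC s) (ht : inC t) : inC (symmDiff s t) := by
  unfold inC at *
  rw [mk_symmDiff]
  exact isCode_xor hs ht

theorem inC_empty : inC ∅ := by
  unfold inC
  rw [mk_empty]
  decide +kernel

theorem eq_empty_of_inC {s : Finset GolayPt} (hs : inC s) (h : s.card < 8) : s = ∅ := by
  unfold inC at hs
  rw [card_eq_popc] at h
  have := eq_zero_of_popc_lt hs h
  apply mk_injective
  rw [this, mk_empty]

theorem mem_octads_iff' {s : Finset GolayPt} : s ∈ octads ↔ inC s ∧ s.card = 8 := by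
  rw [mem_octads_iff, card_eq_popc]
  rfl

theorem card_cases {s : Finset GolayPt} (hs : inC s) :
    s.card = 0 ∨ s.card = 8 ∨ s.card = 12 ∨ s.card = 16 ∨ s.card = 24 := by
  rw [card_eq_popc]
  exact popc_cases hs

theorem card_symmDiff_add (s t : Finset GolayPt) :
    (symmDiff s t).card + 2 * (s ∩ t).card = s.card + t.card := by
  rw [card_eq_popc, card_eq_popc (s ∩ t), card_eq_popc s, card_eq_popc t, mk_symmDiff, mk_inter]
  exact popc_xor_add _ _

/-- two tetrads congruent modulo the code are equal or disjoint with union an octad -/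
theorem tetrads {u v : Finset GolayPt} (hu : u.card = 4) (hv : v.card = 4)
    (h : inC (symmDiff u v)) (hne : u ≠ v) : Disjoint u v ∧ u ∪ v ∈ octads := by
  have h1 := card_symmDiff_add u v
  have h2 := card_cases h
  have h3 : (symmDiff u v).card ≠ 0 := by
    intro h0
    rw [Finset.card_eq_zero] at h0
    exact hne (symmDiff_eq_bot.1 h0)
  have h4 : (u ∩ v).card = 0 := by omega
  have hd : Disjoint u v := by
    rw [Finset.disjoint_iff_inter_eq_empty, ← Finset.card_eq_zero]; exact h4
  refine ⟨hd, ?_⟩
  have he : symmDiff u v = u ∪ v := hd.symmDiff_eq_sup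
  rw [mem_octads_iff', ← he]
  exact ⟨h, by omega⟩

open Classical in
/-- the sextet of a tetrad -/
noncomputable def K (t : Finset GolayPt) : Finset (Finset GolayPt) :=
  Finset.univ.filter (fun u => u.card = 4 ∧ inC (symmDiff t u))

theorem mem_K {t u : Finset GolayPt} : u ∈ K t ↔ u.card = 4 ∧ inC (symmDiff t u) := by
  unfold K
  simp

theorem self_mem_K {t : Finset GolayPt} (ht : t.card = 4) : t ∈ K t := by
  rw [mem_K, symmDiff_self]
  exact ⟨ht, inC_empty⟩

theorem K_pair {t u v : Finset GolayPt} (hu : u ∈ K t) (hv : v ∈ K t) (hne : u ≠ v) :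
    Disjoint u v ∧ u ∪ v ∈ octads := by
  rw [mem_K] at hu hv
  apply tetrads hu.1 hv.1 _ hne
  have := inC_symmDiff hu.2 hv.2
  rwa [symmDiff_comm t u, symmDiff_assoc, symmDiff_symmDiff_cancel_left] at this

theorem card_pts : Fintype.card GolayPt = 24 := by decide

theorem card_K {t : Finset GolayPt} (ht : t.card = 4) : (K t).card = 6 := by
  classical
  have key : K t = insert t (((Steiner.blocks octads).filter (t ⊆ ·)).image (fun o => o \ t)) := by
    ext u
    rw [Finset.mem_insert, Finset.mem_image]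
    constructor
    · intro hu
      by_cases hut : u = t
      · exact Or.inl hut
      · right
        obtain ⟨hd, ho⟩ := K_pair (self_mem_K ht) hu (Ne.symm hut)
        refine ⟨t ∪ u, ?_, ?_⟩
        · rw [Finset.mem_filter, Steiner.mem_blocks]
          exact ⟨ho, Finset.subset_union_left⟩
        · rw [Finset.union_sdiff_cancel_left hd]
    · rintro (rfl | ⟨o, ho, rfl⟩)
      · exact self_mem_K ht
      · rw [Finset.mem_filter, Steiner.mem_blocks] at ho
        rw [mem_K]
        have h8 := (mem_octads_iff'.1 ho.1)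
        refine ⟨by rw [Finset.card_sdiff_of_subset ho.2, h8.2, ht], ?_⟩
        have : symmDiff t (o \ t) = o := by
          have he : symmDiff t (o \ t) = t ∪ (o \ t) :=
            Disjoint.symmDiff_eq_sup Finset.disjoint_sdiff
          rw [he]
          exact Finset.union_sdiff_of_subset ho.2
        rw [this]
        exact h8.1
  rw [key, Finset.card_insert_of_notMem, Finset.card_image_of_injOn,
    Steiner.card_blocks_containing' octads_steiner (by norm_num) t (by omega), ht, card_pts]
  · decide
  · intro o ho o' ho' h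
    rw [Finset.mem_coe, Finset.mem_filter] at ho ho'
    simp only at h
    rw [← Finset.union_sdiff_of_subset ho.2, h, Finset.union_sdiff_of_subset ho'.2]
  · intro hmem
    rw [Finset.mem_image] at hmem
    obtain ⟨o, _, ho⟩ := hmem
    have h1 : t ⊆ o \ t := by rw [ho]
    have hne : t.Nonempty := by rw [← Finset.card_pos]; omega
    obtain ⟨a, ha⟩ := hne
    exact (Finset.mem_sdiff.1 (h1 ha)).2 ha

theorem K_mem_sextets {t : Finset GolayPt} (ht : t.card = 4) : K t ∈ sextets :=
  ⟨card_K ht, fun _ hu => (mem_K.1 hu).1, fun _ hu _ hv hne => (K_pair hu hv hne).2⟩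

theorem eq_K {S : Finset (Finset GolayPt)} (hS : S ∈ sextets) {t : Finset GolayPt} (ht : t ∈ S) :
    S = K t := by
  obtain ⟨h6, h4, hU⟩ := hS
  apply Finset.eq_of_subset_of_card_le
  · intro u hu
    by_cases hut : u = t
    · rw [hut]; exact self_mem_K (h4 t ht)
    · have ho := hU t ht u hu (Ne.symm hut)
      rw [mem_octads_iff'] at ho
      have hd : Disjoint t u := by
        rw [← Finset.card_union_eq_card_add_card, ho.2, h4 t ht, h4 u hu]
      have he : symmDiff t u = t ∪ u := hd.symmDiff_eq_sup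
      rw [mem_K, he]
      exact ⟨h4 u hu, ho.1⟩
  · rw [card_K (h4 t ht), h6]

theorem existsUnique_sextet (t : Finset GolayPt) (ht : t.card = 4) :
    ∃! S : Finset (Finset GolayPt), S ∈ sextets ∧ t ∈ S :=
  ⟨K t, ⟨K_mem_sextets ht, self_mem_K ht⟩, fun _ hS => eq_K hS.1 hS.2⟩

theorem ncard_sextets : sextets.ncard = 1771 := by
  classical
  have hfin : sextets.Finite := Set.toFinite _
  rw [Set.ncard_eq_toFinset_card _ hfin]
  have key : (Finset.powersetCard 4 (Finset.univ : Finset GolayPt)) = hfin.toFinset.biUnion id := by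
    ext t
    rw [Finset.mem_powersetCard, Finset.mem_biUnion]
    constructor
    · rintro ⟨_, ht⟩
      exact ⟨K t, hfin.mem_toFinset.2 (K_mem_sextets ht), self_mem_K ht⟩
    · rintro ⟨S, hS, ht⟩
      exact ⟨Finset.subset_univ _, (hfin.mem_toFinset.1 hS).2.1 t ht⟩
  have h1 := congrArg Finset.card key
  rw [Finset.card_powersetCard, Finset.card_univ, card_pts, Finset.card_biUnion] at h1
  · have h6 : ∀ S ∈ hfin.toFinset, (id S : Finset (Finset GolayPt)).card = 6 :=
      fun S hS => (hfin.mem_toFinset.1 hS).1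
    rw [Finset.sum_congr rfl h6, Finset.sum_const, smul_eq_mul] at h1
    have : Nat.choose 24 4 = 10626 := by decide
    omega
  · intro S hS S' hS' hne
    change Disjoint S S'
    rw [Finset.mem_coe] at hS hS'
    rw [Finset.disjoint_left]
    intro t ht ht'
    apply hne
    rw [eq_K (hfin.mem_toFinset.1 hS) ht, eq_K (hfin.mem_toFinset.1 hS') ht']

theorem smul_mem_sextets {g : Equiv.Perm GolayPt} (hg : g ∈ M24) {S : Finset (Finset GolayPt)}
    (hS : S ∈ sextets) : g • S ∈ sextets := by
  obtain ⟨h6, h4, hU⟩ := hS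
  refine ⟨by rw [Finset.card_smul_finset, h6], ?_, ?_⟩
  · intro t ht
    obtain ⟨t', ht', rfl⟩ := Finset.mem_smul_finset.1 ht
    rw [Finset.card_smul_finset]
    exact h4 t' ht'
  · intro t ht u hu hne
    obtain ⟨t', ht', rfl⟩ := Finset.mem_smul_finset.1 ht
    obtain ⟨u', hu', rfl⟩ := Finset.mem_smul_finset.1 hu
    rw [← Finset.smul_finset_union]
    exact smul_mem_octads hg (hU t' ht' u' hu' (fun h => hne (by rw [h])))

theorem exists_smul_sextet {S S' : Finset (Finset GolayPt)} (hS : S ∈ sextets) (hS' : S' ∈ sextets) :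
    ∃ g ∈ M24, g • S = S' := by
  have hne : S.Nonempty := by rw [← Finset.card_pos, hS.1]; norm_num
  have hne' : S'.Nonempty := by rw [← Finset.card_pos, hS'.1]; norm_num
  obtain ⟨t, ht⟩ := hne
  obtain ⟨t', ht'⟩ := hne'
  have h4 := hS.2.1 t ht
  have h4' := hS'.2.1 t' ht'
  obtain ⟨g, hg, _, hgt⟩ := Small.exists_map_pair ∅ t t' (h4.trans h4'.symm) (by simp)
    (by rw [Finset.empty_union]; omega)
  refine ⟨g, hg, ?_⟩
  rw [eq_K (smul_mem_sextets hg hS) (t := t') (hgt ▸ Finset.smul_mem_smul_finset ht), eq_K hS' ht']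

end Cfsg.Agent.Lib.Helper3.Sext
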