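import Mathlib
import Cfsg.Agent.Lib.Helper3.Sextets
import Cfsg.Agent.S0354

/-!
# Trios: the complement of two disjoint octads is an octad; there are 3795 trios
-/

set_option autoImplicit false
open scoped Pointwise
open Cfsg

namespace Cfsg.Agent.Lib.Helper3.Trio

open Cfsg.Agent.Lib.Helper28 Cfsg.Agent.Lib.Helper3.M24T Cfsg.Agent.Lib.Helper3.Orb
open Cfsg.Agent.Lib.Helper3 Cfsg.Agent.Lib.Helper3.Sext

theorem inC_univ : inC Finset.univ := by
  unfold inC
  rw [mk_univ]
  decide +kernel

theorem compl_mem_octads {o o' : Finset GolayPt} (ho : o ∈ octads) (ho' : o' ∈ octads)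
    (hd : Disjoint o o') : (o ∪ o')ᶜ ∈ octads := by
  rw [mem_octads_iff'] at ho ho' ⊢
  constructor
  · have h1 : symmDiff o o' = o ∪ o' := hd.symmDiff_eq_sup
    have h2 := inC_symmDiff inC_univ (inC_symmDiff ho.1 ho'.1)
    rw [h1] at h2
    have h3 : symmDiff Finset.univ (o ∪ o') = (o ∪ o')ᶜ := by
      ext a
      simp [Finset.mem_symmDiff]
    rwa [h3] at h2
  · rw [Finset.card_compl, card_pts, Finset.card_union_of_disjoint hd, ho.2, ho'.2]

/-- the trio of two disjoint octads -/
def tr (p : Finset GolayPt × Finset GolayPt) : Finset (Finset GolayPt) := {p.1, p.2, (p.1 ∪ p.2)ᶜ}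

theorem ne_of_disjoint {o o' : Finset GolayPt} (ho : o.card = 8) (hd : Disjoint o o') : o ≠ o' := by
  rintro rfl
  rw [disjoint_self] at hd
  rw [hd] at ho
  simp at ho

theorem tr_mem_trios {o o' : Finset GolayPt} (ho : o ∈ octads) (ho' : o' ∈ octads)
    (hd : Disjoint o o') : tr (o, o') ∈ trios := by
  have hc := compl_mem_octads ho ho' hd
  have h8 := (mem_octads_iff'.1 ho).2
  have h8' := (mem_octads_iff'.1 ho').2
  have d1 : Disjoint o (o ∪ o')ᶜ := by
    rw [Finset.disjoint_left]
    intro a ha hac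
    exact (Finset.mem_compl.1 hac) (Finset.mem_union_left _ ha)
  have d2 : Disjoint o' (o ∪ o')ᶜ := by
    rw [Finset.disjoint_left]
    intro a ha hac
    exact (Finset.mem_compl.1 hac) (Finset.mem_union_right _ ha)
  have n1 := ne_of_disjoint h8 hd
  have n2 := ne_of_disjoint h8 d1
  have n3 := ne_of_disjoint h8' d2
  refine ⟨?_, ?_, ?_⟩
  · unfold tr
    rw [Finset.card_eq_three]
    exact ⟨o, o', _, n1, n2, n3, rfl⟩
  · intro x hx
    unfold tr at hx
    simp only [Finset.mem_insert, Finset.mem_singleton] at hx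
    rcases hx with rfl | rfl | rfl
    · exact ho
    · exact ho'
    · exact hc
  · intro x hx y hy hne
    unfold tr at hx hy
    simp only [Finset.mem_insert, Finset.mem_singleton] at hx hy
    rcases hx with rfl | rfl | rfl <;> rcases hy with rfl | rfl | rfl
    · exact absurd rfl hne
    · exact hd
    · exact d1
    · exact hd.symm
    · exact absurd rfl hne
    · exact d2
    · exact d1.symm
    · exact d2.symm
    · exact absurd rfl hne

theorem trio_eq {T : Finset (Finset GolayPt)} (hT : T ∈ trios) {o o' : Finset GolayPt} (ho : o ∈ T)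
    (ho' : o' ∈ T) (hne : o ≠ o') : T = tr (o, o') := by
  obtain ⟨h3, hoct, hdis⟩ := hT
  have hsub : ({o, o'} : Finset (Finset GolayPt)) ⊆ T := by
    intro x hx
    simp only [Finset.mem_insert, Finset.mem_singleton] at hx
    rcases hx with rfl | rfl
    · exact ho
    · exact ho'
  have hcard : (T \ {o, o'}).card = 1 := by
    rw [Finset.card_sdiff_of_subset hsub, h3, Finset.card_pair hne]
  obtain ⟨x, hx⟩ := Finset.card_eq_one.1 hcard
  have hxm : x ∈ T \ {o, o'} := by rw [hx]; exact Finset.mem_singleton_self _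
  rw [Finset.mem_sdiff, Finset.mem_insert, Finset.mem_singleton, not_or] at hxm
  obtain ⟨hxT, hxo, hxo'⟩ := hxm
  have d1 := hdis o ho x hxT (Ne.symm hxo)
  have d2 := hdis o' ho' x hxT (Ne.symm hxo')
  have d0 := hdis o ho o' ho' hne
  have h8 := (mem_octads_iff'.1 (hoct o ho)).2
  have h8' := (mem_octads_iff'.1 (hoct o' ho')).2
  have h8x := (mem_octads_iff'.1 (hoct x hxT)).2
  have hxc : x = (o ∪ o')ᶜ := by
    apply Finset.eq_of_subset_of_card_le
    · intro a ha
      rw [Finset.mem_compl, Finset.mem_union, not_or]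
      exact ⟨fun h => Finset.disjoint_left.1 d1 h ha, fun h => Finset.disjoint_left.1 d2 h ha⟩
    · rw [Finset.card_compl, card_pts, Finset.card_union_of_disjoint d0, h8, h8', h8x]
  symm
  apply Finset.eq_of_subset_of_card_le
  · intro y hy
    unfold tr at hy
    simp only [Finset.mem_insert, Finset.mem_singleton] at hy
    rcases hy with rfl | rfl | rfl
    · exact ho
    · exact ho'
    · rw [← hxc]; exact hxT
  · rw [h3, (tr_mem_trios (hoct o ho) (hoct o' ho') d0).1]

theorem ncard_trios : trios.ncard = 3795 := by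
  classical
  have hfin : trios.Finite := Set.toFinite _
  rw [Set.ncard_eq_toFinset_card _ hfin]
  set F := Steiner.blocks octads with hF
  have hFc : F.card = 759 := by rw [hF, ← Steiner.ncard_eq_card_blocks, ncard_octads]
  set P := F.sigma (fun o => F.filter (fun o' => Disjoint o o')) with hP
  have hPc : P.card = 759 * 30 := by
    rw [hP, Finset.card_sigma]
    have h30 : ∀ o ∈ F, (F.filter (fun o' => Disjoint o o')).card = 30 := by
      intro o ho
      rw [hF, ← Steiner.ncard_setOf_eq]
      exact Cfsg.Agent.S0354.result card_pts octads_steiner (Steiner.mem_blocks.1 ho)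
    rw [Finset.sum_congr rfl h30, Finset.sum_const, hFc, smul_eq_mul]
  have h2 := Finset.card_eq_sum_card_fiberwise (f := fun p : (_ : Finset GolayPt) × Finset GolayPt =>
    tr (p.1, p.2)) (s := P) (t := hfin.toFinset) (by
      intro p hp
      rw [Finset.mem_coe, hP, Finset.mem_sigma, Finset.mem_filter, Steiner.mem_blocks,
        Steiner.mem_blocks] at hp
      rw [Finset.mem_coe, hfin.mem_toFinset]
      exact tr_mem_trios hp.1 hp.2.1 hp.2.2)
  have h6 : ∀ T ∈ hfin.toFinset, (P.filter (fun p => tr (p.1, p.2) = T)).card = 6 := by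
    intro T hT
    rw [hfin.mem_toFinset] at hT
    have : (P.filter (fun p => tr (p.1, p.2) = T)).card = T.offDiag.card := by
      apply Finset.card_bij (fun p _ => (p.1, p.2))
      · intro p hp
        rw [Finset.mem_filter, hP, Finset.mem_sigma, Finset.mem_filter, Steiner.mem_blocks,
          Steiner.mem_blocks] at hp
        obtain ⟨⟨h1, h2, h3⟩, h4⟩ := hp
        rw [Finset.mem_offDiag, ← h4]
        refine ⟨by simp [tr], by simp [tr], ne_of_disjoint (mem_octads_iff'.1 h1).2 h3⟩
      · rintro ⟨a, b⟩ _ ⟨a', b'⟩ _ h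
        simp only [Prod.mk.injEq] at h
        obtain ⟨rfl, rfl⟩ := h
        rfl
      · rintro ⟨a, b⟩ hab
        rw [Finset.mem_offDiag] at hab
        refine ⟨⟨a, b⟩, ?_, rfl⟩
        rw [Finset.mem_filter, hP, Finset.mem_sigma, Finset.mem_filter, Steiner.mem_blocks,
          Steiner.mem_blocks]
        exact ⟨⟨hT.2.1 a hab.1, hT.2.1 b hab.2.1, hT.2.2 a hab.1 b hab.2.1 hab.2.2⟩,
          (trio_eq hT hab.1 hab.2.1 hab.2.2).symm⟩
    rw [this, Finset.offDiag_card, hT.1]
  rw [Finset.sum_congr rfl h6, Finset.sum_const, hPc, smul_eq_mul] at h2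
  omega

theorem smul_mem_trios {g : Equiv.Perm GolayPt} (hg : g ∈ M24) {T : Finset (Finset GolayPt)}
    (hT : T ∈ trios) : g • T ∈ trios := by
  obtain ⟨h3, hoct, hdis⟩ := hT
  refine ⟨by rw [Finset.card_smul_finset, h3], ?_, ?_⟩
  · intro t ht
    obtain ⟨t', ht', rfl⟩ := Finset.mem_smul_finset.1 ht
    exact smul_mem_octads hg (hoct t' ht')
  · intro t ht u hu hne
    obtain ⟨t', ht', rfl⟩ := Finset.mem_smul_finset.1 ht
    obtain ⟨u', hu', rfl⟩ := Finset.mem_smul_finset.1 hu
    rw [Finset.disjoint_iff_inter_eq_empty, ← Finset.smul_finset_inter,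
      Finset.disjoint_iff_inter_eq_empty.1 (hdis t' ht' u' hu' (fun h => hne (by rw [h]))),
      Finset.smul_finset_empty]

end Cfsg.Agent.Lib.Helper3.Trio
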