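import Mathlib
import Cfsg.Agent.Lib.Helper3.SetSys
import Cfsg.Agent.Lib.Helper3.Trios

/-!
# Set-system engine: recognising sextets / trios, stabiliser tests, singletons
-/

set_option autoImplicit false
open scoped Pointwise
open Cfsg

namespace Cfsg.Agent.Lib.Helper3.SS

open MulAction Cfsg.Agent.Lib.Helper28 Cfsg.Agent.Lib.Helper3.M24T Cfsg.Agent.Lib.Helper3.Orb

/-- test: the table is in `M24` and permutes the masks of `l0` -/
def inStabL (l0 : List ℕ) (t : List ℕ) : Bool :=
  inM24 t && (actL t l0).all (fun m => l0.contains m)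

theorem permOf_mem_stabIn_unL {l0 t : List ℕ} (hl : goodL l0) (h : inStabL l0 t = true) :
    isTbl t = true ∧ permOf t ∈ stabIn (unL l0) := by
  simp only [inStabL, Bool.and_eq_true, List.all_eq_true, List.contains_iff_mem] at h
  obtain ⟨h1, h2⟩ := h
  have ht := isTbl_of_inM24 h1
  refine ⟨ht, permOf_mem_M24 h1, ?_⟩
  change permOf t • unL l0 = unL l0
  apply Finset.eq_of_subset_of_card_le
  · rw [smul_unL ht hl]
    intro s hs
    obtain ⟨m, hm, rfl⟩ := mem_unL.1 hs
    exact mem_unL.2 ⟨m, h2 m hm, rfl⟩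
  · rw [Finset.card_smul_finset]

theorem gens_unL {l0 : List ℕ} (hl : goodL l0) {gens : List (List ℕ)}
    (h : gens.all (inStabL l0) = true) :
    ∀ t ∈ gens, isTbl t = true ∧ permOf t ∈ stabIn (unL l0) :=
  fun t ht => permOf_mem_stabIn_unL hl (List.all_eq_true.1 h t ht)

/-- test: the table is in `M24` and fixes the mask `m` -/
def inStabM (m : ℕ) (t : List ℕ) : Bool := inM24 t && decide (m < 2 ^ 24) && img t m == m

theorem gens_un {m : ℕ} {gens : List (List ℕ)} (h : gens.all (inStabM m) = true) :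
    ∀ t ∈ gens, isTbl t = true ∧ permOf t ∈ stabIn (un m) := by
  intro t ht
  have h1 := List.all_eq_true.1 h t ht
  simp only [inStabM, Bool.and_eq_true, decide_eq_true_eq, beq_iff_eq] at h1
  obtain ⟨⟨h1, h2⟩, h3⟩ := h1
  refine ⟨isTbl_of_inM24 h1, permOf_mem_M24 h1, ?_⟩
  change permOf t • un m = un m
  rw [permOf_smul_un (isTbl_of_inM24 h1) h2, h3]

/-- test for sextets -/
def isSextetL (l : List ℕ) : Bool :=
  decide (goodL l) && l.length == 6 && l.all (fun m => popc m == 4) &&
    l.all (fun m => l.all fun n => m == n || isOct (m ||| n))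

theorem unL_mem_sextets {l : List ℕ} (h : isSextetL l = true) : unL l ∈ sextets := by
  simp only [isSextetL, Bool.and_eq_true, decide_eq_true_eq, beq_iff_eq, List.all_eq_true,
    Bool.or_eq_true] at h
  obtain ⟨⟨⟨hl, h6⟩, h4⟩, hU⟩ := h
  refine ⟨by rw [card_unL hl, h6], ?_, ?_⟩
  · intro t ht
    obtain ⟨m, hm, rfl⟩ := mem_unL.1 ht
    rw [card_un, h4 m hm]
  · intro t ht u hu hne
    obtain ⟨m, hm, rfl⟩ := mem_unL.1 ht
    obtain ⟨n, hn, rfl⟩ := mem_unL.1 hu
    rcases hU m hm n hn with h | h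
    · exact absurd (by rw [h]) hne
    · rw [← un_lor]
      exact un_mem_octads h

/-- test for trios -/
def isTrioL (l : List ℕ) : Bool :=
  decide (goodL l) && l.length == 3 && l.all (fun m => isOct m) &&
    l.all (fun m => l.all fun n => m == n || (m &&& n) == 0)

theorem unL_mem_trios {l : List ℕ} (h : isTrioL l = true) : unL l ∈ trios := by
  simp only [isTrioL, Bool.and_eq_true, decide_eq_true_eq, beq_iff_eq, List.all_eq_true,
    Bool.or_eq_true] at h
  obtain ⟨⟨⟨hl, h3⟩, h8⟩, hU⟩ := h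
  refine ⟨by rw [card_unL hl, h3], ?_, ?_⟩
  · intro t ht
    obtain ⟨m, hm, rfl⟩ := mem_unL.1 ht
    exact un_mem_octads (h8 m hm)
  · intro t ht u hu hne
    obtain ⟨m, hm, rfl⟩ := mem_unL.1 ht
    obtain ⟨n, hn, rfl⟩ := mem_unL.1 hu
    rcases hU m hm n hn with h | h
    · exact absurd (by rw [h]) hne
    · rw [Finset.disjoint_iff_inter_eq_empty, ← un_land, h, un_zero]

/-- singletons -/
def sing (o : Finset GolayPt) : Finset (Finset GolayPt) := {o}

theorem sing_injective : Function.Injective sing := fun _ _ h => Finset.singleton_injective h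

theorem smul_sing (g : Equiv.Perm GolayPt) (o : Finset GolayPt) : g • sing o = sing (g • o) :=
  Finset.smul_finset_singleton o

theorem orbE_sing {β : Type*} [MulAction (Equiv.Perm GolayPt) β] (B : β) (X : Finset GolayPt) :
    orbE B (sing X) = sing '' orbE B X := by
  ext Y
  constructor
  · rintro ⟨g, hg, hgB, rfl⟩
    exact ⟨g • X, ⟨g, hg, hgB, rfl⟩, (smul_sing g X).symm⟩
  · rintro ⟨_, ⟨g, hg, hgB, rfl⟩, rfl⟩
    exact ⟨g, hg, hgB, smul_sing g X⟩

theorem ncard_orbE_sing {β : Type*} [MulAction (Equiv.Perm GolayPt) β] (B : β)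
    (X : Finset GolayPt) : (orbE B (sing X)).ncard = (orbE B X).ncard := by
  rw [orbE_sing, Set.ncard_image_of_injective _ sing_injective]

theorem unL_singleton (m : ℕ) : unL [m] = sing (un m) := by
  simp [unL, sing]

theorem smul_inv_sing (k : Equiv.Perm GolayPt) (m : ℕ) : k⁻¹ • unL [m] = sing (k⁻¹ • un m) := by
  rw [unL_singleton, smul_sing]

end Cfsg.Agent.Lib.Helper3.SS
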