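import Mathlib
import Cfsg.Agent.Lib.Helper3.SetSys2
import Cfsg.Agent.Lib.Helper3.OctOrb

/-!
# Set-system engine: general wrapper (objects of any type mapped equivariantly to sets of sets),
orders of the stabilisers of octads, sextets and trios
-/

set_option autoImplicit false
open scoped Pointwise
open Cfsg

namespace Cfsg.Agent.Lib.Helper3.SS

open MulAction Cfsg.Agent.Lib.Helper28 Cfsg.Agent.Lib.Helper3.M24T Cfsg.Agent.Lib.Helper3.Orb
open Cfsg.Agent.Lib.Helper3.Sext Cfsg.Agent.Lib.Helper3.Trio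

theorem orbits_main' {β γ : Type*} [MulAction (Equiv.Perm GolayPt) β]
    [MulAction (Equiv.Perm GolayPt) γ] (ι : γ → Finset (Finset GolayPt))
    (hι : ∀ (g : Equiv.Perm GolayPt) (x : γ), ι (g • x) = g • ι x) (B0 : β)
    (gens : List (List ℕ)) (hgens : ∀ t ∈ gens, isTbl t = true ∧ permOf t ∈ stabIn B0)
    (Obj : Set γ) (hfin : Obj.Finite) (hObj : ∀ g ∈ M24, ∀ x ∈ Obj, g • x ∈ Obj)
    (P : ℕ) (data : List Entry) (hdata : certOkL gens (codeL P) data = true)
    (X0 : List ℕ → γ) (hX : ∀ e ∈ data, X0 e.1 ∈ Obj ∧ ι (X0 e.1) = unL e.1)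
    (htot : Obj.ncard = ∑ i ∈ Finset.range data.length, (data.getD i default).2.2.length)
    (hpos : ∀ e ∈ data, e.2.2 ≠ [])
    (N : ℕ)
    (hnum : ∀ J ∈ (Finset.range data.length).powerset, ∀ i ∈ J,
      (∑ j ∈ J, (data.getD j default).2.2.length) ∣ N → J = {i})
    (k : Equiv.Perm GolayPt) (hk : k ∈ M24) (B : β) (hB : k • B = B0)
    (hN : Nat.card ↥(stabIn B) = N) :
    (∀ i < data.length, k⁻¹ • X0 (data.getD i default).1 ∈ Obj) ∧
    (∀ x ∈ Obj, ∃ i < data.length, x ∈ orbE B (k⁻¹ • X0 (data.getD i default).1)) ∧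
    (∀ i < data.length, orbE B (k⁻¹ • X0 (data.getD i default).1) =
      {x | x ∈ Obj ∧ code P (k • ι x) ∈ (data.getD i default).2.2.toFinset}) ∧
    (∀ i < data.length, (orbE B (k⁻¹ • X0 (data.getD i default).1)).ncard =
      (data.getD i default).2.2.length) := by
  simp only [certOkL, Bool.and_eq_true, List.all_eq_true] at hdata
  obtain ⟨hent, hdis⟩ := hdata
  have hmem : ∀ i < data.length, data.getD i default ∈ data := by
    intro i hi
    rw [List.getD_eq_getElem _ _ hi]
    exact List.getElem_mem hi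
  have hes := fun i (hi : i < data.length) =>
    entry_sound (stabIn B0) gens hgens (codeL P) _ (hent _ (hmem i hi))
  have hcardD : ∀ i < data.length, ((data.getD i default).2.2.toFinset).card =
      (data.getD i default).2.2.length := fun i hi =>
    List.toFinset_card_of_nodup (hes i hi).2.1
  have hkinv : k⁻¹ ∈ M24 := M24.inv_mem hk
  have hBk : B = k⁻¹ • B0 := by rw [← hB, inv_smul_smul]
  have key := OrbCert.orbits_of_cert (G := ↥(stabIn B)) Obj hfin
    (fun g x hx => hObj g.1 g.2.1 x hx) data.length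
    (fun i => k⁻¹ • X0 (data.getD i default).1)
    (fun i hi => hObj _ hkinv _ (hX _ (hmem i hi)).1)
    (fun x => code P (k • ι x)) (fun i => (data.getD i default).2.2.toFinset)
    (by
      intro i hi c hc
      rw [List.mem_toFinset] at hc
      obtain ⟨h, hh, l', hl', hgl, hcl⟩ := (hes i hi).2.2 c hc
      refine ⟨⟨k⁻¹ * h * k, M24.mul_mem (M24.mul_mem hkinv hh.1) hk, ?_⟩, ?_⟩
      · change (k⁻¹ * h * k) • B = B
        rw [mul_smul, mul_smul, hB, (mem_stabIn.1 hh).2, hBk]
      · change code P (k • ι ((k⁻¹ * h * k) • (k⁻¹ • X0 (data.getD i default).1))) = c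
        rw [mul_smul, mul_smul, smul_inv_smul, hι, smul_inv_smul, hι, (hX _ (hmem i hi)).2, hgl,
          code_unL P hl', hcl])
    (by
      intro i hi j hj hij
      have hp := disjOk_sound data hdis
      rw [List.getD_eq_getElem _ _ hi, List.getD_eq_getElem _ _ hj]
      rcases lt_or_gt_of_ne hij with h | h
      · exact List.pairwise_iff_getElem.1 hp i j hi hj h
      · exact (List.pairwise_iff_getElem.1 hp j i hj hi h).symm)
    (by
      rw [htot]
      exact Finset.sum_congr rfl (fun i hi => (hcardD i (Finset.mem_range.1 hi)).symm))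
    (by
      intro i hi
      have := hpos _ (hmem i hi)
      obtain ⟨c, hc⟩ := List.exists_mem_of_ne_nil _ this
      exact ⟨c, List.mem_toFinset.2 hc⟩)
    (by
      intro J hJ i hiJ hdvd
      apply hnum J hJ i hiJ
      rw [← hN]
      have : ∑ j ∈ J, (data.getD j default).2.2.length =
          ∑ j ∈ J, ((data.getD j default).2.2.toFinset).card :=
        Finset.sum_congr rfl (fun j hj =>
          (hcardD j (Finset.mem_range.1 (Finset.mem_powerset.1 hJ hj))).symm)
      rw [this]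
      exact hdvd)
  obtain ⟨_, k2, k3, k4⟩ := key
  refine ⟨fun i hi => hObj _ hkinv _ (hX _ (hmem i hi)).1, ?_, ?_, ?_⟩
  · intro x hx
    obtain ⟨i, hi, hc⟩ := k2 x hx
    refine ⟨i, hi, ?_⟩
    rw [← orbit_stabIn, k3 i hi]
    exact ⟨hx, hc⟩
  · intro i hi
    rw [← orbit_stabIn]
    exact k3 i hi
  · intro i hi
    rw [← orbit_stabIn, k4 i hi, hcardD i hi]

/-! ### assembling unions -/

theorem union3 {γ : Type*} {Obj : Set γ} {O : ℕ → Set γ} (h2 : ∀ x ∈ Obj, ∃ i < 3, x ∈ O i)
    (h3 : ∀ i < 3, O i ⊆ Obj) : Obj = O 0 ∪ O 1 ∪ O 2 := by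
  ext x
  constructor
  · intro hx
    obtain ⟨i, hi, hxi⟩ := h2 x hx
    interval_cases i
    · exact Or.inl (Or.inl hxi)
    · exact Or.inl (Or.inr hxi)
    · exact Or.inr hxi
  · rintro ((hx | hx) | hx)
    · exact h3 0 (by norm_num) hx
    · exact h3 1 (by norm_num) hx
    · exact h3 2 (by norm_num) hx

theorem union4 {γ : Type*} {Obj : Set γ} {O : ℕ → Set γ} (h2 : ∀ x ∈ Obj, ∃ i < 4, x ∈ O i)
    (h3 : ∀ i < 4, O i ⊆ Obj) : Obj = O 0 ∪ O 1 ∪ O 2 ∪ O 3 := by
  ext x
  constructor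
  · intro hx
    obtain ⟨i, hi, hxi⟩ := h2 x hx
    interval_cases i
    · exact Or.inl (Or.inl (Or.inl hxi))
    · exact Or.inl (Or.inl (Or.inr hxi))
    · exact Or.inl (Or.inr hxi)
    · exact Or.inr hxi
  · rintro (((hx | hx) | hx) | hx)
    · exact h3 0 (by norm_num) hx
    · exact h3 1 (by norm_num) hx
    · exact h3 2 (by norm_num) hx
    · exact h3 3 (by norm_num) hx

theorem union5 {γ : Type*} {Obj : Set γ} {O : ℕ → Set γ} (h2 : ∀ x ∈ Obj, ∃ i < 5, x ∈ O i)
    (h3 : ∀ i < 5, O i ⊆ Obj) : Obj = O 0 ∪ O 1 ∪ O 2 ∪ O 3 ∪ O 4 := by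
  ext x
  constructor
  · intro hx
    obtain ⟨i, hi, hxi⟩ := h2 x hx
    interval_cases i
    · exact Or.inl (Or.inl (Or.inl (Or.inl hxi)))
    · exact Or.inl (Or.inl (Or.inl (Or.inr hxi)))
    · exact Or.inl (Or.inl (Or.inr hxi))
    · exact Or.inl (Or.inr hxi)
    · exact Or.inr hxi
  · rintro ((((hx | hx) | hx) | hx) | hx)
    · exact h3 0 (by norm_num) hx
    · exact h3 1 (by norm_num) hx
    · exact h3 2 (by norm_num) hx
    · exact h3 3 (by norm_num) hx
    · exact h3 4 (by norm_num) hx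

/-! ### octads as objects -/

/-- test for a single octad -/
def isOctL : List ℕ → Bool
  | [m] => isOct m
  | _ => false

theorem isOctL_sound {l : List ℕ} (h : isOctL l = true) :
    un (l.headD 0) ∈ octads ∧ sing (un (l.headD 0)) = unL l := by
  match l, h with
  | [m], h => exact ⟨un_mem_octads h, (unL_singleton m).symm⟩

/-! ### orders of stabilisers -/

theorem card_stabIn_octad {o : Finset GolayPt} (ho : o ∈ octads) :
    Nat.card ↥(stabIn o) = 322560 := by
  obtain ⟨k, hk, hkB⟩ := exists_M24_smul_octad ho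
  have h1 := card_stabIn o
  have h2 : {Y | ∃ g ∈ M24, g • o = Y} = octads := by
    ext Y
    constructor
    · rintro ⟨g, hg, rfl⟩
      exact smul_mem_octads hg ho
    · intro hY
      obtain ⟨g, hg, hgY⟩ := exists_M24_smul_octad hY
      exact ⟨g⁻¹ * k, M24.mul_mem (M24.inv_mem hg) hk, by rw [mul_smul, hkB, ← hgY, inv_smul_smul]⟩
  rw [h2, ncard_octads] at h1
  omega

theorem card_stabIn_sextet {S : Finset (Finset GolayPt)} (hS : S ∈ sextets) :
    Nat.card ↥(stabIn S) = 138240 := by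
  have h1 := card_stabIn S
  have h2 : {Y | ∃ g ∈ M24, g • S = Y} = sextets := by
    ext Y
    constructor
    · rintro ⟨g, hg, rfl⟩
      exact smul_mem_sextets hg hS
    · intro hY
      exact exists_smul_sextet hS hY
  rw [h2, ncard_sextets] at h1
  omega

theorem exists_smul_trio {T T' : Finset (Finset GolayPt)} (hT : T ∈ trios) (hT' : T' ∈ trios) :
    ∃ g ∈ M24, g • T = T' := by
  have two : ∀ T : Finset (Finset GolayPt), T ∈ trios → ∃ a ∈ T, ∃ b ∈ T, a ≠ b := by
    intro T hT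
    have : 1 < T.card := by rw [hT.1]; norm_num
    obtain ⟨a, ha, b, hb, hab⟩ := Finset.one_lt_card.1 this
    exact ⟨a, ha, b, hb, hab⟩
  obtain ⟨a, ha, b, hb, hab⟩ := two T hT
  obtain ⟨a', ha', b', hb', hab'⟩ := two T' hT'
  obtain ⟨g1, hg1, h1⟩ := exists_M24_smul_octad (hT.2.1 a ha)
  obtain ⟨g2, hg2, h2⟩ := exists_M24_smul_octad (hT'.2.1 a' ha')
  set g := g2⁻¹ * g1 with hg
  have hgM : g ∈ M24 := M24.mul_mem (M24.inv_mem hg2) hg1
  have hga : g • a = a' := by rw [hg, mul_smul, h1, ← h2, inv_smul_smul]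
  have d1 : Disjoint a' (g • b) := by
    rw [← hga, Finset.disjoint_iff_inter_eq_empty, ← Finset.smul_finset_inter,
      Finset.disjoint_iff_inter_eq_empty.1 (hT.2.2 a ha b hb hab), Finset.smul_finset_empty]
  have d2 : Disjoint a' b' := hT'.2.2 a' ha' b' hb' hab'
  obtain ⟨h, hh, hha, hhb⟩ := OctOrb.same_orbit (hT'.2.1 a' ha') (smul_mem_octads hgM (hT.2.1 b hb))
    (hT'.2.1 b' hb') (by
      rw [Finset.disjoint_iff_inter_eq_empty.1 d1, Finset.disjoint_iff_inter_eq_empty.1 d2])
  refine ⟨h * g, M24.mul_mem hh hgM, ?_⟩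
  have hT2 := smul_mem_trios (M24.mul_mem hh hgM) hT
  have m1 : a' ∈ (h * g) • T := by
    have := Finset.smul_mem_smul_finset (a := h * g) ha
    rwa [mul_smul h g a, hga, hha] at this
  have m2 : b' ∈ (h * g) • T := by
    have := Finset.smul_mem_smul_finset (a := h * g) hb
    rwa [mul_smul h g b, hhb] at this
  rw [trio_eq hT2 m1 m2 hab', trio_eq hT' ha' hb' hab']

theorem card_stabIn_trio {T : Finset (Finset GolayPt)} (hT : T ∈ trios) :
    Nat.card ↥(stabIn T) = 64512 := by
  have h1 := card_stabIn T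
  have h2 : {Y | ∃ g ∈ M24, g • T = Y} = trios := by
    ext Y
    constructor
    · rintro ⟨g, hg, rfl⟩
      exact smul_mem_trios hg hT
    · intro hY
      exact exists_smul_trio hT hY
  rw [h2, ncard_trios] at h1
  omega

end Cfsg.Agent.Lib.Helper3.SS
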