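import Mathlib
import Cfsg.Agent.Lib.Helper3.SetSys3

/-!
# The stabiliser of an octad: `2^4 : A_8`
-/

set_option autoImplicit false
open scoped Pointwise
open Cfsg

namespace Cfsg.Agent.Lib.Helper3.OctStab

open MulAction Cfsg.Agent.Lib.Helper28 Cfsg.Agent.Lib.Helper3.M24T Cfsg.Agent.Lib.Helper3.Orb
open Cfsg.Agent.Lib.Helper3.SS

/-- conjugate subgroups have the same order -/
theorem card_conj {G : Type*} [Group G] (A B : Subgroup G) (k : G)
    (h : ∀ g, g ∈ A ↔ k * g * k⁻¹ ∈ B) : Nat.card ↥A = Nat.card ↥B := by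
  apply Nat.card_congr
  exact
    { toFun := fun g => ⟨k * g.1 * k⁻¹, (h g.1).1 g.2⟩
      invFun := fun g => ⟨k⁻¹ * g.1 * k, (h _).2 (by
        have : k * (k⁻¹ * g.1 * k) * k⁻¹ = g.1 := by group
        rw [this]; exact g.2)⟩
      left_inv := fun g => by
        apply Subtype.ext
        change k⁻¹ * (k * g.1 * k⁻¹) * k = g.1
        group
      right_inv := fun g => by
        apply Subtype.ext
        change k * (k⁻¹ * g.1 * k) * k⁻¹ = g.1
        group }

/-- the pointwise stabiliser of `o` in `M24` -/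
def fixO (o : Finset GolayPt) : Subgroup (Equiv.Perm GolayPt) :=
  M24 ⊓ fixingSubgroup (Equiv.Perm GolayPt) (o : Set GolayPt)

theorem mem_fixO {o : Finset GolayPt} {g : Equiv.Perm GolayPt} :
    g ∈ fixO o ↔ g ∈ M24 ∧ ∀ p ∈ o, g p = p := by
  unfold fixO
  rw [Subgroup.mem_inf, mem_fixingSubgroup_iff]
  rfl

theorem U7_fix : ∀ u ∈ U7, ∀ j < 24, O5.testBit j = true → u.getD j 0 = j := by decide +kernel

theorem fixO_base : fixO (un O5) = stabL [23, 0, 1, 2, 3, 5] := by
  ext g
  rw [mem_fixO, mem_stabL]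
  constructor
  · rintro ⟨hg, hf⟩
    refine ⟨hg, fun i hi => hf _ ?_⟩
    rw [mem_un]
    have : ∀ i ∈ [23, 0, 1, 2, 3, 5], i < 24 ∧ O5.testBit i = true := by decide
    rw [idx_ptOf (this i hi).1]
    exact (this i hi).2
  · intro hg
    refine ⟨hg.1, fun p hp => ?_⟩
    obtain ⟨u, hu, hu1, rfl⟩ := stab6_enum ((mem_stabL _ _).2 hg)
    rw [mem_un] at hp
    rw [permOf_apply (isTbl_of_inM24 hu1), U7_fix u hu _ (idx_lt p) hp, ptOf_idx]

theorem fixO_conj {o : Finset GolayPt} {k : Equiv.Perm GolayPt} (hk : k ∈ M24)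
    (g : Equiv.Perm GolayPt) : g ∈ fixO o ↔ k * g * k⁻¹ ∈ fixO (k • o) := by
  rw [mem_fixO, mem_fixO]
  constructor
  · rintro ⟨hg, hf⟩
    refine ⟨M24.mul_mem (M24.mul_mem hk hg) (M24.inv_mem hk), fun p hp => ?_⟩
    have hp' : k⁻¹ p ∈ o := by
      rw [← mem_smul_finset_iff k]
      simpa using hp
    simp only [Equiv.Perm.mul_apply]
    rw [hf _ hp']
    simp
  · rintro ⟨hg, hf⟩
    constructor
    · have := M24.mul_mem (M24.mul_mem (M24.inv_mem hk) hg) hk
      have e : k⁻¹ * (k * g * k⁻¹) * k = g := by group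
      rwa [e] at this
    · intro p hp
      have := hf (k p) ((mem_smul_finset_iff k o p).2 hp)
      simp only [Equiv.Perm.mul_apply] at this
      have e : k⁻¹ (k p) = p := by simp
      rw [e] at this
      exact k.injective this

theorem card_fixO {o : Finset GolayPt} (ho : o ∈ octads) : Nat.card ↥(fixO o) = 16 := by
  obtain ⟨k, hk, hko⟩ := exists_M24_smul_octad ho
  rw [card_conj (fixO o) (fixO (un O5)) k (fun g => by rw [← hko]; exact fixO_conj hk g),
    fixO_base, card_stabL6]

theorem mem_iff_of_smul {o : Finset GolayPt} {g : Equiv.Perm GolayPt} (h : g • o = o)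
    (x : GolayPt) : g x ∈ o ↔ x ∈ o := by
  conv_lhs => rw [← h]
  exact mem_smul_finset_iff g o x

theorem smul_of_mem_iff {o : Finset GolayPt} {g : Equiv.Perm GolayPt}
    (h : ∀ x, g x ∈ o ↔ x ∈ o) : g • o = o := by
  ext x
  rw [← Finset.inv_smul_mem_iff, ← h]
  simp

/-- the action of the octad stabiliser on the octad -/
def rho (o : Finset GolayPt) : ↥(stabIn o) →* Equiv.Perm ↥o where
  toFun g := (g : Equiv.Perm GolayPt).subtypePerm (mem_iff_of_smul g.2.2)
  map_one' := by ext; rfl
  map_mul' := by intros; ext; rfl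

theorem card_ker_rho {o : Finset GolayPt} (ho : o ∈ octads) : Nat.card ↥(rho o).ker = 16 := by
  rw [← card_fixO ho]
  apply Nat.card_congr
  exact
    { toFun := fun g => ⟨g.1.1, mem_fixO.2 ⟨g.1.2.1, fun p hp => by
        have := g.2
        rw [MonoidHom.mem_ker] at this
        have h2 := congrArg (fun e : Equiv.Perm ↥o => ((e ⟨p, hp⟩ : ↥o) : GolayPt)) this
        exact h2⟩⟩
      invFun := fun g => ⟨⟨g.1, (mem_fixO.1 g.2).1, by
          change g.1 • o = o
          apply smul_of_mem_iff
          intro x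
          constructor
          · intro hx
            have := (mem_fixO.1 g.2).2 _ hx
            have h3 := g.1.injective this
            rw [← h3]; exact hx
          · intro hx
            rw [(mem_fixO.1 g.2).2 _ hx]; exact hx⟩, by
          rw [MonoidHom.mem_ker]
          apply Equiv.ext
          rintro ⟨p, hp⟩
          apply Subtype.ext
          exact (mem_fixO.1 g.2).2 p hp⟩
      left_inv := fun _ => rfl
      right_inv := fun _ => rfl }

theorem range_rho {o : Finset GolayPt} (ho : o ∈ octads) : (rho o).range = alternatingGroup ↥o := by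
  apply Equiv.Perm.eq_alternatingGroup_of_index_eq_two
  have h1 := Subgroup.index_ker (rho o)
  have h2 := Subgroup.index_mul_card (rho o).ker
  rw [card_ker_rho ho, card_stabIn_octad ho, h1] at h2
  have h3 := Subgroup.index_mul_card (rho o).range
  have h8 : o.card = 8 := by
    rw [mem_octads_iff, ← card_eq_popc] at ho; exact ho.2
  have h4 : Nat.card (Equiv.Perm ↥o) = 40320 := by
    rw [Nat.card_eq_fintype_card, Fintype.card_perm, Fintype.card_coe, h8]
    rfl
  rw [h4] at h3
  have h5 : Nat.card ↥(rho o).range = 20160 := by omega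
  rw [h5] at h3
  omega

end Cfsg.Agent.Lib.Helper3.OctStab
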