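import Mathlib

/-!
# Orbit–stabiliser bookkeeping for iterated stabilisers
-/

namespace Cfsg.Agent.Lib.Helper3.StabCard

open MulAction

theorem card_stabilizer_mul_orbit {G X : Type*} [Group G] [MulAction G X] (a : X) :
    Nat.card ↥(stabilizer G a) * (orbit G a).ncard = Nat.card G := by
  rw [← index_stabilizer, mul_comm, Subgroup.index_mul_card]

/-- `|H ∩ G_b| · |b^H| = |H|` -/
theorem card_inf_stabilizer_mul {G X : Type*} [Group G] [MulAction G X] (H : Subgroup G) (b : X) :
    Nat.card ↥(H ⊓ stabilizer G b) * (orbit ↥H b).ncard = Nat.card ↥H := by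
  have h3 : Nat.card ↥(stabilizer ↥H b) = Nat.card ↥(H ⊓ stabilizer G b) := by
    apply Nat.card_congr
    exact
      { toFun := fun g => ⟨g.1.1, g.1.2, g.2⟩
        invFun := fun g => ⟨⟨g.1, g.2.1⟩, g.2.2⟩
        left_inv := fun _ => rfl
        right_inv := fun _ => rfl }
  rw [← h3]
  exact card_stabilizer_mul_orbit (G := ↥H) b

end Cfsg.Agent.Lib.Helper3.StabCard
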