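import Mathlib
import Cfsg.Agent.Lib.Helper28.M24Cls2
import Cfsg.Agent.Lib.Helper3.AutPerm
import Cfsg.Agent.Lib.Helper3.OctStab
import Cfsg.Agent.Lib.Helper3.StabCard

/-!
# Fixed points of elements of `M24`, orbit sizes of subgroups
-/

set_option autoImplicit false

namespace Cfsg.Agent.Lib.Helper3.AutFix

open MulAction Subgroup Cfsg Cfsg.Agent.Lib.Helper28 Cfsg.Agent.Lib.Helper3.M24T
open Cfsg.Agent.Lib.Helper3.AutP
open scoped Pointwise

theorem check_fix48 : list48.all (fun T => T == idT ||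
    (decide (popc (fixMask T) ≤ 8) && (popc (fixMask T) != 8 || isOct (fixMask T)))) = true := by
  decide +kernel

/-- a non-identity element of `M24` fixes at most 8 points, and if 8 they form an octad -/
theorem fix_aux {g : Equiv.Perm GolayPt} (hg : g ∈ M24) (h1 : g ≠ 1) :
    (fixSet g).card ≤ 8 ∧ ((fixSet g).card = 8 → fixSet g ∈ octads) := by
  by_cases h5 : 5 ≤ (fixSet g).card
  · obtain ⟨s, hs, hs5⟩ := Finset.exists_subset_card_eq h5
    obtain ⟨k, hk, h⟩ := exists_M24_map_base s.toList (by simp [hs5]) s.nodup_toList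
    have hc : k * g * k⁻¹ ∈ stabL [23, 0, 1, 2, 3] := by
      rw [mem_stabL]
      refine ⟨conj_mem hk hg, fun i hi => ?_⟩
      have h2 : ptOf i ∈ s.toList.map k := by
        rw [h]
        simp only [Finset.length_toList, hs5]
        exact List.mem_map_of_mem hi
      obtain ⟨q, hq, hq2⟩ := List.mem_map.1 h2
      rw [← hq2, conj_apply, mem_fixSet.1 (hs (Finset.mem_toList.1 hq))]
    have hm := List.all_eq_true.1 check_fix48 _ (tblOf_mem_list48 hc)
    simp only [Bool.or_eq_true, beq_iff_eq, Bool.and_eq_true, decide_eq_true_eq, bne_iff_ne] at hm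
    rcases hm with hm | ⟨hm1, hm2⟩
    · exfalso
      apply h1
      rw [← tblOf_one] at hm
      have := tblOf_injective hm
      have e : g = k⁻¹ * (k * g * k⁻¹) * k := by group
      rw [e, this]; simp
    · rw [← card_fixSet, card_fixSet_conj] at hm1 hm2
      refine ⟨hm1, fun h8 => ?_⟩
      rcases hm2 with hm2 | hm2
      · exact absurd h8 hm2
      · have h3 := un_mem_octads hm2
        rw [← fixSet_eq_un, fixSet_conj] at h3
        have := inv_smul_mem_octads hk h3
        rwa [inv_smul_smul] at this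
  · exact ⟨by omega, fun h => by omega⟩

theorem eq_one_of_nine {g : Equiv.Perm GolayPt} (hg : g ∈ M24) (h : 9 ≤ (fixSet g).card) : g = 1 := by
  by_contra h1
  have := (fix_aux hg h1).1
  omega

/-- every octad is the fixed point set of a non-identity element -/
theorem exists_fix_octad {o : Finset GolayPt} (ho : o ∈ octads) :
    ∃ g ∈ M24, g ≠ 1 ∧ fixSet g = o := by
  have hc := OctStab.card_fixO ho
  have hnt : Nontrivial ↥(OctStab.fixO o) := by
    rw [← Finite.one_lt_card_iff_nontrivial, hc]; norm_num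
  obtain ⟨g, hg⟩ := exists_ne (1 : ↥(OctStab.fixO o))
  have hg2 := OctStab.mem_fixO.1 g.2
  have hne : (g : Equiv.Perm GolayPt) ≠ 1 := fun h => hg (Subtype.ext h)
  refine ⟨g, hg2.1, hne, ?_⟩
  symm
  apply Finset.eq_of_subset_of_card_le
  · intro p hp
    exact mem_fixSet.2 (hg2.2 p hp)
  · rw [ho.2]
    exact (fix_aux hg2.1 hne).1

theorem card_pts : Fintype.card GolayPt = 24 := by decide

theorem fix_prime {g : Equiv.Perm GolayPt} (hg : g ∈ M24) {p : ℕ} [hp : Fact p.Prime]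
    (ho : orderOf g = p) : (fixSet g).card ≤ 8 ∧ 24 % p = (fixSet g).card % p := by
  have h1 : g ≠ 1 := by
    rintro rfl
    rw [orderOf_one] at ho
    exact hp.out.one_lt.ne ho
  refine ⟨(fix_aux hg h1).1, ?_⟩
  have := card_modEq_fix g p (by rw [← ho, pow_orderOf_eq_one]) Finset.univ (fun _ _ => Finset.mem_univ _)
  rw [Finset.card_univ, card_pts] at this
  exact this

theorem exists_order (K : Subgroup (Equiv.Perm GolayPt)) (p : ℕ) [hp : Fact p.Prime]
    (h : p ∣ Nat.card K) : ∃ g ∈ K, orderOf g = p := by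
  obtain ⟨x, hx⟩ := exists_prime_orderOf_dvd_card' p h
  exact ⟨x, x.2, by rw [Subgroup.orderOf_coe, hx]⟩

/-- information on an orbit size from an element of order `p` -/
theorem orbit_info (K : Subgroup (Equiv.Perm GolayPt)) (hK : K ≤ M24) (A : Finset GolayPt)
    (hA : ∀ k ∈ K, ∀ a ∈ A, k a = a) (x : GolayPt) (hx : x ∉ A) (p : ℕ) [hp : Fact p.Prime]
    (h : p ∣ Nat.card K) :
    ∃ c r, c ≤ 8 ∧ 24 % p = c % p ∧ r + A.card ≤ c ∧ (orbit K x).ncard % p = r % p := by
  obtain ⟨g, hgK, ho⟩ := exists_order K p h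
  obtain ⟨r, h1, _, h3⟩ := orbit_mod K A hA x hx g hgK p (by rw [← ho, pow_orderOf_eq_one])
  obtain ⟨h4, h5⟩ := fix_prime (hK hgK) ho
  exact ⟨_, r, h4, h5, h1, h3⟩

/-- the same for the orbit of a fixed point of the element of order `p` -/
theorem orbit_info' (K : Subgroup (Equiv.Perm GolayPt)) (hK : K ≤ M24) (A : Finset GolayPt)
    (hA : ∀ k ∈ K, ∀ a ∈ A, k a = a) (p : ℕ) [hp : Fact p.Prime]
    (h : p ∣ Nat.card K) (hlt : ∀ c ≤ 8, 24 % p = c % p → A.card < c) :
    ∃ x, x ∉ A ∧ ∃ c r, c ≤ 8 ∧ 24 % p = c % p ∧ r + A.card ≤ c ∧ 1 ≤ r ∧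
      (orbit K x).ncard % p = r % p := by
  obtain ⟨g, hgK, ho⟩ := exists_order K p h
  obtain ⟨h4, h5⟩ := fix_prime (hK hgK) ho
  obtain ⟨x, hx1, hx2⟩ := Finset.exists_mem_notMem_of_card_lt_card (hlt _ h4 h5)
  obtain ⟨r, h1, h2, h3⟩ := orbit_mod K A hA x hx2 g hgK p (by rw [← ho, pow_orderOf_eq_one])
  exact ⟨x, hx2, _, r, h4, h5, h1, h2 (mem_fixSet.1 hx1), h3⟩

theorem exists_not_mem (A : Finset GolayPt) (h : A.card < 24) : ∃ b, b ∉ A := by
  by_contra hc
  push Not at hc
  have : A = Finset.univ := Finset.eq_univ_iff_forall.2 hc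
  rw [this, Finset.card_univ, card_pts] at h
  omega

/-- passing to the stabiliser of a further point -/
theorem step (K : Subgroup (Equiv.Perm GolayPt)) (A : Finset GolayPt)
    (hA : ∀ k ∈ K, ∀ a ∈ A, k a = a) (x : GolayPt) :
    (∀ k ∈ K ⊓ stabilizer (Equiv.Perm GolayPt) x, ∀ a ∈ insert x A, k a = a) ∧
      Nat.card ↥(K ⊓ stabilizer (Equiv.Perm GolayPt) x) * (orbit K x).ncard = Nat.card K := by
  refine ⟨?_, StabCard.card_inf_stabilizer_mul K x⟩
  intro k hk a ha
  rw [Finset.mem_insert] at ha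
  rcases ha with rfl | ha
  · exact hk.2
  · exact hA k hk.1 a ha

theorem fixes_of_orbit_one (K : Subgroup (Equiv.Perm GolayPt)) (x : GolayPt)
    (h : (orbit K x).ncard = 1) : ∀ k ∈ K, k x = x := by
  intro k hk
  obtain ⟨b, hb⟩ := Set.ncard_eq_one.1 h
  have h1 : x ∈ orbit K x := mem_orbit_self x
  have h2 : k x ∈ orbit K x := ⟨⟨k, hk⟩, rfl⟩
  rw [hb, Set.mem_singleton_iff] at h1 h2
  rw [h2, h1]

end Cfsg.Agent.Lib.Helper3.AutFix
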