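import Mathlib
import Cfsg.Agent.Lib.Helper3.AutFix

/-!
# Subgroups of `M24`, `M23`, `M22` of the order of a point stabiliser fix a point
-/

set_option autoImplicit false

namespace Cfsg.Agent.Lib.Helper3.AutIdx

open MulAction Subgroup Cfsg Cfsg.Agent.Lib.Helper28 Cfsg.Agent.Lib.Helper3.M24T
open Cfsg.Agent.Lib.Helper3.AutP Cfsg.Agent.Lib.Helper3.AutFix
open scoped Pointwise

/-- in a group of order 40 some involution commutes with some element of order 5 -/
theorem forty {K : Type*} [Group K] (hc : Nat.card K = 40) :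
    ∃ g t : K, orderOf g = 5 ∧ orderOf t = 2 ∧ t * g * t⁻¹ = g := by
  have : Fact (Nat.Prime 5) := ⟨by norm_num⟩
  have : Fact (Nat.Prime 2) := ⟨by norm_num⟩
  have : Finite K := Nat.finite_of_card_ne_zero (by omega)
  let P : Sylow 5 K := default
  have hP : Nat.card (P : Subgroup K) = 5 := by
    rw [Sylow.card_eq_multiplicity, hc]
    decide +kernel
  have hidx : (P : Subgroup K).index = 8 := by
    have := (P : Subgroup K).card_mul_index
    rw [hP, hc] at this
    omega
  have h1 := card_sylow_modEq_one 5 K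
  have h2 := P.card_dvd_index
  rw [hidx] at h2
  have hone : Nat.card (Sylow 5 K) = 1 := by
    have hle := Nat.le_of_dvd (by norm_num) h2
    unfold Nat.ModEq at h1
    generalize Nat.card (Sylow 5 K) = n at *
    interval_cases n <;> omega
  have : Subsingleton (Sylow 5 K) := (Nat.card_eq_one_iff_unique.1 hone).1
  obtain ⟨g, hg⟩ := exists_prime_orderOf_dvd_card' (G := K) 5 (by rw [hc]; norm_num)
  have hconj : ∀ k : K, k * g * k⁻¹ ∈ (P : Subgroup K) := by
    intro k
    have ho : orderOf (k * g * k⁻¹) = 5 := by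
      rw [← hg]
      exact (MulAut.conj k).orderOf_eq g
    have hp : IsPGroup 5 (zpowers (k * g * k⁻¹)) := IsPGroup.of_card (n := 1) (by
      rw [Nat.card_zpowers, ho, pow_one])
    obtain ⟨Q, hQ⟩ := hp.exists_le_sylow
    rw [Subsingleton.elim Q P] at hQ
    exact hQ (mem_zpowers _)
  have horb : (orbit (ConjAct K) g).ncard ≤ 4 := by
    have hsub : orbit (ConjAct K) g ⊆ ((P : Subgroup K) : Set K) \ {1} := by
      rintro _ ⟨k, rfl⟩
      refine ⟨hconj (ConjAct.ofConjAct k), ?_⟩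
      rw [Set.mem_singleton_iff]
      change ConjAct.ofConjAct k * g * (ConjAct.ofConjAct k)⁻¹ ≠ 1
      intro h
      have : g = 1 := by
        have e : g = (ConjAct.ofConjAct k)⁻¹ * (ConjAct.ofConjAct k * g * (ConjAct.ofConjAct k)⁻¹) *
          ConjAct.ofConjAct k := by group
        rw [e, h]; simp
      rw [this, orderOf_one] at hg
      omega
    have h3 := Set.ncard_le_ncard hsub (Set.toFinite _)
    have h4 : (((P : Subgroup K) : Set K) \ {1}).ncard = 4 := by
      rw [Set.ncard_sdiff_singleton_of_mem (P : Subgroup K).one_mem]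
      have : ((P : Subgroup K) : Set K).ncard = 5 := hP
      rw [this]
    omega
  have hmul := StabCard.card_stabilizer_mul_orbit (G := ConjAct K) g
  have hcK : Nat.card (ConjAct K) = 40 := hc
  rw [hcK] at hmul
  have hpos : 0 < (orbit (ConjAct K) g).ncard := by
    rw [Set.ncard_pos]
    exact ⟨g, mem_orbit_self g⟩
  have heven : 2 ∣ Nat.card ↥(stabilizer (ConjAct K) g) := by
    generalize (orbit (ConjAct K) g).ncard = n at *
    generalize Nat.card ↥(stabilizer (ConjAct K) g) = s at *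
    interval_cases n <;> omega
  have : Finite (ConjAct K) := ‹Finite K›
  obtain ⟨t, ht⟩ := exists_prime_orderOf_dvd_card' 2 heven
  refine ⟨g, ConjAct.ofConjAct (t : ConjAct K), hg, ?_, t.2⟩
  rw [← ht, ← Subgroup.orderOf_coe]
  exact (ConjAct.ofConjAct (G := K)).orderOf_eq _

/-- no subgroup of order 40 of `M24` fixes four points -/
theorem no_forty (K : Subgroup (Equiv.Perm GolayPt)) (hK : K ≤ M24) (hc : Nat.card K = 40)
    (A : Finset GolayPt) (hA4 : A.card = 4) (hA : ∀ k ∈ K, ∀ a ∈ A, k a = a) : False := by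
  have : Fact (Nat.Prime 5) := ⟨by norm_num⟩
  obtain ⟨g, t, hg, ht, hcomm⟩ := forty hc
  have hg' : orderOf (g : Equiv.Perm GolayPt) = 5 := by rw [Subgroup.orderOf_coe, hg]
  have ht' : orderOf (t : Equiv.Perm GolayPt) = 2 := by rw [Subgroup.orderOf_coe, ht]
  have hcomm' : (t : Equiv.Perm GolayPt) * g = g * t := by
    have : t * g = g * t := by
      have e : t * g = (t * g * t⁻¹) * t := by group
      rw [e, hcomm]
    exact congrArg Subtype.val this
  obtain ⟨a, ha⟩ : A.Nonempty := Finset.card_pos.1 (by omega)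
  have h8 : (fixSet (t : Equiv.Perm GolayPt)).card = 8 := by
    rcases invol_cases (hK t.2) ht' with ⟨_, _, _, h⟩ | ⟨_, _, _, h⟩
    · exact h.2
    · exfalso
      have : a ∈ fixSet (t : Equiv.Perm GolayPt) := mem_fixSet.2 (hA t t.2 a ha)
      rw [h] at this
      simp at this
  have hmod := card_modEq_fix (g : Equiv.Perm GolayPt) 5 (by rw [← hg', pow_orderOf_eq_one])
    (fixSet (t : Equiv.Perm GolayPt)) (by
      intro y hy
      rw [mem_fixSet] at hy ⊢
      have := congrArg (fun f : Equiv.Perm GolayPt => f y) hcomm'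
      simp only [Equiv.Perm.mul_apply] at this
      rw [this, hy])
  rw [h8] at hmod
  obtain ⟨h4, h5⟩ := fix_prime (hK g.2) hg'
  have hle : ((fixSet (t : Equiv.Perm GolayPt)).filter fun y => (g : Equiv.Perm GolayPt) y = y).card
      ≤ (fixSet (g : Equiv.Perm GolayPt)).card := by
    apply Finset.card_le_card
    intro y hy
    exact mem_fixSet.2 (Finset.mem_filter.1 hy).2
  have hge : A.card ≤
      ((fixSet (t : Equiv.Perm GolayPt)).filter fun y => (g : Equiv.Perm GolayPt) y = y).card := by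
    apply Finset.card_le_card
    intro y hy
    exact Finset.mem_filter.2 ⟨mem_fixSet.2 (hA t t.2 y hy), hA g g.2 y hy⟩
  unfold Nat.ModEq at hmod
  omega

/-- a subgroup of `M24` of order `|M23|` fixes a point -/
theorem fixes_point_24 (H : Subgroup (Equiv.Perm GolayPt)) (hH : H ≤ M24)
    (hc : Nat.card H = 10200960) : ∃ x, ∀ h ∈ H, h x = x := by
  have : Fact (Nat.Prime 23) := ⟨by norm_num⟩
  have : Fact (Nat.Prime 11) := ⟨by norm_num⟩
  have : Fact (Nat.Prime 7) := ⟨by norm_num⟩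
  have : Fact (Nat.Prime 5) := ⟨by norm_num⟩
  have hA0 : ∀ k ∈ H, ∀ a ∈ (∅ : Finset GolayPt), k a = a := by simp
  obtain ⟨a, ha, c, r, h1, h2, h3, h4, h5⟩ := orbit_info' H hH ∅ hA0 23 (by rw [hc]; norm_num)
    (by intro c hc1 hc2; rw [Finset.card_empty]; omega)
  obtain ⟨hb1, hb2⟩ := orbit_bound H ∅ hA0 a ha
  rw [card_pts] at hb2
  rw [Finset.card_empty] at h3 hb2
  obtain ⟨hA1, hs1⟩ := step H ∅ hA0 a
  have hn : (orbit H a).ncard = 1 ∨ (orbit H a).ncard = 24 := by omega
  rcases hn with hn | hn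
  · exact ⟨a, fixes_of_orbit_one H a hn⟩
  exfalso
  rw [hn, hc] at hs1
  set K1 := H ⊓ stabilizer (Equiv.Perm GolayPt) a with hK1
  have hc1 : Nat.card K1 = 425040 := by omega
  have hK1M : K1 ≤ M24 := inf_le_left.trans hH
  have hcA1 : (insert a (∅ : Finset GolayPt)).card = 1 := by simp
  -- second point
  obtain ⟨b, hb⟩ := exists_not_mem (insert a (∅ : Finset GolayPt)) (by rw [hcA1]; norm_num)
  obtain ⟨c, r, h1, h2, h3, h5⟩ := orbit_info K1 hK1M _ hA1 b hb 23 (by rw [hc1]; norm_num)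
  obtain ⟨hb1, hb2⟩ := orbit_bound K1 _ hA1 b hb
  rw [card_pts] at hb2
  rw [hcA1] at h3 hb2
  obtain ⟨hA2, hs2⟩ := step K1 _ hA1 b
  have hn : (orbit K1 b).ncard = 23 := by omega
  rw [hn, hc1] at hs2
  set K2 := K1 ⊓ stabilizer (Equiv.Perm GolayPt) b with hK2
  have hc2 : Nat.card K2 = 18480 := by omega
  have hK2M : K2 ≤ M24 := inf_le_left.trans hK1M
  have hcA2 : (insert b (insert a (∅ : Finset GolayPt))).card = 2 := by
    rw [Finset.card_insert_of_notMem hb, hcA1]
  -- third point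
  obtain ⟨c', hc'⟩ := exists_not_mem (insert b (insert a (∅ : Finset GolayPt))) (by rw [hcA2]; norm_num)
  obtain ⟨c, r, h1, h2, h3, h5⟩ := orbit_info K2 hK2M _ hA2 c' hc' 11 (by rw [hc2]; norm_num)
  obtain ⟨d, s, g1, g2, g3, g5⟩ := orbit_info K2 hK2M _ hA2 c' hc' 7 (by rw [hc2]; norm_num)
  obtain ⟨hb1, hb2⟩ := orbit_bound K2 _ hA2 c' hc'
  rw [card_pts] at hb2
  rw [hcA2] at h3 g3 hb2
  obtain ⟨hA3, hs3⟩ := step K2 _ hA2 c'
  have hn : (orbit K2 c').ncard = 22 := by omega
  rw [hn, hc2] at hs3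
  set K3 := K2 ⊓ stabilizer (Equiv.Perm GolayPt) c' with hK3
  have hc3 : Nat.card K3 = 840 := by omega
  have hK3M : K3 ≤ M24 := inf_le_left.trans hK2M
  have hcA3 : (insert c' (insert b (insert a (∅ : Finset GolayPt)))).card = 3 := by
    rw [Finset.card_insert_of_notMem hc', hcA2]
  -- fourth point
  obtain ⟨d', hd'⟩ := exists_not_mem (insert c' (insert b (insert a (∅ : Finset GolayPt))))
    (by rw [hcA3]; norm_num)
  obtain ⟨c, r, h1, h2, h3, h5⟩ := orbit_info K3 hK3M _ hA3 d' hd' 7 (by rw [hc3]; norm_num)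
  obtain ⟨d, s, g1, g2, g3, g5⟩ := orbit_info K3 hK3M _ hA3 d' hd' 5 (by rw [hc3]; norm_num)
  obtain ⟨hb1, hb2⟩ := orbit_bound K3 _ hA3 d' hd'
  rw [card_pts] at hb2
  rw [hcA3] at h3 g3 hb2
  obtain ⟨hA4, hs4⟩ := step K3 _ hA3 d'
  have hn : (orbit K3 d').ncard = 21 := by
    have h7 : (orbit K3 d').ncard = 7 ∨ (orbit K3 d').ncard = 14 ∨ (orbit K3 d').ncard = 21 := by omega
    rcases h7 with h7 | h7 | h7
    · rw [h7] at g5; omega
    · rw [h7] at g5; omega
    · exact h7
  rw [hn, hc3] at hs4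
  exact no_forty _ (inf_le_left.trans hK3M) (by omega) _
    (by rw [Finset.card_insert_of_notMem hd', hcA3]) hA4

/-- a subgroup of `M23` of order `|M22|` fixes a further point -/
theorem fixes_point_23 (H : Subgroup (Equiv.Perm GolayPt)) (hH : H ≤ M24) (p₀ : GolayPt)
    (hfix : ∀ h ∈ H, h p₀ = p₀)
    (hc : Nat.card H = 443520) : ∃ x, x ≠ p₀ ∧ ∀ h ∈ H, h x = x := by
  have : Fact (Nat.Prime 11) := ⟨by norm_num⟩
  have : Fact (Nat.Prime 7) := ⟨by norm_num⟩
  have hA0 : ∀ k ∈ H, ∀ a ∈ ({p₀} : Finset GolayPt), k a = a := by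
    intro k hk a ha
    rw [Finset.mem_singleton] at ha
    rw [ha]; exact hfix k hk
  obtain ⟨a, ha, c, r, h1, h2, h3, h4, h5⟩ := orbit_info' H hH _ hA0 11 (by rw [hc]; norm_num)
    (by intro c hc1 hc2; rw [Finset.card_singleton]; omega)
  obtain ⟨d, s, g1, g2, g3, g5⟩ := orbit_info H hH _ hA0 a ha 7 (by rw [hc]; norm_num)
  obtain ⟨hb1, hb2⟩ := orbit_bound H _ hA0 a ha
  rw [card_pts] at hb2
  rw [Finset.card_singleton] at h3 g3 hb2
  obtain ⟨hA1, hs1⟩ := step H _ hA0 a
  rw [hc] at hs1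
  have hn : (orbit H a).ncard = 1 ∨ (orbit H a).ncard = 23 := by omega
  rcases hn with hn | hn
  · exact ⟨a, fun h => ha (by rw [h]; simp), fixes_of_orbit_one H a hn⟩
  · rw [hn] at hs1
    omega

/-- a subgroup of `M22` of order `|M21|` fixes a further point -/
theorem fixes_point_22 (H : Subgroup (Equiv.Perm GolayPt)) (hH : H ≤ M24) (p₀ p₁ : GolayPt)
    (hne : p₀ ≠ p₁) (hfix0 : ∀ h ∈ H, h p₀ = p₀) (hfix1 : ∀ h ∈ H, h p₁ = p₁)
    (hc : Nat.card H = 20160) : ∃ x, x ≠ p₀ ∧ x ≠ p₁ ∧ ∀ h ∈ H, h x = x := by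
  classical
  have : Fact (Nat.Prime 7) := ⟨by norm_num⟩
  have : Fact (Nat.Prime 5) := ⟨by norm_num⟩
  have hA0 : ∀ k ∈ H, ∀ a ∈ ({p₀, p₁} : Finset GolayPt), k a = a := by
    intro k hk a ha
    rw [Finset.mem_insert, Finset.mem_singleton] at ha
    rcases ha with rfl | rfl
    · exact hfix0 k hk
    · exact hfix1 k hk
  have hcA : ({p₀, p₁} : Finset GolayPt).card = 2 := Finset.card_pair hne
  obtain ⟨a, ha, c, r, h1, h2, h3, h4, h5⟩ := orbit_info' H hH _ hA0 7 (by rw [hc]; norm_num)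
    (by intro c hc1 hc2; rw [hcA]; omega)
  obtain ⟨d, s, g1, g2, g3, g5⟩ := orbit_info H hH _ hA0 a ha 5 (by rw [hc]; norm_num)
  obtain ⟨hb1, hb2⟩ := orbit_bound H _ hA0 a ha
  rw [card_pts] at hb2
  rw [hcA] at h3 g3 hb2
  obtain ⟨hA1, hs1⟩ := step H _ hA0 a
  rw [hc] at hs1
  have hn : (orbit H a).ncard = 1 ∨ (orbit H a).ncard = 8 ∨ (orbit H a).ncard = 15 ∨
      (orbit H a).ncard = 22 := by omega
  rcases hn with hn | hn | hn | hn
  · refine ⟨a, fun h => ha (by rw [h]; simp), fun h => ha (by rw [h]; simp), fixes_of_orbit_one H a hn⟩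
  · rw [hn] at g5; omega
  · exfalso
    have hle := card_le_factorial_compl H _ hA0 a ha (by
      intro g hg hfix
      apply eq_one_of_nine (hH hg)
      have hsub : ((orbit H a).toFinset)ᶜ ⊆ fixSet g := by
        intro y hy
        rw [Finset.mem_compl, Set.mem_toFinset] at hy
        exact mem_fixSet.2 (hfix y hy)
      have h9 := Finset.card_le_card hsub
      rw [Finset.card_compl, card_pts, ← Set.ncard_eq_toFinset_card' (orbit H a), hn] at h9
      omega)
    rw [card_pts, hn, hcA, hc] at hle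
    revert hle
    decide
  · rw [hn] at hs1
    omega

end Cfsg.Agent.Lib.Helper3.AutIdx
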