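import Mathlib
import Cfsg.Agent.Lib.Helper3.AutFix

/-!
# Orbit sizes modulo a prime, relative to an invariant set
-/

set_option autoImplicit false

namespace Cfsg.Agent.Lib.Helper3.AutP2

open MulAction Subgroup Cfsg Cfsg.Agent.Lib.Helper28
open Cfsg.Agent.Lib.Helper3.AutP Cfsg.Agent.Lib.Helper3.AutFix
open scoped Pointwise

variable {Ω : Type*}

theorem orbit_disjoint [Fintype Ω] [DecidableEq Ω] (K : Subgroup (Equiv.Perm Ω)) (B : Finset Ω)
    (hB : ∀ k ∈ K, ∀ b ∈ B, k b ∈ B) (x : Ω) (hx : x ∉ B) {y : Ω} (hy : y ∈ orbit K x) : y ∉ B := by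
  obtain ⟨k, rfl⟩ := hy
  intro hyB
  apply hx
  have h1 := hB (k⁻¹ : K) (k⁻¹ : K).2 _ hyB
  have h2 : ((k⁻¹ : K) : Equiv.Perm Ω) (k • x) = x := by
    change ((k⁻¹ : K) : Equiv.Perm Ω) ((k : Equiv.Perm Ω) x) = x
    simp
  rwa [h2] at h1

/-- orbit sizes modulo `p`, for an orbit avoiding the invariant set `B` -/
theorem orbit_mod_inv [Fintype Ω] [DecidableEq Ω] (K : Subgroup (Equiv.Perm Ω)) (B : Finset Ω)
    (hB : ∀ k ∈ K, ∀ b ∈ B, k b ∈ B) (x : Ω) (hx : x ∉ B) (g : Equiv.Perm Ω) (hgK : g ∈ K)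
    (p : ℕ) [hp : Fact p.Prime] (hg : g ^ p = 1) :
    ∃ r b, r + b ≤ (Finset.univ.filter fun y => g y = y).card ∧ B.card ≡ b [MOD p] ∧
      (g x = x → 1 ≤ r) ∧ (orbit K x).ncard ≡ r [MOD p] := by
  classical
  let S : Finset Ω := (orbit K x).toFinset
  have hmem : ∀ y, y ∈ S ↔ y ∈ orbit K x := fun y => Set.mem_toFinset
  have hS : ∀ y ∈ S, g y ∈ S := by
    intro y hy
    rw [hmem] at hy ⊢
    obtain ⟨k, rfl⟩ := hy
    exact ⟨⟨g, hgK⟩ * k, rfl⟩
  refine ⟨(S.filter fun y => g y = y).card, (B.filter fun y => g y = y).card, ?_,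
    card_modEq_fix g p hg B (hB g hgK), ?_, ?_⟩
  · rw [← Finset.card_union_of_disjoint]
    · apply Finset.card_le_card
      intro y hy
      rw [Finset.mem_union] at hy
      rw [Finset.mem_filter]
      refine ⟨Finset.mem_univ _, ?_⟩
      rcases hy with hy | hy
      · exact (Finset.mem_filter.1 hy).2
      · exact (Finset.mem_filter.1 hy).2
    · rw [Finset.disjoint_left]
      intro y hy hyB
      exact orbit_disjoint K B hB x hx ((hmem y).1 (Finset.mem_filter.1 hy).1)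
        (Finset.mem_filter.1 hyB).1
  · intro hgx
    rw [Nat.succ_le_iff, Finset.card_pos]
    exact ⟨x, Finset.mem_filter.2 ⟨(hmem x).2 (mem_orbit_self x), hgx⟩⟩
  · have := card_modEq_fix g p hg S hS
    rwa [Set.ncard_eq_toFinset_card' (orbit K x)]

theorem orbit_bound_inv [Fintype Ω] [DecidableEq Ω] (K : Subgroup (Equiv.Perm Ω)) (B : Finset Ω)
    (hB : ∀ k ∈ K, ∀ b ∈ B, k b ∈ B) (x : Ω) (hx : x ∉ B) :
    0 < (orbit K x).ncard ∧ (orbit K x).ncard + B.card ≤ Fintype.card Ω := by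
  classical
  constructor
  · rw [Set.ncard_pos]
    exact ⟨x, mem_orbit_self x⟩
  · rw [Set.ncard_eq_toFinset_card' (orbit K x), ← Finset.card_union_of_disjoint]
    · exact Finset.card_le_univ _
    · rw [Finset.disjoint_left]
      intro y hy hyB
      rw [Set.mem_toFinset] at hy
      exact orbit_disjoint K B hB x hx hy hyB

/-- version of `exists_perm_of_aut` where the point stabilisers may have different indices -/
theorem exists_perm_of_aut' (G : Subgroup (Equiv.Perm Ω)) (F : Set Ω)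
    (hF : ∀ g ∈ G, ∀ x ∈ F, g x = x)
    (h1 : ∀ H : Subgroup G, ∀ x, x ∉ F → H.index = (stabilizer G x).index →
      ∃ y, y ∉ F ∧ H = stabilizer G y)
    (h3 : ∀ x, x ∉ F → ∀ y, y ∉ F → stabilizer G x = stabilizer G y → x = y)
    (α : MulAut G) :
    ∃ π : Equiv.Perm Ω, (∀ x ∈ F, π x = x) ∧
      ∀ g : G, ((α g : G) : Equiv.Perm Ω) = π * (g : Equiv.Perm Ω) * π⁻¹ := by
  classical
  have key : ∀ β : MulAut G, ∀ x, x ∉ F →
      ∃ y, y ∉ F ∧ (stabilizer G x).map (β : G →* G) = stabilizer G y := by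
    intro β x hx
    apply h1 _ x hx
    rw [Subgroup.index_map_equiv]
  choose! f hf1 hf2 using key
  let φ : MulAut G → Ω → Ω := fun β x => if x ∈ F then x else f β x
  have hφF : ∀ β x, x ∈ F → φ β x = x := fun β x hx => if_pos hx
  have hφN : ∀ β x, x ∉ F → φ β x = f β x := fun β x hx => if_neg hx
  have hinv : ∀ β x, φ β⁻¹ (φ β x) = x := by
    intro β x
    by_cases hx : x ∈ F
    · rw [hφF β x hx, hφF _ x hx]
    · rw [hφN β x hx, hφN _ _ (hf1 β x hx)]
      apply h3 _ (hf1 _ _ (hf1 β x hx)) _ hx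
      rw [← hf2 _ _ (hf1 β x hx), ← hf2 β x hx, Subgroup.map_map]
      have : ((β⁻¹ : MulAut G) : G →* G).comp (β : G →* G) = MonoidHom.id G := by
        ext g
        simp
      rw [this, Subgroup.map_id]
  let π : Equiv.Perm Ω := ⟨φ α, φ α⁻¹, hinv α, fun x => by simpa using hinv α⁻¹ x⟩
  have hπ : ∀ x, π x = φ α x := fun _ => rfl
  have hmove : ∀ g : G, ∀ x, x ∉ F → (g : Equiv.Perm Ω) x ∉ F := by
    intro g x hx hgx
    apply hx
    have := hF (g⁻¹ : G) (g⁻¹ : G).2 _ hgx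
    have h' : ((g⁻¹ : G) : Equiv.Perm Ω) ((g : Equiv.Perm Ω) x) = x := by simp
    rw [h'] at this
    rw [this]; exact hgx
  have heq : ∀ g : G, ∀ x, ((α g : G) : Equiv.Perm Ω) (π x) = π ((g : Equiv.Perm Ω) x) := by
    intro g x
    by_cases hx : x ∈ F
    · rw [hF g g.2 x hx, hπ, hφF α x hx, hF _ (α g).2 x hx]
    · rw [hπ, hπ, hφN α x hx, hφN α _ (hmove g x hx)]
      apply h3 _ (hmove (α g) _ (hf1 α x hx)) _ (hf1 α _ (hmove g x hx))
      have e1 : stabilizer G (((α g : G) : Equiv.Perm Ω) (f α x)) = stabilizer G ((α g) • f α x) := rfl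
      have e2 : stabilizer G (f α ((g : Equiv.Perm Ω) x)) = (stabilizer G (g • x)).map (α : G →* G) :=
        (hf2 α _ (hmove g x hx)).symm
      rw [e1, e2, stabilizer_smul_eq_stabilizer_map_conj, stabilizer_smul_eq_stabilizer_map_conj,
        ← hf2 α x hx, Subgroup.map_map, Subgroup.map_map]
      congr 1
      ext s
      simp
  refine ⟨π, fun x hx => by rw [hπ, hφF α x hx], fun g => ?_⟩
  ext y
  have := heq g (π⁻¹ y)
  have e : π (π⁻¹ y) = y := by simp
  rw [e] at this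
  rw [this]
  simp

/-- information on an orbit size from an element of order `p`, relative to an invariant set -/
theorem orbit_info_inv (K : Subgroup (Equiv.Perm GolayPt)) (hK : K ≤ M24) (B : Finset GolayPt)
    (hB : ∀ k ∈ K, ∀ b ∈ B, k b ∈ B) (x : GolayPt) (hx : x ∉ B) (p : ℕ) [hp : Fact p.Prime]
    (h : p ∣ Nat.card K) :
    ∃ c b r, c ≤ 8 ∧ 24 % p = c % p ∧ B.card % p = b % p ∧ r + b ≤ c ∧
      (orbit K x).ncard % p = r % p := by
  obtain ⟨g, hgK, ho⟩ := exists_order K p h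
  obtain ⟨r, b, h1, h2, _, h3⟩ := orbit_mod_inv K B hB x hx g hgK p (by rw [← ho, pow_orderOf_eq_one])
  obtain ⟨h4, h5⟩ := fix_prime (hK hgK) ho
  exact ⟨_, b, r, h4, h5, h2, h1, h3⟩

/-- the same for the orbit of a fixed point of the element of order `p` -/
theorem orbit_info_inv' (K : Subgroup (Equiv.Perm GolayPt)) (hK : K ≤ M24) (B : Finset GolayPt)
    (hB : ∀ k ∈ K, ∀ b ∈ B, k b ∈ B) (p : ℕ) [hp : Fact p.Prime]
    (h : p ∣ Nat.card K)
    (hlt : ∀ c b, c ≤ 8 → 24 % p = c % p → B.card % p = b % p → b ≤ c → b < c) :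
    ∃ x, x ∉ B ∧ ∃ c b r, c ≤ 8 ∧ 24 % p = c % p ∧ B.card % p = b % p ∧ r + b ≤ c ∧ 1 ≤ r ∧
      (orbit K x).ncard % p = r % p := by
  obtain ⟨g, hgK, ho⟩ := exists_order K p h
  obtain ⟨h4, h5⟩ := fix_prime (hK hgK) ho
  have hgp : g ^ p = 1 := by rw [← ho, pow_orderOf_eq_one]
  have hb := card_modEq_fix g p hgp B (hB g hgK)
  have hsub : (B.filter fun y => g y = y) ⊆ fixSet g := by
    intro y hy
    exact mem_fixSet.2 (Finset.mem_filter.1 hy).2
  obtain ⟨x, hx1, hx2⟩ := Finset.exists_mem_notMem_of_card_lt_card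
    (hlt _ _ h4 h5 hb (Finset.card_le_card hsub))
  have hxB : x ∉ B := fun hxB => hx2 (Finset.mem_filter.2 ⟨hxB, mem_fixSet.1 hx1⟩)
  obtain ⟨r, b, h1, h2, h3, h6⟩ := orbit_mod_inv K B hB x hxB g hgK p hgp
  exact ⟨x, hxB, _, b, r, h4, h5, h2, h1, h3 (mem_fixSet.1 hx1), h6⟩

end Cfsg.Agent.Lib.Helper3.AutP2
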