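import Mathlib
import Cfsg.Agent.Lib.Helper3.Dodecad

/-!
# The action of `M11` on the complementary dodecad
-/

set_option autoImplicit false

namespace Cfsg.Agent.Lib.Helper3.M11C

open MulAction Subgroup Cfsg Cfsg.Agent.Lib.Helper28 Cfsg.Agent.Lib.Helper3.M24T
  Cfsg.Agent.Lib.Helper3.Dod
open scoped Pointwise

/-- elements of `M24` fixing `∞, 0, 1` and the base dodecad, transitive on its complement -/
def K3 : List (List ℕ) :=
  [[0, 1, 2, 3, 4, 5, 6, 7, 8, 9, 10, 11, 12, 13, 14, 15, 16, 17, 18, 19, 20, 21, 22, 23],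
   [0, 1, 2, 19, 18, 6, 14, 5, 22, 10, 9, 13, 4, 8, 7, 20, 12, 21, 16, 17, 15, 3, 11, 23],
   [0, 1, 2, 21, 12, 7, 5, 14, 13, 10, 9, 22, 16, 11, 6, 20, 18, 19, 4, 3, 15, 17, 8, 23],
   [0, 1, 2, 12, 19, 8, 13, 22, 14, 15, 20, 5, 17, 7, 11, 9, 21, 18, 3, 16, 10, 4, 6, 23],
   [0, 1, 3, 18, 19, 9, 5, 14, 22, 10, 6, 15, 12, 20, 7, 8, 4, 16, 21, 17, 13, 2, 11, 23],
   [0, 1, 4, 18, 2, 10, 6, 9, 20, 7, 5, 11, 19, 22, 14, 15, 16, 21, 3, 12, 8, 17, 13, 23],
   [0, 1, 2, 18, 21, 11, 22, 13, 5, 15, 20, 14, 3, 6, 8, 9, 19, 12, 17, 4, 10, 16, 7, 23],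
   [0, 1, 2, 16, 3, 13, 11, 8, 6, 20, 15, 7, 19, 14, 22, 10, 17, 4, 21, 18, 9, 12, 5, 23],
   [0, 1, 2, 17, 16, 14, 7, 6, 11, 9, 10, 8, 18, 22, 5, 15, 4, 3, 12, 21, 20, 19, 13, 23],
   [0, 1, 3, 21, 2, 15, 11, 20, 9, 8, 13, 7, 18, 5, 22, 10, 17, 12, 16, 19, 6, 4, 14, 23],
   [0, 1, 3, 4, 18, 20, 15, 22, 5, 13, 8, 14, 17, 7, 11, 6, 16, 19, 2, 21, 10, 12, 9, 23],
   [0, 1, 2, 4, 17, 22, 8, 11, 7, 20, 15, 6, 21, 5, 13, 10, 3, 16, 19, 12, 9, 18, 14, 23]]

theorem K3_lvl : lvlCheck [23, 0, 1] 5 5304288 K3 = true := by decide +kernel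

theorem K3_D0 : ∀ u ∈ K3, img u D0 = D0 := by decide +kernel

theorem compl_D0 : ∀ j < 24, ¬ D0.testBit j = true → (5304288 : ℕ).testBit j = true := by decide

/-- transitivity on the complement of the base dodecad -/
theorem exists_base {q : GolayPt} (hq : q ∉ un D0) :
    ∃ t ∈ M24, t • un D0 = un D0 ∧ (∀ i ∈ [23, 0, 1], t (ptOf i) = ptOf i) ∧ t (ptOf 5) = q := by
  have hq' : q ∈ un 5304288 := by
    rw [mem_un] at hq ⊢
    exact compl_D0 _ (idx_lt q) hq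
  obtain ⟨u, hu, hu1, hu2, hu3⟩ := exists_of_lvlCheck K3_lvl hq'
  refine ⟨permOf u, permOf_mem_M24 hu1, ?_, hu2, hu3⟩
  apply mk_injective
  rw [mk_permOf_smul (isTbl_of_inM24 hu1), mk_un D0_lt, K3_D0 u hu]

theorem smul_eq_iff (g : Equiv.Perm GolayPt) (s : Finset GolayPt) :
    g • s = s ↔ ∀ p, g p ∈ s ↔ p ∈ s := by
  constructor
  · intro h p
    rw [← mem_smul_finset_iff g s p, h]
  · intro h
    apply Finset.eq_of_subset_of_card_le
    · intro q hq
      rw [smul_finset_eq_image, Finset.mem_image] at hq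
      obtain ⟨p, hp, rfl⟩ := hq
      exact (h p).2 hp
    · rw [card_smul]

theorem smul_compl_eq_iff (g : Equiv.Perm GolayPt) (s : Finset GolayPt) :
    g • sᶜ = sᶜ ↔ g • s = s := by
  rw [smul_eq_iff, smul_eq_iff]
  simp only [Finset.mem_compl, not_iff_not]

theorem compl_mem_dodecads {d : Finset GolayPt} (hd : d ∈ dodecads) : dᶜ ∈ dodecads := by
  rw [mem_dodecads_iff] at *
  have h1 : dᶜ = symmDiff d Finset.univ := by
    ext p; simp [Finset.mem_symmDiff]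
  constructor
  · rw [h1, mk_symmDiff, mk_univ]
    exact isCode_xor hd.1 isCode_full
  · rw [← card_eq_popc, Finset.card_compl, card_eq_popc d, hd.2]; rfl

/-- extend three points of a dodecad to five -/
theorem extend3 {e : Finset GolayPt} (he : e ∈ dodecads) (y : Fin 3 ↪ GolayPt)
    (hy : ∀ i, y i ∈ e) : ∃ a b : GolayPt, [y 0, y 1, y 2, a, b].Nodup ∧
      ∀ z ∈ [y 0, y 1, y 2, a, b], z ∈ e := by
  have hc : e.card = 12 := he.2
  have h1 : 2 ≤ (e \ {y 0, y 1, y 2}).card := by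
    have := Finset.le_card_sdiff ({y 0, y 1, y 2} : Finset GolayPt) e
    have h3 : ({y 0, y 1, y 2} : Finset GolayPt).card ≤ 3 := Finset.card_le_three
    omega
  obtain ⟨s, hs, hs2⟩ := Finset.exists_subset_card_eq h1
  obtain ⟨a, b, hab, rfl⟩ := Finset.card_eq_two.1 hs2
  have ha := hs (Finset.mem_insert_self a {b})
  have hb := hs (Finset.mem_insert_of_mem (Finset.mem_singleton_self b))
  simp only [Finset.mem_sdiff, Finset.mem_insert, Finset.mem_singleton, not_or] at ha hb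
  refine ⟨a, b, ?_, ?_⟩
  · have h01 : y 0 ≠ y 1 := fun h => by simpa using y.injective h
    have h02 : y 0 ≠ y 2 := fun h => by simpa using y.injective h
    have h12 : y 1 ≠ y 2 := fun h => by simpa using y.injective h
    simp only [List.nodup_cons, List.mem_cons, List.not_mem_nil, or_false, not_or,
      not_false_eq_true, List.nodup_nil, and_true]
    exact ⟨⟨h01, h02, Ne.symm ha.2.1, Ne.symm hb.2.1⟩, ⟨h12, Ne.symm ha.2.2.1, Ne.symm hb.2.2.1⟩,
      ⟨Ne.symm ha.2.2.2, Ne.symm hb.2.2.2⟩, hab⟩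
  · intro z hz
    simp only [List.mem_cons, List.not_mem_nil, or_false] at hz
    rcases hz with rfl | rfl | rfl | rfl | rfl
    · exact hy 0
    · exact hy 1
    · exact hy 2
    · exact ha.1
    · exact hb.1

/-- the stabiliser of a dodecad and three of its points is transitive on the complement -/
theorem exists_fix3 {e : Finset GolayPt} (he : e ∈ dodecads) (y : Fin 3 ↪ GolayPt)
    (hy : ∀ i, y i ∈ e) {q q' : GolayPt} (hq : q ∉ e) (hq' : q' ∉ e) :
    ∃ k ∈ M24, k • e = e ∧ (∀ i, k (y i) = y i) ∧ k q = q' := by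
  obtain ⟨a, b, hnd, hmem⟩ := extend3 he y hy
  obtain ⟨h, hh, hhe, hhx⟩ := exists_map_dodecad he _ rfl hnd hmem
  simp only [base5, List.map_cons, List.map_nil, List.cons.injEq, and_true] at hhx
  obtain ⟨h0, h1, h2, _, _⟩ := hhx
  have hhq : h q ∉ un D0 := by rw [← hhe, mem_smul_finset_iff]; exact hq
  have hhq' : h q' ∉ un D0 := by rw [← hhe, mem_smul_finset_iff]; exact hq'
  obtain ⟨t, ht, htD, htf, htq⟩ := exists_base hhq
  obtain ⟨t', ht', htD', htf', htq'⟩ := exists_base hhq'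
  refine ⟨h⁻¹ * t' * t⁻¹ * h, M24.mul_mem (M24.mul_mem (M24.mul_mem (M24.inv_mem hh) ht')
    (M24.inv_mem ht)) hh, ?_, ?_, ?_⟩
  · rw [mul_smul, mul_smul, mul_smul, hhe, inv_smul_eq_iff.2 htD.symm, htD', ← hhe, inv_smul_smul]
  · have key : ∀ z : GolayPt, ∀ i ∈ [23, 0, 1], h z = ptOf i → (h⁻¹ * t' * t⁻¹ * h) z = z := by
      intro z i hi hz
      simp only [Equiv.Perm.mul_apply]
      rw [hz, Equiv.Perm.inv_eq_iff_eq.2 (htf i hi).symm, htf' i hi, ← hz]
      simp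
    intro i
    fin_cases i
    · exact key _ 23 (by simp) h0
    · exact key _ 0 (by simp) h1
    · exact key _ 1 (by simp) h2
  · simp only [Equiv.Perm.mul_apply]
    rw [Equiv.Perm.inv_eq_iff_eq.2 htq.symm, htq']
    simp

/-- three-transitivity on the complementary dodecad -/
theorem three_trans {d : Finset GolayPt} (hd : d ∈ dodecads) {p : GolayPt} (hp : p ∈ d)
    (x y : Fin 3 ↪ GolayPt) (hx : ∀ i, x i ∉ d) (hy : ∀ i, y i ∉ d) :
    ∃ g ∈ M24, g • d = d ∧ g p = p ∧ ∀ i, g (x i) = y i := by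
  have he := compl_mem_dodecads hd
  have hx' : ∀ i, x i ∈ dᶜ := fun i => Finset.mem_compl.2 (hx i)
  have hy' : ∀ i, y i ∈ dᶜ := fun i => Finset.mem_compl.2 (hy i)
  obtain ⟨a, b, hnd, hmem⟩ := extend3 he x hx'
  obtain ⟨a', b', hnd', hmem'⟩ := extend3 he y hy'
  obtain ⟨g1, hg1, hg1e, hg1x⟩ := exists_of_lists he _ _ rfl hnd hmem rfl hnd' hmem'
  simp only [List.map_cons, List.map_nil, List.cons.injEq, and_true] at hg1x
  obtain ⟨e0, e1, e2, _, _⟩ := hg1x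
  have hg1d : g1 • d = d := (smul_compl_eq_iff g1 d).1 hg1e
  have hq : g1 p ∉ dᶜ := by
    rw [Finset.mem_compl, not_not]
    exact ((smul_eq_iff g1 d).1 hg1d p).2 hp
  have hq' : p ∉ dᶜ := by rw [Finset.mem_compl, not_not]; exact hp
  obtain ⟨k, hk, hke, hky, hkq⟩ := exists_fix3 he y hy' hq hq'
  refine ⟨k * g1, M24.mul_mem hk hg1, ?_, ?_, ?_⟩
  · rw [mul_smul, hg1d]; exact (smul_compl_eq_iff k d).1 hke
  · rw [Equiv.Perm.mul_apply, hkq]
  · intro i
    rw [Equiv.Perm.mul_apply]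
    fin_cases i
    · show k (g1 (x 0)) = y 0
      rw [e0, hky]
    · show k (g1 (x 1)) = y 1
      rw [e1, hky]
    · show k (g1 (x 2)) = y 2
      rw [e2, hky]

end Cfsg.Agent.Lib.Helper3.M11C
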