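import Mathlib
import Cfsg.Agent.Lib.Helper3.AutPerm2
import Cfsg.Agent.Lib.Helper3.M11Compl

/-!
# Subgroups of `M12`: preparations
-/

set_option autoImplicit false

namespace Cfsg.Agent.Lib.Helper3.AutM12

open MulAction Subgroup Cfsg Cfsg.Agent.Lib.Helper28 Cfsg.Agent.Lib.Helper3.M24T
open Cfsg.Agent.Lib.Helper3.AutP Cfsg.Agent.Lib.Helper3.AutFix Cfsg.Agent.Lib.Helper3.AutP2
open scoped Pointwise

/-- number of elements of the five point stabiliser preserving the set with mask `e` -/
def cnt48 (e : ℕ) : ℕ := (list48.filter fun T => img T e == e).length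

theorem k2_check : allRange 12 0 (fun a => !(popc (enc B12 a) == 12 && (enc B12 a).testBit 23 &&
    (enc B12 a).testBit 0 && (enc B12 a).testBit 1 && !(enc B12 a).testBit 2 &&
    !(enc B12 a).testBit 3) || decide (cnt48 (enc B12 a) ≤ 5)) = true := by decide +kernel

/-- a subgroup of `M24` preserving a dodecad and fixing three of its points and two further points is
small -/
theorem card_le_five {d : Finset GolayPt} (hd : d ∈ dodecads) (Z : Subgroup (Equiv.Perm GolayPt))
    (hZ : Z ≤ M24) (hZd : ∀ z ∈ Z, z • d = d) {x0 x1 x2 y1 y2 : GolayPt}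
    (hnd : [x0, x1, x2, y1, y2].Nodup) (hx0 : x0 ∈ d) (hx1 : x1 ∈ d) (hx2 : x2 ∈ d)
    (hy1 : y1 ∉ d) (hy2 : y2 ∉ d) (hfix : ∀ z ∈ Z, ∀ p ∈ [x0, x1, x2, y1, y2], z p = p) :
    Nat.card Z ≤ 5 := by
  classical
  obtain ⟨k, hk, hmap⟩ := exists_M24_map_base [x0, x1, x2, y1, y2] (by simp) hnd
  have hmap' : [x0, x1, x2, y1, y2].map k = [23, 0, 1, 2, 3].map ptOf := hmap
  simp only [List.map_cons, List.map_nil, List.cons.injEq, and_true] at hmap'
  obtain ⟨e0, e1, e2, e3, e4⟩ := hmap'
  have he : k • d ∈ dodecads := smul_mem_dodecads hk hd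
  obtain ⟨hcode, hpop⟩ := (mem_dodecads_iff _).1 he
  have hbit : ∀ (p : GolayPt) (i : ℕ), i < 24 → k p = ptOf i →
      ((mk (k • d)).testBit i = true ↔ p ∈ d) := by
    intro p i hi hp
    have := @mem_iff_testBit (k • d) (ptOf i)
    rw [idx_ptOf hi] at this
    rw [← this, ← hp, mem_smul_finset_iff]
  have b0 := (hbit x0 23 (by norm_num) e0).2 hx0
  have b1 := (hbit x1 0 (by norm_num) e1).2 hx1
  have b2 := (hbit x2 1 (by norm_num) e2).2 hx2
  have b3 : (mk (k • d)).testBit 2 = false := by
    rw [← Bool.not_eq_true, hbit y1 2 (by norm_num) e3]; exact hy1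
  have b4 : (mk (k • d)).testBit 3 = false := by
    rw [← Bool.not_eq_true, hbit y2 3 (by norm_num) e4]; exact hy2
  have hchk := forall_lt_of_allRange 12 _ k2_check (mk (k • d) % 4096) (Nat.mod_lt _ (by norm_num))
  rw [isCode_iff.1 hcode, hpop, b0, b1, b2, b3, b4] at hchk
  simp only [beq_self_eq_true, Bool.and_self, Bool.not_false, Bool.not_true, Bool.false_or,
    decide_eq_true_eq] at hchk
  refine le_trans ?_ hchk
  unfold cnt48
  refine le_trans ?_ (List.toFinset_card_le _)
  haveI : Fintype Z := Fintype.ofFinite _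
  rw [Nat.card_eq_fintype_card, ← Finset.card_univ]
  apply Finset.card_le_card_of_injOn (fun z : Z => tblOf (k * z * k⁻¹))
  · intro z _
    rw [Finset.mem_coe, List.mem_toFinset, List.mem_filter]
    constructor
    · apply tblOf_mem_list48
      rw [mem_stabL]
      refine ⟨conj_mem hk (hZ z.2), ?_⟩
      have hall : ∀ p ∈ [x0, x1, x2, y1, y2], (k * z * k⁻¹) (k p) = k p := by
        intro p hp
        rw [conj_apply, hfix z z.2 p hp]
      intro i hi
      simp only [List.mem_cons, List.not_mem_nil, or_false] at hi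
      rcases hi with rfl | rfl | rfl | rfl | rfl
      · rw [← e0]; exact hall x0 (by simp)
      · rw [← e1]; exact hall x1 (by simp)
      · rw [← e2]; exact hall x2 (by simp)
      · rw [← e3]; exact hall y1 (by simp)
      · rw [← e4]; exact hall y2 (by simp)
    · rw [beq_iff_eq, ← mk_smul, mul_smul, mul_smul, inv_smul_smul, hZd z z.2]
  · intro z _ z' _ h
    have h1 : k * (z : Equiv.Perm GolayPt) * k⁻¹ = k * z' * k⁻¹ := tblOf_injective h
    apply Subtype.ext
    have h2 := mul_right_cancel h1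
    exact mul_left_cancel h2

/-- a non-identity element preserving a dodecad fixes at most four of its points -/
theorem fix_le_four {d : Finset GolayPt} (hd : d ∈ dodecads) {g : Equiv.Perm GolayPt} (hg : g ∈ M24)
    (hgd : g • d = d) (h1 : g ≠ 1) : (d ∩ fixSet g).card ≤ 4 := by
  by_contra hc
  push Not at hc
  obtain ⟨s, hs, hs5⟩ := Finset.exists_subset_card_eq (show 5 ≤ (d ∩ fixSet g).card by omega)
  apply h1
  apply Dod.eq_one_of_fixes hd s.toList (by simp [hs5]) s.nodup_toList _ hg hgd
  · intro x hx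
    exact mem_fixSet.1 (Finset.mem_inter.1 (hs (Finset.mem_toList.1 hx))).2
  · intro x hx
    exact (Finset.mem_inter.1 (hs (Finset.mem_toList.1 hx))).1

end Cfsg.Agent.Lib.Helper3.AutM12
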