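import Mathlib
import Cfsg.Agent.Lib.Helper3.AutM12a

/-!
# Subgroups of order 7920 of `M12` fix a point
-/

set_option autoImplicit false

namespace Cfsg.Agent.Lib.Helper3.AutM12

open MulAction Subgroup Cfsg Cfsg.Agent.Lib.Helper28 Cfsg.Agent.Lib.Helper3.M24T
open Cfsg.Agent.Lib.Helper3.AutP Cfsg.Agent.Lib.Helper3.AutFix Cfsg.Agent.Lib.Helper3.AutP2
open scoped Pointwise

theorem exists_moving (H : Subgroup (Equiv.Perm GolayPt)) (x : GolayPt)
    (h : (orbit H x).ncard ≠ 1) : ∃ h ∈ H, h x ≠ x := by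
  by_contra hcon
  push Not at hcon
  apply h
  have : orbit H x = {x} := by
    ext z
    constructor
    · rintro ⟨k, rfl⟩
      exact hcon k k.2
    · rintro rfl
      exact mem_orbit_self _
  rw [this, Set.ncard_singleton]

/-- an element of order three fixing a point of the dodecad fixes a point outside -/
theorem exists_fix_outside {d : Finset GolayPt} (hd : d ∈ dodecads) {g : Equiv.Perm GolayPt}
    (hg : g ∈ M24) (hgd : g • d = d) (ho : orderOf g = 3) {x : GolayPt} (hx : g x = x) :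
    ∃ y, y ∉ d ∧ g y = y := by
  have h6 : (fixSet g).card = 6 := by
    rcases order3_cases hg ho with ⟨_, _, _, h⟩ | ⟨_, _, _, h⟩
    · exact h
    · exfalso
      have : x ∈ fixSet g := mem_fixSet.2 hx
      rw [h] at this
      simp at this
  have hne : g ≠ 1 := by
    rintro rfl
    simp at ho
  have h4 := fix_le_four hd hg hgd hne
  obtain ⟨y, hy1, hy2⟩ := Finset.exists_mem_notMem_of_card_lt_card
    (s := d ∩ fixSet g) (t := fixSet g) (by omega)
  exact ⟨y, fun h => hy2 (Finset.mem_inter.2 ⟨h, hy1⟩), mem_fixSet.1 hy1⟩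

theorem fixes_point_12 {d : Finset GolayPt} (hd : d ∈ dodecads) (H : Subgroup (Equiv.Perm GolayPt))
    (hH : H ≤ M24) (hHd : ∀ h ∈ H, h • d = d) (hc : Nat.card H = 7920) :
    ∃ x, ∀ h ∈ H, h x = x := by
  classical
  have : Fact (Nat.Prime 11) := ⟨by norm_num⟩
  have : Fact (Nat.Prime 3) := ⟨by norm_num⟩
  have hdc : d.card = 12 := hd.2
  have hdcc : dᶜ.card = 12 := by rw [Finset.card_compl, card_pts, hdc]
  have hiff : ∀ h ∈ H, ∀ b, h b ∈ d ↔ b ∈ d := fun h hh => (M11C.smul_eq_iff h d).1 (hHd h hh)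
  have hinv : ∀ h ∈ H, ∀ b ∈ d, h b ∈ d := fun h hh b hb => (hiff h hh b).2 hb
  have hinvc : ∀ h ∈ H, ∀ b ∈ dᶜ, h b ∈ dᶜ := by
    intro h hh b hb
    rw [Finset.mem_compl] at hb ⊢
    rwa [hiff h hh b]
  -- a point of `d` fixed by an element of order 11
  obtain ⟨x0, hx0, c, b, r, h1, h2, h3, h4, h5, h6⟩ := orbit_info_inv' H hH dᶜ hinvc 11
    (by rw [hc]; norm_num) (by intro c b e1 e2 e3 e4; rw [hdcc] at e3; omega)
  have hx0d : x0 ∈ d := by simpa using hx0
  obtain ⟨hb1, hb2⟩ := orbit_bound_inv H dᶜ hinvc x0 hx0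
  rw [card_pts, hdcc] at hb2
  rw [hdcc] at h3
  have hn : (orbit H x0).ncard = 1 ∨ (orbit H x0).ncard = 12 := by omega
  rcases hn with hn | hn
  · exact ⟨x0, fixes_of_orbit_one H x0 hn⟩
  have hs1 := StabCard.card_inf_stabilizer_mul H x0
  rw [hn, hc] at hs1
  set L := H ⊓ stabilizer (Equiv.Perm GolayPt) x0 with hL
  have hcL : Nat.card L = 660 := by omega
  have hLH : L ≤ H := inf_le_left
  clear h1 h2 h3 h4 h5 h6 hb1 hb2
  -- a point outside `d` fixed by an element of order 11 of `L`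
  obtain ⟨y1, hy1, c, b, r, h1, h2, h3, h4, h5, h6⟩ := orbit_info_inv' L (hLH.trans hH) d
    (fun l hl => hinv l (hLH hl)) 11
    (by rw [hcL]; norm_num) (by intro c b e1 e2 e3 e4; rw [hdc] at e3; omega)
  obtain ⟨hb1, hb2⟩ := orbit_bound_inv L d (fun l hl => hinv l (hLH hl)) y1 hy1
  rw [card_pts, hdc] at hb2
  rw [hdc] at h3
  have hm : (orbit L y1).ncard = 1 ∨ (orbit L y1).ncard = 12 := by omega
  clear h1 h2 h3 h4 h5 h6 hb1 hb2
  rcases hm with hm | hm
  swap
  · -- `L` transitive outside `d`: impossible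
    exfalso
    obtain ⟨g3, hg3L, ho3⟩ := exists_order L 3 (by rw [hcL]; norm_num)
    obtain ⟨y, hyd, hy⟩ := exists_fix_outside hd (hH (hLH hg3L)) (hHd _ (hLH hg3L)) ho3 hg3L.2
    have horb : (orbit L y1).toFinset = dᶜ := by
      apply Finset.eq_of_subset_of_card_le
      · intro z hz
        rw [Set.mem_toFinset] at hz
        rw [Finset.mem_compl]
        exact orbit_disjoint L d (fun l hl => hinv l (hLH hl)) y1 hy1 hz
      · rw [hdcc, ← Set.ncard_eq_toFinset_card' (orbit L y1), hm]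
    have hy_orb : y ∈ orbit L y1 := by
      rw [← Set.mem_toFinset, horb]
      simpa using hyd
    have heq : orbit L y = orbit L y1 := orbit_eq_iff.2 hy_orb
    have hs := StabCard.card_inf_stabilizer_mul L y
    rw [heq, hm, hcL] at hs
    have h55 : Nat.card ↥(L ⊓ stabilizer (Equiv.Perm GolayPt) y) = 55 := by omega
    have hmem : g3 ∈ L ⊓ stabilizer (Equiv.Perm GolayPt) y := ⟨hg3L, hy⟩
    have hdvd := orderOf_dvd_natCard (⟨g3, hmem⟩ : ↥(L ⊓ stabilizer (Equiv.Perm GolayPt) y))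
    rw [h55, Subgroup.orderOf_mk, ho3] at hdvd
    omega
  -- `L` fixes `y1`
  have hLy : ∀ l ∈ L, l y1 = y1 := fixes_of_orbit_one L y1 hm
  obtain ⟨c, b, r, h1, h2, h3, h4, h6⟩ := orbit_info_inv H hH d hinv y1 hy1 11 (by rw [hc]; norm_num)
  obtain ⟨hb1, hb2⟩ := orbit_bound_inv H d hinv y1 hy1
  rw [card_pts, hdc] at hb2
  rw [hdc] at h3
  have hs2 := StabCard.card_inf_stabilizer_mul H y1
  rw [hc] at hs2
  have hLle : L ≤ H ⊓ stabilizer (Equiv.Perm GolayPt) y1 := fun l hl => ⟨hLH hl, hLy l hl⟩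
  have hdvd := Subgroup.card_dvd_of_le hLle
  rw [hcL] at hdvd
  have hm2 : (orbit H y1).ncard = 1 ∨ (orbit H y1).ncard = 11 ∨ (orbit H y1).ncard = 12 := by omega
  rcases hm2 with hm2 | hm2 | hm2
  · exact ⟨y1, fixes_of_orbit_one H y1 hm2⟩
  · exfalso
    rw [hm2] at hs2
    have : Nat.card ↥(H ⊓ stabilizer (Equiv.Perm GolayPt) y1) = 720 := by omega
    rw [this] at hdvd
    omega
  exfalso
  rw [hm2] at hs2
  have hLeq : L = H ⊓ stabilizer (Equiv.Perm GolayPt) y1 :=
    Subgroup.eq_of_le_of_card_ge hLle (by rw [hcL]; omega)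
  obtain ⟨h, hh, hhx⟩ := exists_moving H x0 (by rw [hn]; norm_num)
  have hx1d : h x0 ∈ d := hinv h hh x0 hx0d
  have hy2d : h y1 ∉ d := by rw [hiff h hh]; exact hy1
  have hy12 : h y1 ≠ y1 := by
    intro e
    have : h ∈ L := by rw [hLeq]; exact ⟨hh, e⟩
    exact hhx this.2
  -- the stabiliser of two points of `d`
  have hB1 : ∀ l ∈ L, ∀ b ∈ insert x0 dᶜ, l b ∈ insert x0 dᶜ := by
    intro l hl b hb
    rw [Finset.mem_insert] at hb ⊢
    rcases hb with rfl | hb
    · left; exact hl.2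
    · right; exact hinvc l (hLH hl) b hb
  have hcB1 : (insert x0 dᶜ).card = 13 := by rw [Finset.card_insert_of_notMem hx0, hdcc]
  have hx1B : h x0 ∉ insert x0 dᶜ := by
    rw [Finset.mem_insert, Finset.mem_compl]
    push Not
    exact ⟨hhx, hx1d⟩
  obtain ⟨-, hbT⟩ := orbit_bound_inv L _ hB1 (h x0) hx1B
  rw [card_pts, hcB1] at hbT
  have hsT := StabCard.card_inf_stabilizer_mul L (h x0)
  rw [hcL] at hsT
  set T := L ⊓ stabilizer (Equiv.Perm GolayPt) (h x0) with hT
  have hTL : T ≤ L := inf_le_left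
  have hTy2 : ∀ t ∈ T, t (h y1) = h y1 := by
    intro t ht
    have hmem : h⁻¹ * t * h ∈ L := by
      refine ⟨H.mul_mem (H.mul_mem (H.inv_mem hh) (hLH (hTL ht))) hh, ?_⟩
      change (h⁻¹ * t * h) x0 = x0
      simp only [Equiv.Perm.mul_apply]
      have : t (h x0) = h x0 := ht.2
      rw [this]
      simp
    have := hLy _ hmem
    simp only [Equiv.Perm.mul_apply] at this
    rwa [Equiv.Perm.inv_eq_iff_eq] at this
  obtain ⟨x2, hx2d, hx2⟩ := Finset.exists_mem_notMem_of_card_lt_card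
    (s := {x0, h x0}) (t := d) (by
      have := Finset.card_le_two (a := x0) (b := h x0)
      omega)
  rw [Finset.mem_insert, Finset.mem_singleton] at hx2
  push Not at hx2
  have hB2 : ∀ l ∈ T, ∀ b ∈ insert (h x0) (insert x0 dᶜ), l b ∈ insert (h x0) (insert x0 dᶜ) := by
    intro l hl b hb
    rw [Finset.mem_insert] at hb ⊢
    rcases hb with rfl | hb
    · left; exact hl.2
    · right; exact hB1 l (hTL hl) b hb
  have hcB2 : (insert (h x0) (insert x0 dᶜ)).card = 14 := by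
    rw [Finset.card_insert_of_notMem hx1B, hcB1]
  have hx2B : x2 ∉ insert (h x0) (insert x0 dᶜ) := by
    rw [Finset.mem_insert, Finset.mem_insert, Finset.mem_compl]
    push Not
    exact ⟨hx2.2, hx2.1, hx2d⟩
  obtain ⟨-, hbZ⟩ := orbit_bound_inv T _ hB2 x2 hx2B
  rw [card_pts, hcB2] at hbZ
  have hsZ := StabCard.card_inf_stabilizer_mul T x2
  have hne : ∀ {a b : GolayPt}, a ∈ d → b ∉ d → a ≠ b := fun ha hb e => hb (e ▸ ha)
  have h5 := card_le_five hd (T ⊓ stabilizer (Equiv.Perm GolayPt) x2)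
    (inf_le_left.trans (hTL.trans (hLH.trans hH)))
    (fun z hz => hHd z (hLH (hTL hz.1))) (x0 := x0) (x1 := h x0) (x2 := x2) (y1 := y1) (y2 := h y1)
    (by
      simp only [List.nodup_cons, List.mem_cons, List.not_mem_nil, or_false, not_or,
        not_false_eq_true, List.nodup_nil, and_true]
      exact ⟨⟨Ne.symm hhx, Ne.symm hx2.1, hne hx0d hy1, hne hx0d hy2d⟩,
        ⟨Ne.symm hx2.2, hne hx1d hy1, hne hx1d hy2d⟩, ⟨hne hx2d hy1, hne hx2d hy2d⟩, Ne.symm hy12⟩)
    hx0d hx1d hx2d hy1 hy2d (by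
      intro z hz p hp
      simp only [List.mem_cons, List.not_mem_nil, or_false] at hp
      rcases hp with rfl | rfl | rfl | rfl | rfl
      · exact (hTL hz.1).2
      · exact hz.1.2
      · exact hz.2
      · exact hLy z (hTL hz.1)
      · exact hTy2 z hz.1)
  have i1 : Nat.card T * (orbit L (h x0)).ncard ≤ Nat.card T * 11 := Nat.mul_le_mul_left _ (by omega)
  have i2 : Nat.card ↥(T ⊓ stabilizer (Equiv.Perm GolayPt) x2) * (orbit T x2).ncard ≤
      Nat.card ↥(T ⊓ stabilizer (Equiv.Perm GolayPt) x2) * 10 := Nat.mul_le_mul_left _ (by omega)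
  omega

end Cfsg.Agent.Lib.Helper3.AutM12
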