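import Mathlib
import Cfsg.Agent.Lib.Helper3.AutIdx

/-!
# Permutations normalising `M24`, `M23`, `M22`
-/

set_option autoImplicit false

namespace Cfsg.Agent.Lib.Helper3.AutNorm

open MulAction Subgroup Cfsg Cfsg.Agent.Lib.Helper28 Cfsg.Agent.Lib.Helper3.M24T
open Cfsg.Agent.Lib.Helper3.AutP Cfsg.Agent.Lib.Helper3.AutFix
open scoped Pointwise

/-- `π` maps the set with mask `m` to a code word -/
def Good (π : Equiv.Perm GolayPt) (m : ℕ) : Prop := isCode (mk (π • un m)) = true

theorem good_zero (π : Equiv.Perm GolayPt) : Good π 0 := by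
  unfold Good
  simp [un_zero, mk_empty, isCode_zero]

theorem good_xor {π : Equiv.Perm GolayPt} {m n : ℕ} (hm : Good π m) (hn : Good π n) :
    Good π (m ^^^ n) := by
  unfold Good at *
  rw [un_xor, smul_symmDiff, mk_symmDiff]
  exact isCode_xor hm hn

theorem good_foldl {π : Equiv.Perm GolayPt} (l : List ℕ) (h : ∀ m ∈ l, Good π m) (a : ℕ)
    (ha : Good π a) : Good π (l.foldl (· ^^^ ·) a) := by
  induction l generalizing a with
  | nil => exact ha
  | cons b l ih =>
    exact ih (fun m hm => h m (List.mem_cons_of_mem _ hm)) _ (good_xor ha (h b List.mem_cons_self))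

/-- eleven octads through `∞` and `0` -/
def L11 : List ℕ := [13062145, 9347075, 11100169, 8966165, 10846245, 9506893, 14254209, 11731203,
  12325377, 10630149, 15747077]

/-- an octad through `∞` missing `0` -/
def c0 : ℕ := 13938692

def sel : List (List ℕ) := [[13062145], [13062145, 9347075], [13938692], [13062145, 11100169],
  [13062145, 8966165, 13938692], [13062145, 10846245, 13938692], [11100169, 9506893, 13938692],
  [13062145, 14254209], [9347075, 11731203], [13062145, 12325377], [13062145, 10630149, 13938692],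
  [13062145, 15747077, 13938692]]

theorem sel_mem : ∀ l ∈ sel, ∀ m ∈ l, m ∈ c0 :: L11 := by decide

theorem sel_eq : B12 = sel.map fun l => l.foldl (· ^^^ ·) 0 := by decide +kernel

theorem L11_oct : ∀ m ∈ L11, isOct m = true ∧ m.testBit 23 = true ∧ m.testBit 0 = true := by
  decide +kernel

theorem c0_oct : isOct c0 = true ∧ c0.testBit 23 = true ∧ c0.testBit 0 = false := by decide +kernel

/-- a permutation mapping the twelve chosen octads to code words lies in `M24` -/
theorem mem_M24_of_good {π : Equiv.Perm GolayPt} (h : ∀ m ∈ c0 :: L11, Good π m) : π ∈ M24 := by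
  rw [mem_M24_iff]
  simp only [mapsCode, List.all_eq_true]
  intro b hb
  have hb' := hb
  rw [sel_eq, List.mem_map] at hb'
  obtain ⟨l, hl, rfl⟩ := hb'
  have := good_foldl l (fun m hm => h m (sel_mem l hl m hm)) 0 (good_zero π)
  unfold Good at this
  rwa [mk_smul, mk_un (B12_lt _ hb)] at this

theorem none_mem_un {m : ℕ} : (none : GolayPt) ∈ un m ↔ m.testBit 23 = true := by
  rw [mem_un]; rfl

theorem zero_mem_un {m : ℕ} : (some 0 : GolayPt) ∈ un m ↔ m.testBit 0 = true := by
  rw [mem_un]; rfl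

/-- a permutation mapping the octads through `∞` to octads lies in `M24` -/
theorem mem_M24_of_octads {π : Equiv.Perm GolayPt}
    (h : ∀ o ∈ octads, (none : GolayPt) ∈ o → π • o ∈ octads) : π ∈ M24 := by
  apply mem_M24_of_good
  intro m hm
  have hm' : isOct m = true ∧ m.testBit 23 = true := by
    rw [List.mem_cons] at hm
    rcases hm with rfl | hm
    · exact ⟨c0_oct.1, c0_oct.2.1⟩
    · exact ⟨(L11_oct m hm).1, (L11_oct m hm).2.1⟩
  have := h (un m) (un_mem_octads hm'.1) (none_mem_un.2 hm'.2)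
  rw [mem_octads_iff_isOct, isOct_iff] at this
  exact this.1

/-- conjugation moves fixed octads -/
theorem smul_octad_of_conj {π g : Equiv.Perm GolayPt} (hg1 : g ≠ 1) (hc : π * g * π⁻¹ ∈ M24)
    (h8 : (fixSet g).card = 8) : π • fixSet g ∈ octads := by
  rw [← fixSet_conj]
  apply (fix_aux hc ?_).2
  · rw [fixSet_conj, card_smul, h8]
  · intro h
    apply hg1
    have e : g = π⁻¹ * (π * g * π⁻¹) * π := by group
    rw [e, h]; simp

/-- if `π` conjugates the pointwise stabiliser of `F` in `M24` into `M24`, it maps octads containing `F`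
to octads -/
theorem smul_octad_of_norm {π : Equiv.Perm GolayPt} (F : Finset GolayPt)
    (h : ∀ g ∈ M24, (∀ a ∈ F, g a = a) → π * g * π⁻¹ ∈ M24) {o : Finset GolayPt} (ho : o ∈ octads)
    (hF : F ⊆ o) : π • o ∈ octads := by
  obtain ⟨g, hg, hg1, hfix⟩ := exists_fix_octad ho
  rw [← hfix]
  apply smul_octad_of_conj hg1
  · apply h g hg
    intro a ha
    apply mem_fixSet.1
    rw [hfix]; exact hF ha
  · rw [hfix]; exact ho.2

theorem map_eq_self {α : Type*} {f : α → α} : ∀ {l : List α}, l.map f = l → ∀ a ∈ l, f a = a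
  | [], _, a, ha => by simp at ha
  | b :: l, h, a, ha => by
    rw [List.map_cons, List.cons.injEq] at h
    rw [List.mem_cons] at ha
    rcases ha with rfl | ha
    · exact h.1
    · exact map_eq_self h.2 a ha

section general

variable (G : Subgroup (Equiv.Perm GolayPt)) (F : Finset GolayPt)

/-- multiple transitivity of a pointwise stabiliser -/
theorem exists_map (hG : ∀ g, g ∈ G ↔ g ∈ M24 ∧ ∀ a ∈ F, g a = a) {xs ys : List GolayPt}
    (hlen : xs.length = ys.length) (h5 : F.card + xs.length ≤ 5) (hx : xs.Nodup) (hy : ys.Nodup)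
    (hxF : ∀ x ∈ xs, x ∉ F) (hyF : ∀ y ∈ ys, y ∉ F) : ∃ g ∈ G, xs.map g = ys := by
  obtain ⟨g, hg, h⟩ := exists_M24_map_list (F.toList ++ xs) (F.toList ++ ys)
    (by simp [hlen]) (by simpa using h5)
    (List.Nodup.append F.nodup_toList hx (fun a ha hb => hxF a hb (Finset.mem_toList.1 ha)))
    (List.Nodup.append F.nodup_toList hy (fun a ha hb => hyF a hb (Finset.mem_toList.1 ha)))
  rw [List.map_append] at h
  obtain ⟨h1, h2⟩ := List.append_inj h (by simp)
  exact ⟨g, (hG g).2 ⟨hg, fun a ha => map_eq_self h1 a (Finset.mem_toList.2 ha)⟩, h2⟩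

theorem exists_trans (hF : F.card ≤ 2) (hG : ∀ g, g ∈ G ↔ g ∈ M24 ∧ ∀ a ∈ F, g a = a)
    {x y : GolayPt} (hx : x ∉ F) (hy : y ∉ F) : ∃ g ∈ G, g x = y := by
  obtain ⟨g, hg, h⟩ := exists_map G F hG (xs := [x]) (ys := [y]) rfl (by simp; omega) (by simp)
    (by simp) (by simpa using hx) (by simpa using hy)
  exact ⟨g, hg, by simpa using h⟩

theorem exists_move (hF : F.card ≤ 2) (hG : ∀ g, g ∈ G ↔ g ∈ M24 ∧ ∀ a ∈ F, g a = a)
    {x y : GolayPt} (hx : x ∉ F) (hy : y ∉ F) (hxy : x ≠ y) : ∃ g ∈ G, g x = x ∧ g y ≠ y := by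
  obtain ⟨z, hz⟩ := exists_not_mem (insert x (insert y F)) (by
    have h1 := Finset.card_insert_le x (insert y F)
    have h2 := Finset.card_insert_le y F
    omega)
  simp only [Finset.mem_insert, not_or] at hz
  obtain ⟨g, hg, h⟩ := exists_map G F hG (xs := [x, y]) (ys := [x, z]) rfl (by simp; omega)
    (by simpa using hxy) (by simpa using (Ne.symm hz.1)) (by simp [hx, hy]) (by simp [hx, hz.2.2])
  simp only [List.map_cons, List.map_nil, List.cons.injEq, and_true] at h
  exact ⟨g, hg, h.1, by rw [h.2]; exact hz.2.1⟩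

theorem index_stab (hF : F.card ≤ 2) (hG : ∀ g, g ∈ G ↔ g ∈ M24 ∧ ∀ a ∈ F, g a = a)
    {x : GolayPt} (hx : x ∉ F) : (stabilizer G x).index = 24 - F.card := by
  rw [index_stabilizer]
  have : orbit G x = ((Fᶜ : Finset GolayPt) : Set GolayPt) := by
    ext y
    rw [Finset.mem_coe, Finset.mem_compl]
    constructor
    · rintro ⟨g, rfl⟩ hy
      apply hx
      have h1 := ((hG _).1 (g⁻¹ : G).2).2 _ hy
      have h2 : ((g⁻¹ : G) : Equiv.Perm GolayPt) (g • x) = x := by
        change ((g⁻¹ : G) : Equiv.Perm GolayPt) ((g : Equiv.Perm GolayPt) x) = x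
        simp
      rw [h2] at h1
      rw [h1]; exact hy
    · intro hy
      obtain ⟨g, hg, h⟩ := exists_trans G F hF hG hx hy
      exact ⟨⟨g, hg⟩, h⟩
  rw [this, Set.ncard_coe_finset, Finset.card_compl, card_pts]

/-- automorphisms of a pointwise stabiliser are induced by permutations, provided subgroups of the order
of a point stabiliser fix a point -/
theorem exists_perm (hF : F.card ≤ 2) (hG : ∀ g, g ∈ G ↔ g ∈ M24 ∧ ∀ a ∈ F, g a = a)
    (hidx : ∀ H : Subgroup (Equiv.Perm GolayPt), H ≤ G → Nat.card H * (24 - F.card) = Nat.card G →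
      ∃ x, x ∉ F ∧ ∀ h ∈ H, h x = x)
    (α : MulAut G) : ∃ π : Equiv.Perm GolayPt, (∀ x ∈ F, π x = x) ∧
      ∀ g : G, ((α g : G) : Equiv.Perm GolayPt) = π * (g : Equiv.Perm GolayPt) * π⁻¹ := by
  refine exists_perm_of_aut G (F : Set GolayPt) (24 - F.card)
    (fun g hg x hx => ((hG g).1 hg).2 x hx) ?_ (fun x hx => index_stab G F hF hG hx) ?_ α
  · intro H hH
    have hcard : Nat.card (H.map G.subtype) = Nat.card H :=
      Subgroup.card_map_of_injective G.subtype_injective
    obtain ⟨x, hx, hfix⟩ := hidx (H.map G.subtype) (by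
      rintro _ ⟨g, _, rfl⟩
      exact g.2) (by rw [hcard, ← hH, Subgroup.card_mul_index])
    refine ⟨x, hx, ?_⟩
    have hle : H ≤ stabilizer G x := by
      intro g hg
      exact hfix g ⟨g, hg, rfl⟩
    apply Subgroup.eq_of_le_of_card_ge hle
    have e1 := H.card_mul_index
    have e2 := (stabilizer G x).card_mul_index
    rw [hH] at e1
    rw [index_stab G F hF hG hx] at e2
    have hpos : 0 < 24 - F.card := by omega
    have : Nat.card ↥(stabilizer G x) * (24 - F.card) = Nat.card H * (24 - F.card) := by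
      rw [e1, e2]
    exact (Nat.eq_of_mul_eq_mul_right hpos this).le
  · intro x hx y hy hxy
    by_contra hne
    obtain ⟨g, hg, h1, h2⟩ := exists_move G F hF hG hx hy hne
    have h3 : (⟨g, hg⟩ : G) ∈ stabilizer G x := h1
    rw [hxy] at h3
    exact h2 h3

end general

end Cfsg.Agent.Lib.Helper3.AutNorm
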