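import Mathlib
import Cfsg.Agent.Lib.Helper3.AutNorm

/-!
# Permutations normalising `M22`
-/

set_option autoImplicit false

namespace Cfsg.Agent.Lib.Helper3.AutM22

open MulAction Subgroup Cfsg Cfsg.Agent.Lib.Helper28 Cfsg.Agent.Lib.Helper3.M24T
open Cfsg.Agent.Lib.Helper3.AutP Cfsg.Agent.Lib.Helper3.AutFix Cfsg.Agent.Lib.Helper3.AutNorm
open scoped Pointwise

/-- the mask of `{∞, 0}` -/
def e0 : ℕ := 8388609

theorem parity_xor (a b d : ℕ) :
    popc ((a ^^^ b) &&& d) % 2 = (popc (a &&& d) + popc (b &&& d)) % 2 := by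
  rw [Nat.and_xor_distrib_right]
  have := popc_xor_add (a &&& d) (b &&& d)
  omega

theorem dual_check : allRange 12 0 (fun j => !(L11.all fun d => popc ((4096 * j) &&& d) % 2 == 0) ||
    isCode (4096 * j) || isCode ((4096 * j) ^^^ e0)) = true := by decide +kernel

/-- a word orthogonal to the octads through `∞` and `0` is a code word up to `{∞, 0}` -/
theorem dual {v : ℕ} (hv : v < 2 ^ 24) (h : ∀ d ∈ L11, popc (v &&& d) % 2 = 0) :
    isCode v = true ∨ isCode (v ^^^ e0) = true := by
  have hlt : v % 4096 < 4096 := Nat.mod_lt _ (by norm_num)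
  obtain ⟨f1, f2, _⟩ := enc_facts (v % 4096) hlt
  have hcw : isCode (enc B12 (v % 4096)) = true := isCode_enc hlt
  set cw := enc B12 (v % 4096) with hcwdef
  set r := v ^^^ cw with hr
  have hr1 : r % 4096 = 0 := by
    have : (4096 : ℕ) = 2 ^ 12 := by norm_num
    rw [hr, this, Nat.xor_mod_two_pow, ← this, f1, Nat.xor_self]
  have hr2 : r < 2 ^ 24 := Nat.xor_lt_two_pow hv (by norm_num; exact f2)
  have hrj : r = 4096 * (r / 4096) := by omega
  have hj : r / 4096 < 2 ^ 12 := by norm_num at hr2 ⊢; omega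
  have hchk := forall_lt_of_allRange 12 _ dual_check _ hj
  rw [← hrj] at hchk
  have hall : (L11.all fun d => popc (r &&& d) % 2 == 0) = true := by
    rw [List.all_eq_true]
    intro d hd
    rw [beq_iff_eq, hr, parity_xor, Nat.add_mod, h d hd]
    have := even_popc_land hcw (isOct_iff.1 (L11_oct d hd).1).1
    omega
  rw [hall] at hchk
  simp only [Bool.not_true, Bool.false_or, Bool.or_eq_true] at hchk
  have hv' : v = r ^^^ cw := by rw [hr, Nat.xor_assoc, Nat.xor_self, Nat.xor_zero]
  rcases hchk with hc | hc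
  · left
    rw [hv']
    exact isCode_xor hc hcw
  · right
    have hx : ∀ a b c : ℕ, (a ^^^ b) ^^^ c = (a ^^^ c) ^^^ b := by
      intro a b c
      rw [Nat.xor_assoc, Nat.xor_comm b c, ← Nat.xor_assoc]
    have : v ^^^ e0 = (r ^^^ e0) ^^^ cw := by
      rw [← hx, ← hv']
    rw [this]
    exact isCode_xor hc hcw

/-- the transposition of `∞` and `0` -/
noncomputable def sw : Equiv.Perm GolayPt := Equiv.swap none (some 0)

theorem mem_sw_smul (s : Finset GolayPt) (p : GolayPt) : p ∈ sw • s ↔ sw p ∈ s := by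
  rw [← Finset.inv_smul_mem_iff]
  unfold sw
  rw [Equiv.swap_inv, Equiv.Perm.smul_def]

theorem sw_smul_both {s : Finset GolayPt} (h0 : (none : GolayPt) ∈ s) (h1 : (some 0 : GolayPt) ∈ s) :
    sw • s = s := by
  ext p
  rw [mem_sw_smul]
  unfold sw
  by_cases hp : p = none
  · subst hp
    rw [Equiv.swap_apply_left]
    exact ⟨fun _ => h0, fun _ => h1⟩
  by_cases hp' : p = some 0
  · subst hp'
    rw [Equiv.swap_apply_right]
    exact ⟨fun _ => h1, fun _ => h0⟩
  rw [Equiv.swap_apply_of_ne_of_ne hp hp']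

theorem mk_pair : mk ({none, some 0} : Finset GolayPt) = e0 := by decide +kernel

theorem mk_sw_smul {s : Finset GolayPt} (h0 : (none : GolayPt) ∈ s) (h1 : (some 0 : GolayPt) ∉ s) :
    mk (sw • s) = mk s ^^^ e0 := by
  have : sw • s = symmDiff s {none, some 0} := by
    ext p
    rw [mem_sw_smul, Finset.mem_symmDiff]
    unfold sw
    by_cases hp : p = none
    · subst hp
      rw [Equiv.swap_apply_left]
      simp [h0, h1]
    by_cases hp' : p = some 0
    · subst hp'
      rw [Equiv.swap_apply_right]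
      simp [h0, h1]
    rw [Equiv.swap_apply_of_ne_of_ne hp hp']
    simp [hp, hp']
  rw [this, mk_symmDiff, mk_pair]

theorem mem_M22_iff (g : Equiv.Perm GolayPt) :
    g ∈ Spor.M22 ↔ g ∈ M24 ∧ ∀ a ∈ ({none, some 0} : Finset GolayPt), g a = a := by
  constructor
  · rintro ⟨⟨h1, h2⟩, h3⟩
    refine ⟨h1, fun a ha => ?_⟩
    rw [Finset.mem_insert, Finset.mem_singleton] at ha
    rcases ha with rfl | rfl
    · exact h2
    · exact h3
  · rintro ⟨h1, h2⟩
    exact ⟨⟨h1, h2 none (by simp)⟩, h2 (some 0) (by simp)⟩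

theorem L11_lt : ∀ d ∈ L11, d < 2 ^ 24 := by decide

/-- a permutation fixing `∞` and `0` and normalising `M22` lies in `M24`, up to the transposition -/
theorem dichotomy {π : Equiv.Perm GolayPt} (h0 : π none = none) (h1 : π (some 0) = some 0)
    (hn : ∀ g ∈ Spor.M22, π * g * π⁻¹ ∈ M24) (hn' : ∀ g ∈ Spor.M22, π⁻¹ * g * π ∈ M24) :
    π ∈ M24 ∨ sw * π ∈ M24 := by
  have hsub : ∀ d ∈ L11, ({none, some 0} : Finset GolayPt) ⊆ un d := by
    intro d hd a ha
    rw [Finset.mem_insert, Finset.mem_singleton] at ha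
    rcases ha with rfl | rfl
    · exact none_mem_un.2 (L11_oct d hd).2.1
    · exact zero_mem_un.2 (L11_oct d hd).2.2
  have hoct : ∀ d ∈ L11, π • un d ∈ octads := by
    intro d hd
    apply smul_octad_of_norm {none, some 0} _ (un_mem_octads (L11_oct d hd).1) (hsub d hd)
    intro g hg hfix
    exact hn g ((mem_M22_iff g).2 ⟨hg, hfix⟩)
  have hoct' : ∀ d ∈ L11, π⁻¹ • un d ∈ octads := by
    intro d hd
    apply smul_octad_of_norm {none, some 0} _ (un_mem_octads (L11_oct d hd).1) (hsub d hd)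
    intro g hg hfix
    rw [inv_inv]
    exact hn' g ((mem_M22_iff g).2 ⟨hg, hfix⟩)
  have hgood : ∀ d ∈ L11, Good π d := by
    intro d hd
    have := hoct d hd
    rw [mem_octads_iff_isOct, isOct_iff] at this
    exact this.1
  have hpar : ∀ d ∈ L11, popc (mk (π • un c0) &&& d) % 2 = 0 := by
    intro d hd
    have e1 : π • un c0 ∩ un d = π • (un c0 ∩ π⁻¹ • un d) := by
      rw [Finset.smul_finset_inter, smul_inv_smul]
    have e2 : mk (π • un c0) &&& d = mk (π • un c0 ∩ un d) := by
      rw [mk_inter, mk_un (L11_lt d hd)]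
    rw [e2, ← card_eq_popc, e1, card_smul, card_eq_popc, mk_inter, mk_un (by decide : c0 < 2 ^ 24)]
    have h3 := hoct' d hd
    rw [mem_octads_iff_isOct, isOct_iff] at h3
    have := even_popc_land (isOct_iff.1 c0_oct.1).1 h3.1
    omega
  have hc0n : (none : GolayPt) ∈ π • un c0 := by
    rw [← h0, mem_smul_finset_iff]
    exact none_mem_un.2 c0_oct.2.1
  have hc0z : (some 0 : GolayPt) ∉ π • un c0 := by
    rw [← h1, mem_smul_finset_iff, zero_mem_un, c0_oct.2.2]
    simp
  rcases dual (mk_lt _) hpar with hc | hc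
  · left
    apply mem_M24_of_good
    intro m hm
    rw [List.mem_cons] at hm
    rcases hm with rfl | hm
    · exact hc
    · exact hgood m hm
  · right
    apply mem_M24_of_good
    intro m hm
    rw [List.mem_cons] at hm
    unfold Good
    rw [mul_smul]
    rcases hm with rfl | hm
    · rw [mk_sw_smul hc0n hc0z]
      exact hc
    · rw [sw_smul_both]
      · exact hgood m hm
      · rw [← h0, mem_smul_finset_iff]
        exact none_mem_un.2 (L11_oct m hm).2.1
      · rw [← h1, mem_smul_finset_iff]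
        exact zero_mem_un.2 (L11_oct m hm).2.2

/-- conjugation by a normalising permutation, as an automorphism -/
def conjAut {Ω : Type*} (G : Subgroup (Equiv.Perm Ω)) (τ : Equiv.Perm Ω)
    (h : ∀ g ∈ G, τ * g * τ⁻¹ ∈ G) (h' : ∀ g ∈ G, τ⁻¹ * g * τ ∈ G) : MulAut G where
  toFun g := ⟨τ * g * τ⁻¹, h g g.2⟩
  invFun g := ⟨τ⁻¹ * g * τ, h' g g.2⟩
  left_inv g := by
    apply Subtype.ext
    change τ⁻¹ * (τ * g * τ⁻¹) * τ = g
    group
  right_inv g := by
    apply Subtype.ext
    change τ * (τ⁻¹ * g * τ) * τ⁻¹ = g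
    group
  map_mul' a b := by
    apply Subtype.ext
    change τ * (a * b) * τ⁻¹ = (τ * a * τ⁻¹) * (τ * b * τ⁻¹)
    group

theorem sw_comm {h : Equiv.Perm GolayPt} (h0 : h none = none) (h1 : h (some 0) = some 0) :
    sw * h * sw⁻¹ = h := by
  have := Equiv.mul_swap_eq_swap_mul h none (some 0)
  rw [h0, h1] at this
  unfold sw
  rw [← this]
  group

end Cfsg.Agent.Lib.Helper3.AutM22
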