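import Mathlib
import Cfsg.Agent.Lib.Helper3.SetSys3
import Cfsg.Agent.Lib.Helper3.Dodecad
import Cfsg.Agent.Lib.Helper3.M11Compl

/-!
# Complementary pairs of dodecads
-/

set_option autoImplicit false
open scoped Pointwise
open Cfsg

namespace Cfsg.Agent.Lib.Helper3.DodPair

open MulAction Cfsg.Agent.Lib.Helper28 Cfsg.Agent.Lib.Helper3.M24T Cfsg.Agent.Lib.Helper3.Orb
open Cfsg.Agent.Lib.Helper3.SS Cfsg.Agent.Lib.Helper3.Dod Cfsg.Agent.Lib.Helper3

/-- the pair formed by a set and its complement -/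
def pr (e : Finset GolayPt) : Finset (Finset GolayPt) := {e, Finset.univ \ e}

theorem smul_sdiff_univ (g : Equiv.Perm GolayPt) (e : Finset GolayPt) :
    g • (Finset.univ \ e) = Finset.univ \ (g • e) := by
  ext a
  rw [← Finset.inv_smul_mem_iff, Finset.mem_sdiff, Finset.mem_sdiff, ← Finset.inv_smul_mem_iff]
  simp

theorem smul_pr (g : Equiv.Perm GolayPt) (e : Finset GolayPt) : g • pr e = pr (g • e) := by
  unfold pr
  rw [Finset.smul_finset_insert, Finset.smul_finset_singleton, smul_sdiff_univ]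

theorem pr_compl (e : Finset GolayPt) : pr (Finset.univ \ e) = pr e := by
  unfold pr
  rw [Finset.sdiff_sdiff_eq_self (Finset.subset_univ e), Finset.pair_comm]

theorem compl_mem {e : Finset GolayPt} (he : e ∈ dodecads) : Finset.univ \ e ∈ dodecads := by
  rw [← Finset.compl_eq_univ_sdiff]
  exact M11C.compl_mem_dodecads he

theorem cnt : {x : Finset GolayPt | isCode (mk x) = true ∧ (popc (mk x) = 12 ∧ (mk x).testBit 23 = true)}.ncard = 1288 :=
  (ncard_code (fun m => popc m = 12 ∧ m.testBit 23 = true)).trans (by decide +kernel)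

theorem ncard_pairs : (pr '' dodecads).ncard = 1288 := by
  have key : pr '' dodecads = pr '' {e | e ∈ dodecads ∧ ptOf 23 ∈ e} := by
    ext P
    constructor
    · rintro ⟨e, he, rfl⟩
      by_cases hp : ptOf 23 ∈ e
      · exact ⟨e, ⟨he, hp⟩, rfl⟩
      · exact ⟨Finset.univ \ e, ⟨compl_mem he, by simp [hp]⟩, pr_compl e⟩
    · rintro ⟨e, ⟨he, _⟩, rfl⟩
      exact ⟨e, he, rfl⟩
  rw [key, Set.InjOn.ncard_image, ← cnt]
  · congr 1
    ext e
    simp only [Set.mem_ofPred_eq]
    rw [mem_dodecads_iff, ptOf_mem_iff (by norm_num)]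
    tauto
  · rintro e ⟨_, hpe⟩ e' ⟨_, hpe'⟩ h
    have : e ∈ pr e' := by rw [← h]; unfold pr; simp
    unfold pr at this
    rw [Finset.mem_insert, Finset.mem_singleton] at this
    rcases this with h1 | h1
    · exact h1
    · rw [h1] at hpe
      exact absurd hpe' (Finset.mem_sdiff.1 hpe).2

theorem card_stabIn_pair {d : Finset GolayPt} (hd : d ∈ dodecads) :
    Nat.card ↥(stabIn (pr d)) = 190080 := by
  have h1 := card_stabIn (pr d)
  have h2 : {Y | ∃ g ∈ M24, g • pr d = Y} = pr '' dodecads := by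
    ext Y
    constructor
    · rintro ⟨g, hg, rfl⟩
      exact ⟨g • d, smul_mem_dodecads hg hd, (smul_pr g d).symm⟩
    · rintro ⟨e, he, rfl⟩
      obtain ⟨g, hg, hge⟩ := exists_smul_eq hd he
      exact ⟨g, hg, by rw [smul_pr, hge]⟩
  rw [h2, ncard_pairs] at h1
  omega

/-- the base pair -/
def lP : List ℕ := [D0, 5304288]

theorem lP_good : goodL lP := by decide +kernel

theorem unL_lP : unL lP = pr (un D0) := by
  have h : un 5304288 = Finset.univ \ un D0 := by
    ext p
    rw [Finset.mem_sdiff, mem_un, mem_un]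
    have : ∀ j < 24, ((5304288 : ℕ).testBit j = true ↔ ¬ D0.testBit j = true) := by decide
    simp [this _ (idx_lt p)]
  unfold unL lP pr
  simp [h]

theorem exists_map_pair {d : Finset GolayPt} (hd : d ∈ dodecads) :
    ∃ k ∈ M24, k • pr d = unL lP := by
  obtain ⟨k, hk, hkd⟩ := exists_smul_eq hd D0_dod
  exact ⟨k, hk, by rw [smul_pr, hkd, unL_lP]⟩

end Cfsg.Agent.Lib.Helper3.DodPair
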