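import Mathlib
import Cfsg.Agent.Lib.Helper3.PermTools

/-!
# Jordan's theorems on sharply multiply transitive groups
-/

set_option autoImplicit false

namespace Cfsg.Agent.Lib.Helper3.Jordan

open MulAction Subgroup

variable {G Ω : Type*} [Group G] [MulAction G Ω]

theorem injective_vec4 {a b c d : Ω} (h : [a, b, c, d].Nodup) :
    Function.Injective ![a, b, c, d] := by
  simp only [List.nodup_cons, List.mem_cons, List.not_mem_nil, or_false, not_or, not_false_eq_true,
    List.nodup_nil, and_true] at h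
  obtain ⟨⟨h1, h2, h3⟩, ⟨h4, h5⟩, h6⟩ := h
  intro i j hij
  fin_cases i <;> fin_cases j <;> simp_all [Ne.symm]

theorem E4 (h : IsMultiplyPretransitive G Ω 4) {a b c d a' b' c' d' : Ω}
    (h1 : [a, b, c, d].Nodup) (h2 : [a', b', c', d'].Nodup) :
    ∃ g : G, g • a = a' ∧ g • b = b' ∧ g • c = c' ∧ g • d = d' := by
  obtain ⟨g, hg⟩ := Perm.exists_smul_of_injective h (injective_vec4 h1) (injective_vec4 h2)
  exact ⟨g, hg 0, hg 1, hg 2, hg 3⟩

theorem U4 (hs : ∀ x : Fin 4 ↪ Ω, stabilizer G x = ⊥) {a b c d : Ω} (h1 : [a, b, c, d].Nodup)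
    {g : G} (ha : g • a = a) (hb : g • b = b) (hc : g • c = c) (hd : g • d = d) : g = 1 := by
  have : g ∈ stabilizer G (⟨![a, b, c, d], injective_vec4 h1⟩ : Fin 4 ↪ Ω) := by
    rw [mem_stabilizer_iff]
    ext i
    fin_cases i <;> simpa
  rw [hs] at this
  exact this

theorem U4' (hs : ∀ x : Fin 4 ↪ Ω, stabilizer G x = ⊥) {a b c d : Ω} (h1 : [a, b, c, d].Nodup)
    {g h : G} (ha : g • a = h • a) (hb : g • b = h • b) (hc : g • c = h • c)
    (hd : g • d = h • d) : g = h := by
  have : h⁻¹ * g = 1 := by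
    apply U4 hs h1 <;> rw [mul_smul, inv_smul_eq_iff] <;> assumption
  rwa [inv_mul_eq_one, eq_comm] at this


/-- Jordan: a sharply 4-transitive group of degree at least 7 has degree 11. -/
theorem jordan4 [Fintype Ω] [DecidableEq Ω] (h : IsMultiplyPretransitive G Ω 4)
    (hs : ∀ x : Fin 4 ↪ Ω, stabilizer G x = ⊥) (hn : 7 ≤ Fintype.card Ω) :
    Fintype.card Ω = 11 := by
  obtain ⟨x⟩ : Nonempty (Fin 4 ↪ Ω) := by
    apply Function.Embedding.nonempty_of_card_le
    rw [Fintype.card_fin]; omega
  obtain ⟨a, b, c, d, habcd⟩ : ∃ a b c d : Ω, [a, b, c, d].Nodup := by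
    refine ⟨x 0, x 1, x 2, x 3, ?_⟩
    simp [x.injective.eq_iff]
  have habcd' := habcd
  simp only [List.nodup_cons, List.mem_cons, List.not_mem_nil, or_false, not_or, not_false_eq_true,
    List.nodup_nil, and_true] at habcd'
  obtain ⟨⟨hab, hac, had⟩, ⟨hbc, hbd⟩, hcd⟩ := habcd'
  have habdc : [a, b, d, c].Nodup := by
    simp only [List.nodup_cons, List.mem_cons, List.not_mem_nil, or_false, not_or,
      not_false_eq_true, List.nodup_nil, and_true]
    exact ⟨⟨hab, had, hac⟩, ⟨hbd, hbc⟩, Ne.symm hcd⟩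
  obtain ⟨t, hta, htb, htc, htd⟩ := E4 h habcd habdc
  have ht2 : t * t = 1 := by
    apply U4 hs habcd <;> rw [mul_smul] <;> simp [hta, htb, htc, htd]
  have htt : ∀ y : Ω, t • t • y = y := fun y => by rw [← mul_smul, ht2, one_smul]
  have hinj : ∀ y z : Ω, t • y = t • z → y = z := fun y z hyz => smul_left_cancel t hyz
  set F : Finset Ω := Finset.univ.filter (fun y => t • y = y) with hF
  set M : Finset Ω := Finset.univ.filter (fun y => ¬ t • y = y) with hM
  have memF : ∀ y, y ∈ F ↔ t • y = y := fun y => by simp [hF]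
  have memM : ∀ y, y ∈ M ↔ ¬ t • y = y := fun y => by simp [hM]
  have hFM : F.card + M.card = Fintype.card Ω := by
    rw [hF, hM, Finset.card_filter_add_card_filter_not, Finset.card_univ]
  have hF3 : F.card ≤ 3 := by
    by_contra hcon
    push Not at hcon
    obtain ⟨e⟩ : Nonempty (Fin 4 ↪ F) := by
      apply Function.Embedding.nonempty_of_card_le
      rw [Fintype.card_fin, Fintype.card_coe]; omega
    have : t ∈ stabilizer G (e.trans (Function.Embedding.subtype _)) := by
      rw [mem_stabilizer_iff]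
      ext i
      exact (memF _).1 (e i).2
    rw [hs, mem_bot] at this
    rw [this, one_smul] at htc
    exact hcd htc
  have hF2 : 2 ≤ F.card := by
    have : ({a, b} : Finset Ω) ⊆ F := by
      intro y hy
      simp only [Finset.mem_insert, Finset.mem_singleton] at hy
      rcases hy with rfl | rfl
      · exact (memF _).2 hta
      · exact (memF _).2 htb
    calc 2 = ({a, b} : Finset Ω).card := (Finset.card_pair hab).symm
      _ ≤ F.card := Finset.card_le_card this
  have hcM : c ∈ M := (memM c).2 (by rw [htc]; exact Ne.symm hcd)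
  obtain ⟨v₀, hv₀M, hv₀⟩ : ∃ v ∈ M, v ∉ ({c, d} : Finset Ω) := by
    apply Finset.exists_mem_notMem_of_card_lt_card
    rw [Finset.card_pair hcd]; omega
  simp only [Finset.mem_insert, Finset.mem_singleton, not_or] at hv₀
  -- distinctness lemmas
  have D1 : ∀ u v : Ω, u ∈ M → v ∈ M → v ≠ u → v ≠ t • u → [u, t • u, v, t • v].Nodup := by
    intro u v hu hv h1 h2
    rw [memM] at hu hv
    simp only [List.nodup_cons, List.mem_cons, List.not_mem_nil, or_false, not_or,
      not_false_eq_true, List.nodup_nil, and_true]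
    refine ⟨⟨fun e => hu e.symm, fun e => h1 e.symm, fun e => h2 ?_⟩,
      ⟨fun e => h2 e.symm, fun e => h1 (hinj _ _ e).symm⟩, fun e => hv e.symm⟩
    rw [e, htt]
  have D2 : ∀ p q v : Ω, p ∈ F → q ∈ F → p ≠ q → v ∈ M → [p, q, v, t • v].Nodup := by
    intro p q v hp hq hpq hv
    rw [memF] at hp hq
    rw [memM] at hv
    simp only [List.nodup_cons, List.mem_cons, List.not_mem_nil, or_false, not_or,
      not_false_eq_true, List.nodup_nil, and_true]
    refine ⟨⟨hpq, fun e => hv (e ▸ hp), fun e => hv ?_⟩,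
      ⟨fun e => hv (e ▸ hq), fun e => hv ?_⟩, fun e => hv e.symm⟩
    · have : t • p = t • v := by rw [hp]; exact e
      rw [← hinj _ _ this]; exact hp
    · have : t • q = t • v := by rw [hq]; exact e
      rw [← hinj _ _ this]; exact hq
  set C : Subgroup G := centralizer {t} with hC
  have memC : ∀ g : G, g ∈ C ↔ g * t = t * g := by
    intro g
    rw [hC, mem_centralizer_singleton_iff]
  have hCs : ∀ g ∈ C, ∀ y : Ω, g • t • y = t • g • y := by
    intro g hg y
    rw [← mul_smul, (memC g).1 hg, mul_smul]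
  have hCM : ∀ g ∈ C, ∀ y ∈ M, g • y ∈ M := by
    intro g hg y hy
    rw [memM] at hy ⊢
    rw [← hCs g hg]
    exact fun e => hy (smul_left_cancel g e)
  have hCF : ∀ g ∈ C, ∀ y ∈ F, g • y ∈ F := by
    intro g hg y hy
    rw [memF] at hy ⊢
    rw [← hCs g hg, hy]
  -- first count
  set A1 : Finset (Σ _ : Ω, Ω) := M.sigma (fun u => M \ {u, t • u}) with hA1
  have cardA1 : A1.card = M.card * (M.card - 2) := by
    rw [hA1, Finset.card_sigma]
    rw [Finset.sum_const_nat (m := M.card - 2)]
    intro u hu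
    rw [Finset.card_sdiff_of_subset, Finset.card_pair]
    · exact fun e => (memM u).1 hu e.symm
    · intro y hy
      simp only [Finset.mem_insert, Finset.mem_singleton] at hy
      rcases hy with rfl | rfl
      · exact hu
      · rw [memM, htt]
        exact fun e => (memM u).1 hu e.symm
  have card1 : Nat.card C = A1.card := by
    have hmem : ∀ g : C, (⟨(g : G) • c, (g : G) • v₀⟩ : Σ _ : Ω, Ω) ∈ A1 := by
      intro g
      rw [hA1, Finset.mem_sigma]
      refine ⟨hCM g g.2 c hcM, ?_⟩
      simp only [Finset.mem_sdiff, Finset.mem_insert, Finset.mem_singleton, not_or]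
      refine ⟨hCM g g.2 v₀ hv₀M, fun e => hv₀.1 (smul_left_cancel _ e), fun e => hv₀.2 ?_⟩
      rw [← hCs g g.2, htc] at e
      exact smul_left_cancel _ e
    rw [← Fintype.card_coe, ← Nat.card_eq_fintype_card]
    apply Nat.card_congr
    refine Equiv.ofBijective (fun g => ⟨_, hmem g⟩) ⟨?_, ?_⟩
    · intro g g' hgg
      have h1 := congrArg Subtype.val hgg
      simp only [Sigma.mk.injEq, heq_eq_eq] at h1
      apply Subtype.ext
      have hD := D1 c v₀ hcM hv₀M hv₀.1 (by rw [htc]; exact hv₀.2)
      apply U4' hs hD h1.1 _ h1.2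
      · rw [hCs g g.2, hCs g' g'.2, h1.2]
      · rw [hCs g g.2, hCs g' g'.2, h1.1]
    · rintro ⟨⟨u, v⟩, huv⟩
      have huv' := huv
      rw [hA1, Finset.mem_sigma] at huv'
      simp only [Finset.mem_sdiff, Finset.mem_insert, Finset.mem_singleton, not_or] at huv'
      obtain ⟨hu, hv, hvu, hvtu⟩ := huv'
      have hD := D1 c v₀ hcM hv₀M hv₀.1 (by rw [htc]; exact hv₀.2)
      obtain ⟨g, g1, g2, g3, g4⟩ := E4 h hD (D1 u v hu hv hvu hvtu)
      have hg : g ∈ C := by
        rw [memC]
        apply U4' hs hD <;> simp only [mul_smul, htt, g1, g2, g3, g4]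
      refine ⟨⟨g, hg⟩, ?_⟩
      apply Subtype.ext
      simp only [g1, g3]
  -- second count
  set A2 : Finset ((Ω × Ω) × Ω) := F.offDiag ×ˢ M with hA2
  have cardA2 : A2.card = (F.card * F.card - F.card) * M.card := by
    rw [hA2, Finset.card_product, Finset.offDiag_card]
  have haF : a ∈ F := (memF a).2 hta
  have hbF : b ∈ F := (memF b).2 htb
  have card2 : Nat.card C = A2.card := by
    have hmem : ∀ g : C, (((g : G) • a, (g : G) • b), (g : G) • c) ∈ A2 := by
      intro g
      rw [hA2, Finset.mem_product, Finset.mem_offDiag]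
      exact ⟨⟨hCF g g.2 a haF, hCF g g.2 b hbF, fun e => hab (smul_left_cancel _ e)⟩,
        hCM g g.2 c hcM⟩
    rw [← Fintype.card_coe, ← Nat.card_eq_fintype_card]
    apply Nat.card_congr
    refine Equiv.ofBijective (fun g => ⟨_, hmem g⟩) ⟨?_, ?_⟩
    · intro g g' hgg
      have h1 := congrArg Subtype.val hgg
      simp only [Prod.mk.injEq] at h1
      apply Subtype.ext
      have hD := D2 a b c haF hbF hab hcM
      apply U4' hs hD h1.1.1 h1.1.2 h1.2
      rw [hCs g g.2, hCs g' g'.2, h1.2]
    · rintro ⟨⟨⟨p, q⟩, v⟩, hpqv⟩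
      have hpqv' := hpqv
      rw [hA2, Finset.mem_product, Finset.mem_offDiag] at hpqv'
      obtain ⟨⟨hp, hq, hpq⟩, hv⟩ := hpqv'
      simp only at hp hq hpq hv
      have hD := D2 a b c haF hbF hab hcM
      obtain ⟨g, g1, g2, g3, g4⟩ := E4 h hD (D2 p q v hp hq hpq hv)
      have hg : g ∈ C := by
        rw [memC]
        apply U4' hs hD <;>
          simp only [mul_smul, htt, g1, g2, g3, g4, hta, htb, (memF p).1 hp, (memF q).1 hq]
      refine ⟨⟨g, hg⟩, ?_⟩
      apply Subtype.ext
      simp only [g1, g2, g3]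
  have key : M.card * (M.card - 2) = (F.card * F.card - F.card) * M.card := by
    rw [← cardA1, ← cardA2, ← card1, card2]
  have hMpos : 0 < M.card := by omega
  rw [mul_comm] at key
  have key2 := Nat.eq_of_mul_eq_mul_right hMpos key
  have : F.card = 2 ∨ F.card = 3 := by omega
  rcases this with h2 | h3
  · rw [h2] at key2; omega
  · rw [h3] at key2; omega


/-- The point stabiliser of a sharply `(k+1)`-transitive group is sharply `k`-transitive. -/
theorem sharp_ofStabilizer {k : ℕ} (hs : ∀ x : Fin (k + 1) ↪ Ω, stabilizer G x = ⊥) (a : Ω)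
    (x : Fin k ↪ SubMulAction.ofStabilizer G a) : stabilizer (stabilizer G a) x = ⊥ := by
  rw [eq_bot_iff]
  intro g hg
  have h1 : (g : G) ∈ stabilizer G (SubMulAction.ofStabilizer.snoc x) := by
    rw [mem_stabilizer_iff]
    ext i
    refine Fin.lastCases ?_ (fun j => ?_) i
    · rw [Function.Embedding.smul_apply, SubMulAction.ofStabilizer.snoc_last]
      exact g.2
    · rw [Function.Embedding.smul_apply, SubMulAction.ofStabilizer.snoc_castSucc]
      have := DFunLike.congr_fun (mem_stabilizer_iff.1 hg) j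
      exact congrArg Subtype.val this
  rw [hs] at h1
  exact Subtype.ext h1

/-- The normaliser of a subgroup of prime order `p` in a faithful group of degree `p` has order
`p * j` with `j ∣ p - 1`. -/
theorem card_normalizer_zpowers_dvd [Finite G] [FaithfulSMul G Ω] [Finite Ω] {p : ℕ}
    [hp : Fact p.Prime] (hΩ : Nat.card Ω = p) (x : G) (hx : orderOf x = p) :
    ∃ j, j ∣ p - 1 ∧ Nat.card (normalizer (zpowers x : Set G)) = p * j := by
  classical
  have htr := Perm.exists_zpow_smul_eq hΩ x hx
  have hne : Nonempty Ω := by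
    rw [← Nat.card_pos_iff.trans (and_iff_left inferInstance), hΩ]
    exact hp.out.pos
  obtain ⟨a⟩ := hne
  set H := normalizer (zpowers x : Set G) with hH
  have hQH : zpowers x ≤ H := le_normalizer
  have htH : IsPretransitive H Ω := by
    constructor
    intro b c
    obtain ⟨i, hi⟩ := htr b c
    exact ⟨⟨x ^ i, hQH (zpow_mem (mem_zpowers x) i)⟩, hi⟩
  have hidx : (stabilizer H a).index = p := by rw [index_stabilizer_of_transitive, hΩ]
  have hcard : Nat.card (stabilizer H a) * p = Nat.card H := by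
    rw [← hidx]; exact card_mul_index _
  let φ : stabilizer H a →* MulAut (zpowers x) :=
    (zpowers x).normalizerMonoidHom.comp (stabilizer H a).subtype
  have hφinj : Function.Injective φ := by
    rw [injective_iff_map_eq_one]
    intro g hg
    have h1 : ((g : H) : G) * x * ((g : H) : G)⁻¹ = x := by
      have := DFunLike.congr_fun hg ⟨x, mem_zpowers x⟩
      exact congrArg Subtype.val this
    set u : G := ((g : H) : G) with hu
    have hua : u • a = a := g.2
    have hcomm : u * x = x * u := by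
      have h2 := congrArg (fun z => z * u) h1
      simpa [mul_assoc] using h2
    have hcommi : ∀ i : ℤ, u * x ^ i = x ^ i * u := fun i =>
      ((show Commute u x from hcomm).zpow_right i).eq
    have hw : u = 1 := by
      apply FaithfulSMul.eq_of_smul_eq_smul (α := Ω)
      intro b
      obtain ⟨i, rfl⟩ := htr a b
      rw [one_smul, ← mul_smul, hcommi, mul_smul, hua]
    exact Subtype.ext (Subtype.ext hw)
  have hdvd := card_dvd_of_injective φ hφinj
  rw [IsCyclic.card_mulAut, Nat.card_zpowers, hx, Nat.totient_prime hp.out] at hdvd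
  refine ⟨Nat.card (stabilizer H a), hdvd, ?_⟩
  rw [← hcard, mul_comm]


/-- Sylow arithmetic in prime degree: `(|G| / p) % p` divides `p - 1`. -/
theorem mod_dvd_of_prime_degree [Finite G] [FaithfulSMul G Ω] [Finite Ω] {p : ℕ}
    [hp : Fact p.Prime] (hΩ : Nat.card Ω = p) (hpG : p ∣ Nat.card G)
    (hp2 : ¬ p ^ 2 ∣ Nat.card G) : (Nat.card G / p) % p ∣ p - 1 := by
  classical
  obtain ⟨x, hxG⟩ := exists_prime_orderOf_dvd_card' p hpG
  have hG0 : Nat.card G ≠ 0 := Nat.card_pos.ne'
  have hfac : (Nat.card G).factorization p = 1 := by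
    apply le_antisymm
    · by_contra h
      push Not at h
      exact hp2 ((hp.out.pow_dvd_iff_le_factorization hG0).2 h)
    · exact (hp.out.dvd_iff_one_le_factorization hG0).1 hpG
  let P : Sylow p G := Sylow.ofCard (zpowers (x : G)) (by rw [Nat.card_zpowers, hxG, hfac, pow_one])
  have hPcoe : (P : Subgroup G) = zpowers (x : G) := Sylow.coe_ofCard _ _
  obtain ⟨j, hj1, hjc⟩ := card_normalizer_zpowers_dvd hΩ (x : G) hxG
  rw [← hPcoe] at hjc
  set H := normalizer ((P : Subgroup G) : Set G) with hH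
  have hsyl : H.index % p = 1 := by
    have h1 := card_sylow_modEq_one p G
    rw [Sylow.card_eq_index_normalizer P] at h1
    have h2 : 1 % p = 1 := Nat.mod_eq_of_lt hp.out.one_lt
    rw [← h2]; exact h1
  have hcardG : Nat.card G = p * (H.index * j) := by
    rw [← card_mul_index H, hjc]; ring
  have hjle : j ≤ p - 1 := Nat.le_of_dvd (by have := hp.out.two_le; omega) hj1
  have hjk : (Nat.card G / p) % p = j := by
    rw [hcardG, Nat.mul_div_cancel_left _ hp.out.pos, Nat.mul_mod, hsyl, one_mul,
      Nat.mod_mod, Nat.mod_eq_of_lt (by have := hp.out.two_le; omega)]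
  rw [hjk]; exact hj1

/-- A sharply `k`-transitive action of degree at least `k` is faithful. -/
theorem faithful_of_sharp [Finite Ω] {k : ℕ} (hk : k ≤ Nat.card Ω)
    (hs : ∀ x : Fin k ↪ Ω, stabilizer G x = ⊥) : FaithfulSMul G Ω := by
  classical
  have : Fintype Ω := Fintype.ofFinite Ω
  obtain ⟨x⟩ : Nonempty (Fin k ↪ Ω) := by
    apply Function.Embedding.nonempty_of_card_le
    rwa [Fintype.card_fin, ← Nat.card_eq_fintype_card]
  constructor
  intro g g' h
  have : g'⁻¹ * g ∈ stabilizer G x := by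
    rw [mem_stabilizer_iff]
    ext i
    rw [Function.Embedding.smul_apply, mul_smul, h, inv_smul_smul]
  rw [hs, mem_bot, inv_mul_eq_one] at this
  exact this.symm

theorem finite_of_sharp [Finite Ω] {k : ℕ} (hk : k ≤ Nat.card Ω)
    (hs : ∀ x : Fin k ↪ Ω, stabilizer G x = ⊥) : Finite G := by
  have := faithful_of_sharp hk hs
  exact Finite.of_injective (fun g : G => (MulAction.toPerm g : Equiv.Perm Ω))
    MulAction.toPerm_injective

/-- Degrees of sharply 4-transitive groups. -/
theorem degree4 [Finite Ω] (h : IsMultiplyPretransitive G Ω 4)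
    (hs : ∀ x : Fin 4 ↪ Ω, stabilizer G x = ⊥) (hn : 4 ≤ Nat.card Ω) :
    Nat.card Ω = 4 ∨ Nat.card Ω = 5 ∨ Nat.card Ω = 6 ∨ Nat.card Ω = 11 := by
  classical
  have : Fintype Ω := Fintype.ofFinite Ω
  by_cases h7 : 7 ≤ Nat.card Ω
  · have := jordan4 h hs (by rwa [← Nat.card_eq_fintype_card])
    rw [← Nat.card_eq_fintype_card] at this
    omega
  · omega

theorem pretransitive_of_multiply [Finite Ω] {k : ℕ} (h : IsMultiplyPretransitive G Ω (k + 1))
    (hn : k + 1 ≤ Nat.card Ω) : IsPretransitive G Ω := by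
  have h1 : IsMultiplyPretransitive G Ω 1 :=
    isMultiplyPretransitive_of_le (n := k + 1) (by omega) (by exact_mod_cast hn)
  exact is_one_pretransitive_iff.1 h1

theorem nonempty_of_card [Finite Ω] {k : ℕ} (hn : k + 1 ≤ Nat.card Ω) : Nonempty Ω := by
  rw [← Nat.card_pos_iff.trans (and_iff_left inferInstance)]; omega

/-- Degrees of sharply 5-transitive groups. -/
theorem degree5 [Finite Ω] (h : IsMultiplyPretransitive G Ω 5)
    (hs : ∀ x : Fin 5 ↪ Ω, stabilizer G x = ⊥) (hn : 5 ≤ Nat.card Ω) :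
    Nat.card Ω = 5 ∨ Nat.card Ω = 6 ∨ Nat.card Ω = 7 ∨ Nat.card Ω = 12 := by
  have ht := pretransitive_of_multiply h hn
  obtain ⟨a⟩ := nonempty_of_card hn
  have h1 := degree4 (G := stabilizer G a) (Ω := SubMulAction.ofStabilizer G a)
    (SubMulAction.ofStabilizer.isMultiplyPretransitive.1 h) (sharp_ofStabilizer hs a)
    (by rw [SubMulAction.nat_card_ofStabilizer_eq]; omega)
  rw [SubMulAction.nat_card_ofStabilizer_eq] at h1
  omega

/-- Degrees of sharply 6-transitive groups. -/
theorem degree6 [Finite Ω] (h : IsMultiplyPretransitive G Ω 6)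
    (hs : ∀ x : Fin 6 ↪ Ω, stabilizer G x = ⊥) (hn : 6 ≤ Nat.card Ω) :
    Nat.card Ω = 6 ∨ Nat.card Ω = 7 ∨ Nat.card Ω = 8 := by
  have ht := pretransitive_of_multiply h hn
  obtain ⟨a⟩ := nonempty_of_card hn
  have h1 := degree5 (G := stabilizer G a) (Ω := SubMulAction.ofStabilizer G a)
    (SubMulAction.ofStabilizer.isMultiplyPretransitive.1 h) (sharp_ofStabilizer hs a)
    (by rw [SubMulAction.nat_card_ofStabilizer_eq]; omega)
  rw [SubMulAction.nat_card_ofStabilizer_eq] at h1
  have h13 : Nat.card Ω ≠ 13 := by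
    intro h13
    classical
    have : Fintype Ω := Fintype.ofFinite Ω
    obtain ⟨x⟩ : Nonempty (Fin 6 ↪ Ω) := by
      apply Function.Embedding.nonempty_of_card_le
      rwa [Fintype.card_fin, ← Nat.card_eq_fintype_card]
    have hG : Nat.card G = 1235520 := by
      rw [Perm.card_of_sharply h x (hs x), h13]; rfl
    have := faithful_of_sharp hn hs
    have := finite_of_sharp hn hs
    have : Fact (Nat.Prime 13) := ⟨by norm_num⟩
    have := mod_dvd_of_prime_degree (G := G) h13 (by rw [hG]; norm_num) (by rw [hG]; norm_num)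
    rw [hG] at this
    norm_num at this
  omega

/-- Degrees of sharply `k`-transitive groups, `k ≥ 6`. -/
theorem degree_ge6 (k : ℕ) : ∀ {G Ω : Type*} [Group G] [MulAction G Ω] [Finite Ω]
    (_ : IsMultiplyPretransitive G Ω (k + 6))
    (_ : ∀ x : Fin (k + 6) ↪ Ω, stabilizer G x = ⊥) (_ : k + 6 ≤ Nat.card Ω),
    Nat.card Ω = k + 6 ∨ Nat.card Ω = k + 6 + 1 ∨ Nat.card Ω = k + 6 + 2 := by
  induction k with
  | zero =>
    intro G Ω _ _ _ h hs hn
    have := degree6 (by simpa using h) (by simpa using hs) (by simpa using hn)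
    omega
  | succ k ih =>
    intro G Ω _ _ _ h hs hn
    have h' : IsMultiplyPretransitive G Ω ((k + 6) + 1) := by
      have e : k + 1 + 6 = (k + 6) + 1 := by omega
      rwa [e] at h
    have hs' : ∀ x : Fin ((k + 6) + 1) ↪ Ω, stabilizer G x = ⊥ := by
      have e : k + 1 + 6 = (k + 6) + 1 := by omega
      rwa [e] at hs
    have hn' : (k + 6) + 1 ≤ Nat.card Ω := by omega
    have ht := pretransitive_of_multiply h' hn'
    obtain ⟨a⟩ := nonempty_of_card hn'
    have h1 := ih (G := stabilizer G a) (Ω := SubMulAction.ofStabilizer G a)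
      (SubMulAction.ofStabilizer.isMultiplyPretransitive.1 h') (sharp_ofStabilizer hs' a)
      (by rw [SubMulAction.nat_card_ofStabilizer_eq]; omega)
    rw [SubMulAction.nat_card_ofStabilizer_eq] at h1
    omega

end Cfsg.Agent.Lib.Helper3.Jordan
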