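import Mathlib
import Cfsg.Agent.Lib.Helper3.Dodecad
import Cfsg.Agent.Lib.Helper3.Jordan
import Cfsg.Agent.S0418
import Cfsg.Agent.S0419

/-!
# The dodecad stabiliser `M12` and its point stabiliser `M11`
-/

set_option autoImplicit false

namespace Cfsg.Agent.Lib.Helper3.M12

open MulAction Subgroup Cfsg Cfsg.Agent.Lib.Helper28 Cfsg.Agent.Lib.Helper3.M24T
  Cfsg.Agent.Lib.Helper3.Dod Cfsg.Agent.Lib.Helper3.Perm
open scoped Pointwise

/-- the dodecad as a set acted on by its stabiliser -/
def dodSub (d : Finset GolayPt) : SubMulAction (stabilizer M24 d) GolayPt where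
  carrier := {p | p ∈ d}
  smul_mem' := by
    intro g p hp
    have h1 : ((g : M24) : Equiv.Perm GolayPt) • d = d := g.2
    show ((g : M24) : Equiv.Perm GolayPt) p ∈ d
    have h2 : ((g : M24) : Equiv.Perm GolayPt) p ∈ ((g : M24) : Equiv.Perm GolayPt) • d :=
      (mem_smul_finset_iff _ d p).2 hp
    rwa [h1] at h2

theorem card_dodSub {d : Finset GolayPt} (hd : d ∈ dodecads) : Nat.card (dodSub d) = 12 := by
  have : Nat.card (dodSub d) = Nat.card {p // p ∈ d} := rfl
  rw [this, Nat.card_eq_fintype_card, Fintype.card_coe]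
  exact hd.2

theorem card_stab {d : Finset GolayPt} (hd : d ∈ dodecads) :
    Nat.card (stabilizer M24 d) = 95040 := by
  have horb : orbit M24 d = dodecads := by
    ext e
    constructor
    · rintro ⟨g, rfl⟩
      exact smul_mem_dodecads g.2 hd
    · intro he
      obtain ⟨g, hg, h⟩ := exists_smul_eq hd he
      exact ⟨⟨g, hg⟩, h⟩
  have h1 := card_mul_index (stabilizer M24 d)
  rw [index_stabilizer, horb, ncard_dodecads, card_M24] at h1
  omega

theorem five {d : Finset GolayPt} (hd : d ∈ dodecads) :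
    IsMultiplyPretransitive (stabilizer M24 d) (dodSub d) 5 := by
  constructor
  intro x y
  obtain ⟨g, hg, hgd, hgx⟩ := exists_of_lists hd (List.ofFn fun i => (x i : GolayPt))
    (List.ofFn fun i => (y i : GolayPt)) (by simp)
    (List.nodup_ofFn.2 (Subtype.val_injective.comp x.injective))
    (fun z hz => by obtain ⟨i, rfl⟩ := (List.mem_ofFn' _ _).1 hz; exact (x i).2) (by simp)
    (List.nodup_ofFn.2 (Subtype.val_injective.comp y.injective))
    (fun z hz => by obtain ⟨i, rfl⟩ := (List.mem_ofFn' _ _).1 hz; exact (y i).2)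
  rw [List.map_ofFn, List.ofFn_inj] at hgx
  refine ⟨⟨⟨g, hg⟩, hgd⟩, ?_⟩
  apply DFunLike.ext
  intro i
  apply Subtype.ext
  exact congrFun hgx i

theorem sharp {d : Finset GolayPt} (hd : d ∈ dodecads) (x : Fin 5 ↪ dodSub d) :
    stabilizer (stabilizer M24 d) x = ⊥ := by
  rw [eq_bot_iff]
  rintro ⟨⟨g, hg⟩, hgd⟩ hgx
  rw [mem_bot]
  apply Subtype.ext
  apply Subtype.ext
  show g = 1
  apply eq_one_of_fixes hd (List.ofFn fun i => (x i : GolayPt)) (by simp)
    (List.nodup_ofFn.2 (Subtype.val_injective.comp x.injective))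
    (fun z hz => by obtain ⟨i, rfl⟩ := (List.mem_ofFn' _ _).1 hz; exact (x i).2) hg hgd
  intro z hz
  obtain ⟨i, rfl⟩ := (List.mem_ofFn' _ _).1 hz
  have := DFunLike.congr_fun (mem_stabilizer_iff.1 hgx) i
  exact congrArg Subtype.val this

theorem faithful {d : Finset GolayPt} (hd : d ∈ dodecads) :
    FaithfulSMul (stabilizer M24 d) (dodSub d) :=
  have : Finite (dodSub d) := Nat.finite_of_card_ne_zero (by rw [card_dodSub hd]; norm_num)
  Jordan.faithful_of_sharp (k := 5) (by rw [card_dodSub hd]; norm_num) (sharp hd)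

theorem finite_dodSub {d : Finset GolayPt} (hd : d ∈ dodecads) : Finite (dodSub d) :=
  Nat.finite_of_card_ne_zero (by rw [card_dodSub hd]; norm_num)

theorem m12_simple {d : Finset GolayPt} (hd : d ∈ dodecads) : IsSimpleGroup (stabilizer M24 d) := by
  have := faithful hd
  have := finite_dodSub hd
  have h5 := five hd
  exact Cfsg.Agent.S0419.simple_of_card (Ω := dodSub d) (card_dodSub hd)
    (isMultiplyPretransitive_of_le (n := 5) (by norm_num) (by rw [card_dodSub hd]; norm_num))
    (card_stab hd)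

theorem pretransitive {d : Finset GolayPt} (hd : d ∈ dodecads) :
    IsPretransitive (stabilizer M24 d) (dodSub d) := by
  have := finite_dodSub hd
  exact Jordan.pretransitive_of_multiply (k := 4) (five hd) (by rw [card_dodSub hd]; norm_num)

/-- the stabiliser of a dodecad and a point, in two guises -/
noncomputable def equivStab (d : Finset GolayPt) (p : GolayPt) (hp : p ∈ d) :
    stabilizer (stabilizer M24 d) (⟨p, hp⟩ : dodSub d) ≃*
      ↥(stabilizer M24 d ⊓ stabilizer M24 p) := by
  have e1 : stabilizer (stabilizer M24 d) (⟨p, hp⟩ : dodSub d) =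
      (stabilizer M24 d ⊓ stabilizer M24 p).subgroupOf (stabilizer M24 d) := by
    ext g
    simp only [mem_stabilizer_iff, mem_subgroupOf, mem_inf]
    constructor
    · intro h
      exact ⟨g.2, congrArg Subtype.val h⟩
    · intro h
      exact Subtype.ext h.2
  exact (MulEquiv.subgroupCongr e1).trans (subgroupOfEquivOfLe inf_le_left)

theorem card_m11' {d : Finset GolayPt} (hd : d ∈ dodecads) (p : GolayPt) (hp : p ∈ d) :
    Nat.card (stabilizer (stabilizer M24 d) (⟨p, hp⟩ : dodSub d)) = 7920 := by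
  have := pretransitive hd
  have h := card_stabilizer_mul (G := stabilizer M24 d) (⟨p, hp⟩ : dodSub d)
  rw [card_dodSub hd, card_stab hd] at h
  omega

theorem card_m11 {d : Finset GolayPt} (hd : d ∈ dodecads) (p : GolayPt) (hp : p ∈ d) :
    Nat.card ↥(stabilizer M24 d ⊓ stabilizer M24 p) = 7920 := by
  rw [← Nat.card_congr (equivStab d p hp).toEquiv, card_m11' hd p hp]

theorem m11_simple' {d : Finset GolayPt} (hd : d ∈ dodecads) (p : GolayPt) (hp : p ∈ d) :
    IsSimpleGroup (stabilizer (stabilizer M24 d) (⟨p, hp⟩ : dodSub d)) := by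
  have := faithful hd
  have := finite_dodSub hd
  have := pretransitive hd
  have h5 := five hd
  have := faithfulSMul_ofStabilizer (G := stabilizer M24 d) (⟨p, hp⟩ : dodSub d)
  have hc : Nat.card (SubMulAction.ofStabilizer (stabilizer M24 d) (⟨p, hp⟩ : dodSub d)) = 11 := by
    rw [SubMulAction.nat_card_ofStabilizer_eq, card_dodSub hd]
  have h4 : IsMultiplyPretransitive (stabilizer (stabilizer M24 d) (⟨p, hp⟩ : dodSub d))
      (SubMulAction.ofStabilizer (stabilizer M24 d) (⟨p, hp⟩ : dodSub d)) 4 :=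
    SubMulAction.ofStabilizer.isMultiplyPretransitive.1 h5
  exact Cfsg.Agent.S0418.simple_of_card
    (Ω := SubMulAction.ofStabilizer (stabilizer M24 d) (⟨p, hp⟩ : dodSub d)) hc
    (isMultiplyPretransitive_of_le (n := 4) (by norm_num) (by rw [hc]; norm_num))
    (card_m11' hd p hp)

theorem m11_simple {d : Finset GolayPt} (hd : d ∈ dodecads) (p : GolayPt) (hp : p ∈ d) :
    IsSimpleGroup ↥(stabilizer M24 d ⊓ stabilizer M24 p) := by
  exact (equivStab d p hp).isSimpleGroup_congr.1 (m11_simple' hd p hp)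

end Cfsg.Agent.Lib.Helper3.M12
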