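import Mathlib
import Cfsg.Agent.Lib.Helper3.AutM12b
import Cfsg.Agent.Lib.Helper3.AutM22
import Cfsg.Agent.Lib.Helper3.OrbitTool2
import Cfsg.Agent.Lib.Helper3.DodPair
import Cfsg.Agent.Lib.Helper3.M12

/-!
# Automorphisms of `M12`
-/

set_option autoImplicit false

namespace Cfsg.Agent.Lib.Helper3.AutM12

open MulAction Subgroup Cfsg Cfsg.Agent.Lib.Helper28 Cfsg.Agent.Lib.Helper3.M24T
open Cfsg.Agent.Lib.Helper3.AutP Cfsg.Agent.Lib.Helper3.AutFix Cfsg.Agent.Lib.Helper3.AutP2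
open Cfsg.Agent.Lib.Helper3.AutNorm Cfsg.Agent.Lib.Helper3.Orb Cfsg.Agent.Lib.Helper3.Dod
open scoped Pointwise

theorem exists_lists_le {d : Finset GolayPt} (hd : d ∈ dodecads) (xs ys : List GolayPt)
    (hlen : xs.length = ys.length) (h5 : xs.length ≤ 5) (hx2 : xs.Nodup) (hx3 : ∀ x ∈ xs, x ∈ d)
    (hy2 : ys.Nodup) (hy3 : ∀ x ∈ ys, x ∈ d) : ∃ g ∈ M24, g • d = d ∧ xs.map g = ys := by
  have hc : d.card = 12 := hd.2
  obtain ⟨xs', a1, a2, a3⟩ := extend_list (by omega) xs hx2 hx3 h5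
  obtain ⟨ys', b1, b2, b3⟩ := extend_list (by omega) ys hy2 hy3 (hlen ▸ h5)
  obtain ⟨g, hg, hgd, hgx⟩ := exists_of_lists hd _ _ a1 a2 a3 b1 b2 b3
  rw [List.map_append] at hgx
  exact ⟨g, hg, hgd, (List.append_inj hgx (by simp [hlen])).1⟩

theorem trans_in {d : Finset GolayPt} (hd : d ∈ dodecads) {x y : GolayPt} (hx : x ∈ d) (hy : y ∈ d) :
    ∃ g ∈ M24, g • d = d ∧ g x = y := by
  obtain ⟨g, hg, hgd, h⟩ := exists_lists_le hd [x] [y] rfl (by simp) (by simp) (by simpa using hx)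
    (by simp) (by simpa using hy)
  exact ⟨g, hg, hgd, by simpa using h⟩

/-- the stabiliser of a point of the dodecad is transitive outside -/
theorem cross {d : Finset GolayPt} (hd : d ∈ dodecads) {x y y' : GolayPt} (hx : x ∈ d) (hy : y ∉ d)
    (hy' : y' ∉ d) : ∃ g ∈ M24, g • d = d ∧ g x = x ∧ g y = y' := by
  have hc : d.card = 12 := hd.2
  obtain ⟨ys, h1, h2, h3⟩ := extend_list (d := d) (by omega) [x] (by simp) (by simpa using hx) (by simp)
  rcases ys with _ | ⟨a, _ | ⟨b, ys⟩⟩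
  · simp at h1
  · simp at h1
  simp only [List.cons_append, List.nil_append, List.nodup_cons, List.mem_cons, not_or] at h2
  obtain ⟨g, hg, hgd, hgf, hgx⟩ := M11C.exists_fix3 hd
    ⟨![x, a, b], by
      intro i j hij
      have e1 := h2.1.1
      have e2 := h2.1.2.1
      have e3 := h2.2.1.1
      fin_cases i <;> fin_cases j <;> simp_all⟩
    (by
      intro i
      fin_cases i
      · exact hx
      · exact h3 a (by simp)
      · exact h3 b (by simp)) hy hy'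
  exact ⟨g, hg, hgd, hgf 0, hgx⟩

theorem exists_move_in {d : Finset GolayPt} (hd : d ∈ dodecads) {x y : GolayPt} (hx : x ∈ d)
    (hxy : x ≠ y) : ∃ g ∈ M24, g • d = d ∧ g x = x ∧ g y ≠ y := by
  have hc : d.card = 12 := hd.2
  by_cases hy : y ∈ d
  · obtain ⟨z, hz, hz2⟩ := Finset.exists_mem_notMem_of_card_lt_card (s := {x, y}) (t := d) (by
      have := Finset.card_le_two (a := x) (b := y)
      omega)
    rw [Finset.mem_insert, Finset.mem_singleton] at hz2
    push Not at hz2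
    obtain ⟨g, hg, hgd, h⟩ := exists_lists_le hd [x, y] [x, z] rfl (by simp) (by simpa using hxy)
      (by simp [hx, hy]) (by simpa using (Ne.symm hz2.1)) (by simp [hx, hz])
    simp only [List.map_cons, List.map_nil, List.cons.injEq, and_true] at h
    exact ⟨g, hg, hgd, h.1, by rw [h.2]; exact hz2.2⟩
  · obtain ⟨z, hz, hz2⟩ := Finset.exists_mem_notMem_of_card_lt_card (s := {y}) (t := dᶜ) (by
      rw [Finset.card_compl, card_pts, hc, Finset.card_singleton]; norm_num)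
    rw [Finset.mem_singleton] at hz2
    rw [Finset.mem_compl] at hz
    obtain ⟨g, hg, hgd, h1, h2⟩ := cross hd hx hy hz
    exact ⟨g, hg, hgd, h1, by rw [h2]; exact hz2⟩

theorem exists_move12 {d : Finset GolayPt} (hd : d ∈ dodecads) {x y : GolayPt}
    (hxy : x ≠ y) : ∃ g ∈ M24, g • d = d ∧ g x = x ∧ g y ≠ y := by
  by_cases hx : x ∈ d
  · exact exists_move_in hd hx hxy
  · obtain ⟨g, hg, hgd, h⟩ := exists_move_in (M11C.compl_mem_dodecads hd) (Finset.mem_compl.2 hx) hxy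
    exact ⟨g, hg, (M11C.smul_compl_eq_iff g d).1 hgd, h⟩

theorem orbit_eq {d : Finset GolayPt} (hd : d ∈ dodecads) (G : Subgroup (Equiv.Perm GolayPt))
    (hG : ∀ g, g ∈ G ↔ g ∈ M24 ∧ g • d = d) {x : GolayPt} (hx : x ∈ d) : orbit G x = ↑d := by
  ext y
  constructor
  · rintro ⟨g, rfl⟩
    exact ((M11C.smul_eq_iff _ d).1 ((hG g).1 g.2).2 x).2 hx
  · intro hy
    obtain ⟨g, hg, hgd, h⟩ := trans_in hd hx hy
    exact ⟨⟨g, (hG g).2 ⟨hg, hgd⟩⟩, h⟩

theorem index_stab12 {d : Finset GolayPt} (hd : d ∈ dodecads) (G : Subgroup (Equiv.Perm GolayPt))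
    (hG : ∀ g, g ∈ G ↔ g ∈ M24 ∧ g • d = d) (x : GolayPt) : (stabilizer G x).index = 12 := by
  rw [index_stabilizer]
  by_cases hx : x ∈ d
  · rw [orbit_eq hd G hG hx, Set.ncard_coe_finset, hd.2]
  · rw [orbit_eq (M11C.compl_mem_dodecads hd) G (fun g => by rw [hG, M11C.smul_compl_eq_iff])
      (Finset.mem_compl.2 hx), Set.ncard_coe_finset, (M11C.compl_mem_dodecads hd).2]

theorem card_G {d : Finset GolayPt} (hd : d ∈ dodecads) (G : Subgroup (Equiv.Perm GolayPt))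
    (hG : ∀ g, g ∈ G ↔ g ∈ M24 ∧ g • d = d) : Nat.card G = 95040 := by
  rw [← Cfsg.Agent.Lib.Helper3.M12.card_stab hd]
  apply Nat.card_congr
  exact
    { toFun := fun g => ⟨⟨g.1, ((hG _).1 g.2).1⟩, ((hG _).1 g.2).2⟩
      invFun := fun g => ⟨g.1.1, (hG _).2 ⟨g.1.2, g.2⟩⟩
      left_inv := fun _ => rfl
      right_inv := fun _ => rfl }

/-- automorphisms of the stabiliser of a dodecad are induced by permutations of the 24 points -/
theorem exists_perm12 {d : Finset GolayPt} (hd : d ∈ dodecads) (G : Subgroup (Equiv.Perm GolayPt))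
    (hG : ∀ g, g ∈ G ↔ g ∈ M24 ∧ g • d = d) (α : MulAut G) :
    ∃ π : Equiv.Perm GolayPt,
      ∀ g : G, ((α g : G) : Equiv.Perm GolayPt) = π * (g : Equiv.Perm GolayPt) * π⁻¹ := by
  obtain ⟨π, _, h⟩ := exists_perm_of_aut G ∅ 12 (by simp) (by
    intro H hH
    have hcard : Nat.card (H.map G.subtype) = Nat.card H :=
      Subgroup.card_map_of_injective G.subtype_injective
    have e1 := H.card_mul_index
    rw [hH, card_G hd G hG] at e1
    obtain ⟨x, hfix⟩ := fixes_point_12 hd (H.map G.subtype) (by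
      rintro _ ⟨g, _, rfl⟩
      exact ((hG _).1 g.2).1) (by
      rintro _ ⟨g, _, rfl⟩
      exact ((hG _).1 g.2).2) (by rw [hcard]; omega)
    refine ⟨x, by simp, ?_⟩
    have hle : H ≤ stabilizer G x := by
      intro g hg
      exact hfix g ⟨g, hg, rfl⟩
    apply Subgroup.eq_of_le_of_card_ge hle
    have e2 := (stabilizer G x).card_mul_index
    rw [index_stab12 hd G hG x, card_G hd G hG] at e2
    omega) (fun x _ => index_stab12 hd G hG x) (by
    intro x _ y _ hxy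
    by_contra hne
    obtain ⟨g, hg, hgd, h1, h2⟩ := exists_move12 hd hne
    have h3 : (⟨g, (hG g).2 ⟨hg, hgd⟩⟩ : G) ∈ stabilizer G x := h1
    rw [hxy] at h3
    exact h2 h3) α
  exact ⟨π, h⟩

/-- general spanning criterion for membership in `M24` -/
theorem mem_M24_of_good' {π : Equiv.Perm GolayPt} (L : List ℕ) (sl : List (List ℕ))
    (h1 : ∀ l ∈ sl, ∀ m ∈ l, m ∈ L) (h2 : B12 = sl.map fun l => l.foldl (· ^^^ ·) 0)
    (h : ∀ m ∈ L, Good π m) : π ∈ M24 := by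
  rw [mem_M24_iff]
  simp only [mapsCode, List.all_eq_true]
  intro b hb
  have hb' := hb
  rw [h2, List.mem_map] at hb'
  obtain ⟨l, hl, rfl⟩ := hb'
  have := good_foldl l (fun m hm => h m (h1 l hl m hm)) 0 (good_zero π)
  unfold Good at this
  rwa [mk_smul, mk_un (B12_lt _ hb)] at this

/-- twelve involutions of `M12` whose fixed octads span the code -/
def TT : List (List ℕ) :=
  [[0, 4, 3, 2, 1, 5, 18, 7, 8, 16, 10, 11, 12, 13, 22, 23, 9, 20, 6, 21, 17, 19, 14, 15],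
   [0, 1, 3, 2, 12, 5, 6, 7, 18, 9, 10, 22, 4, 16, 14, 21, 13, 23, 8, 20, 19, 15, 11, 17],
   [4, 1, 2, 12, 0, 23, 6, 7, 8, 16, 10, 11, 3, 18, 20, 15, 9, 21, 13, 22, 14, 17, 19, 5],
   [2, 12, 0, 3, 4, 5, 6, 7, 18, 16, 10, 23, 1, 13, 21, 15, 9, 19, 8, 17, 22, 14, 20, 11],
   [18, 13, 3, 2, 4, 5, 6, 7, 8, 12, 22, 11, 9, 1, 14, 17, 16, 15, 0, 23, 21, 20, 10, 19],
   [0, 13, 8, 3, 4, 5, 18, 7, 2, 9, 20, 11, 16, 1, 15, 14, 12, 17, 6, 22, 10, 23, 19, 21],
   [16, 8, 3, 2, 4, 5, 12, 22, 1, 9, 10, 11, 6, 13, 14, 19, 0, 21, 18, 15, 23, 17, 7, 20],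
   [18, 4, 2, 8, 1, 5, 6, 7, 3, 9, 21, 11, 16, 13, 23, 20, 12, 22, 0, 19, 15, 10, 17, 14],
   [3, 12, 2, 0, 4, 5, 18, 7, 8, 9, 10, 17, 1, 16, 19, 22, 13, 11, 6, 14, 20, 23, 15, 21],
   [16, 4, 13, 3, 1, 5, 6, 19, 8, 9, 10, 11, 18, 2, 17, 20, 0, 14, 12, 7, 15, 21, 23, 22],
   [1, 0, 3, 2, 4, 14, 6, 7, 16, 9, 10, 11, 12, 18, 5, 19, 8, 23, 13, 15, 21, 20, 22, 17],
   [0, 8, 2, 13, 4, 5, 6, 15, 1, 16, 10, 11, 18, 3, 20, 7, 9, 19, 12, 17, 14, 22, 21, 23]]

def selT : List (List ℕ) :=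
  [[18147, 36294, 42232, 84464, 133817, 290352, 4202192, 8391797],
   [36294, 84464, 535268, 4202192],
   [18147, 36294, 290352, 1050548, 4202192, 8391797],
   [18147, 36294, 42232, 133817, 290352, 535268, 2101096, 4202192],
   [15777, 18147, 36294, 42232, 84464, 133817, 535268, 1050548, 8391797],
   [133817, 290352, 1050548, 2101096, 8391797],
   [15777, 42232, 290352, 535268, 2101096, 4202192, 8391797],
   [15777, 42232, 133817, 290352, 535268, 1050548],
   [42232, 84464, 290352, 535268, 1050548, 2101096],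
   [15777, 84464, 133817, 535268, 1050548, 2101096, 4202192],
   [15777, 42232, 84464, 1050548, 2101096, 8391797],
   [15777, 18147, 36294, 84464, 133817, 2101096, 4202192, 8391797]]

theorem TT_ok : ∀ t ∈ TT, inM24 t = true ∧ img t 340831 = 340831 ∧ t ≠ idT ∧ popc (fixMask t) = 8 := by
  decide +kernel

theorem selT_mem : ∀ l ∈ selT, ∀ m ∈ l, m ∈ TT.map fixMask := by decide +kernel

theorem selT_eq : B12 = selT.map fun l => l.foldl (· ^^^ ·) 0 := by decide +kernel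

theorem sq_eq : Spor.squareDodecad = un 340831 := by
  unfold Spor.squareDodecad
  rw [support₂_qrWord]; rfl

theorem sq_dod : Spor.squareDodecad ∈ dodecads := by
  rw [sq_eq, mem_dodecads_iff, mk_un (by norm_num)]
  decide +kernel

theorem mem_M12_iff (g : Equiv.Perm GolayPt) :
    g ∈ Spor.M12 ↔ g ∈ M24 ∧ g • Spor.squareDodecad = Spor.squareDodecad := Iff.rfl

/-- a permutation conjugating `M12` into `M24` lies in `M24` -/
theorem mem_M24_of_norm {π : Equiv.Perm GolayPt} (h : ∀ g ∈ Spor.M12, π * g * π⁻¹ ∈ M24) :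
    π ∈ M24 := by
  apply mem_M24_of_good' (TT.map fixMask) selT selT_mem selT_eq
  intro m hm
  obtain ⟨t, ht, rfl⟩ := List.mem_map.1 hm
  obtain ⟨h1, h2, h3, h4⟩ := TT_ok t ht
  have hmem : permOf t ∈ Spor.M12 := by
    rw [mem_M12_iff, sq_eq, permOf_smul_un (isTbl_of_inM24 h1) (by norm_num), h2]
    exact ⟨permOf_mem_M24 h1, rfl⟩
  have hfix : fixSet (permOf t) = un (fixMask t) := fixSet_permOf h1
  have := smul_octad_of_conj (permOf_ne_one h1 h3) (h _ hmem) (by rw [hfix, card_un, h4])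
  rw [hfix, mem_octads_iff_isOct, isOct_iff] at this
  exact this.1

end Cfsg.Agent.Lib.Helper3.AutM12
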