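import Cfsg.Agent.Lib.Helper3.BlkM24g

set_option autoImplicit false
set_option maxRecDepth 1000000

namespace Cfsg.Agent.Lib.Helper3.BlkM24

open Cfsg Cfsg.Agent.Lib.Helper28 Cfsg.Agent.Lib.Helper3.M24T Cfsg.Agent.Lib.Helper3.M24Gen
  Cfsg.Agent.Lib.Helper3.FusGrp Cfsg.Agent.Lib.Helper3.BlkM22 Cfsg.Agent.Lib.Helper3.BlkAgree

def r10 : List ℕ := [2, 8, 16, 4, 10, 18, 15, 22, 17, 11, 3, 20, 6, 14, 21, 12, 0, 1, 19, 5, 9, 13, 23, 7]

def a10 (n : ℕ) : ℕ :=
  (Nat.add (cond (Nat.beq (Nat.land (Nat.shiftRight n 0) 31) 2) 1 0) (Nat.add (cond (Nat.beq (Nat.land (Nat.shiftRight n 5) 31) 8) 1 0) (Nat.add (cond (Nat.beq (Nat.land (Nat.shiftRight n 10) 31) 16) 1 0) (Nat.add (cond (Nat.beq (Nat.land (Nat.shiftRight n 15) 31) 4) 1 0) (Nat.add (cond (Nat.beq (Nat.land (Nat.shiftRight n 20) 31) 10) 1 0) (Nat.add (cond (Nat.beq (Nat.land (Nat.shiftRight n 25) 31) 18) 1 0) (Nat.add (cond (Nat.beq (Nat.land (Nat.shiftRight n 30) 31) 15) 1 0) (Nat.add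 (cond (Nat.beq (Nat.land (Nat.shiftRight n 35) 31) 22) 1 0) (Nat.add (cond (Nat.beq (Nat.land (Nat.shiftRight n 40) 31) 17) 1 0) (Nat.add (cond (Nat.beq (Nat.land (Nat.shiftRight n 45) 31) 11) 1 0) (Nat.add (cond (Nat.beq (Nat.land (Nat.shiftRight n 50) 31) 3) 1 0) (Nat.add (cond (Nat.beq (Nat.land (Nat.shiftRight n 55) 31) 20) 1 0) (Nat.add (cond (Nat.beq (Nat.land (Nat.shiftRight n 60) 31) 6) 1 0) (Nat.add (cond (Nat.beq (Nat.land (Nat.shiftRight n 65) 31) 14) 1 0) (Nat.add (cond (Nat.beq (Nat.land (Nat.shiftRight n 70) 31) 21) 1 0) (Nat.add (cond (Nat.beq (Nat.land (Nat.shiftRight n 75) 31) 12) 1 0) (Nat.add (cond (Nat.beq (Nat.land (Nat.shiftRight n 80) 31) 0) 1 0) (Nat.add (cond (Nat.beq (Nat.land (Nat.shiftRight n 85) 31) 1) 1 0) (Nat.add (cond (Nat.beq (Nat.land (Nat.shiftRight n 90) 31) 19) 1 0) (Nat.add (cond (Nat.beq (Nat.land (Nat.shiftRight n 95) 31) 5) 1 0) (Nat.add (cond (Nat.beq (Nat.land (Nat.shiftRight n 100) 31) 9) 1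 0) (Nat.add (cond (Nat.beq (Nat.land (Nat.shiftRight n 105) 31) 13) 1 0) (Nat.add (cond (Nat.beq (Nat.land (Nat.shiftRight n 110) 31) 23) 1 0) (Nat.add (cond (Nat.beq (Nat.land (Nat.shiftRight n 115) 31) 7) 1 0) 0))))))))))))))))))))))))

def b10 (n : ℕ) : ℕ :=
  (Nat.add (cond (Nat.beq (Nat.land (Nat.shiftRight n 0) 31) (Nat.land (Nat.shiftRight 321163304150053925625245363337314562 (Nat.mul 5 (Nat.land (Nat.shiftRight n 10) 31))) 31)) 1 0) (Nat.add (cond (Nat.beq (Nat.land (Nat.shiftRight n 5) 31) (Nat.land (Nat.shiftRight 321163304150053925625245363337314562 (Nat.mul 5 (Nat.land (Nat.shiftRight n 40) 31))) 31)) 1 0) (Nat.add (cond (Nat.beq (Nat.land (Nat.shiftRight n 10) 31) (Nat.land (Nat.shiftRight 321163304150053925625245363337314562 (Nat.mul 5 (Nat.land (Nat.shiftRight n 80) 31))) 31)) 1 0) (Nat.add (cond (Nat.beq (Nat.land (Nat.shiftRight n 15) 31) (Nat.land (Nat.shiftRight 321163304150053925625245363337314562 (Nat.mul 5 (Nat.land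 (Nat.shiftRight n 20) 31))) 31)) 1 0) (Nat.add (cond (Nat.beq (Nat.land (Nat.shiftRight n 20) 31) (Nat.land (Nat.shiftRight 321163304150053925625245363337314562 (Nat.mul 5 (Nat.land (Nat.shiftRight n 50) 31))) 31)) 1 0) (Nat.add (cond (Nat.beq (Nat.land (Nat.shiftRight n 25) 31) (Nat.land (Nat.shiftRight 321163304150053925625245363337314562 (Nat.mul 5 (Nat.land (Nat.shiftRight n 90) 31))) 31)) 1 0) (Nat.add (cond (Nat.beq (Nat.land (Nat.shiftRight n 30) 31) (Nat.land (Nat.shiftRight 321163304150053925625245363337314562 (Nat.mul 5 (Nat.land (Nat.shiftRight n 75) 31))) 31)) 1 0) (Nat.add (cond (Nat.beq (Nat.land (Nat.shiftRight n 35) 31) (Nat.land (Nat.shiftRight 321163304150053925625245363337314562 (Nat.mul 5 (Nat.land (Nat.shiftRight n 110) 31))) 31)) 1 0) (Nat.add (cond (Nat.beq (Nat.land (Nat.shiftRight n 40) 31) (Nat.land (Nat.shiftRight 321163304150053925625245363337314562 (Nat.mul 5 (Nat.land (Nat.shiftRight n 85) 31))) 31)) 1 0)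 (Nat.add (cond (Nat.beq (Nat.land (Nat.shiftRight n 45) 31) (Nat.land (Nat.shiftRight 321163304150053925625245363337314562 (Nat.mul 5 (Nat.land (Nat.shiftRight n 55) 31))) 31)) 1 0) (Nat.add (cond (Nat.beq (Nat.land (Nat.shiftRight n 50) 31) (Nat.land (Nat.shiftRight 321163304150053925625245363337314562 (Nat.mul 5 (Nat.land (Nat.shiftRight n 15) 31))) 31)) 1 0) (Nat.add (cond (Nat.beq (Nat.land (Nat.shiftRight n 55) 31) (Nat.land (Nat.shiftRight 321163304150053925625245363337314562 (Nat.mul 5 (Nat.land (Nat.shiftRight n 100) 31))) 31)) 1 0) (Nat.add (cond (Nat.beq (Nat.land (Nat.shiftRight n 60) 31) (Nat.land (Nat.shiftRight 321163304150053925625245363337314562 (Nat.mul 5 (Nat.land (Nat.shiftRight n 30) 31))) 31)) 1 0) (Nat.add (cond (Nat.beq (Nat.land (Nat.shiftRight n 65) 31) (Nat.land (Nat.shiftRight 321163304150053925625245363337314562 (Nat.mul 5 (Nat.land (Nat.shiftRight n 70) 31))) 31)) 1 0) (Nat.add (cond (Nat.beq (Nat.land (Nat.shiftRight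 n 70) 31) (Nat.land (Nat.shiftRight 321163304150053925625245363337314562 (Nat.mul 5 (Nat.land (Nat.shiftRight n 105) 31))) 31)) 1 0) (Nat.add (cond (Nat.beq (Nat.land (Nat.shiftRight n 75) 31) (Nat.land (Nat.shiftRight 321163304150053925625245363337314562 (Nat.mul 5 (Nat.land (Nat.shiftRight n 60) 31))) 31)) 1 0) (Nat.add (cond (Nat.beq (Nat.land (Nat.shiftRight n 80) 31) (Nat.land (Nat.shiftRight 321163304150053925625245363337314562 (Nat.mul 5 (Nat.land (Nat.shiftRight n 0) 31))) 31)) 1 0) (Nat.add (cond (Nat.beq (Nat.land (Nat.shiftRight n 85) 31) (Nat.land (Nat.shiftRight 321163304150053925625245363337314562 (Nat.mul 5 (Nat.land (Nat.shiftRight n 5) 31))) 31)) 1 0) (Nat.add (cond (Nat.beq (Nat.land (Nat.shiftRight n 90) 31) (Nat.land (Nat.shiftRight 321163304150053925625245363337314562 (Nat.mul 5 (Nat.land (Nat.shiftRight n 95) 31))) 31)) 1 0) (Nat.add (cond (Nat.beq (Nat.land (Nat.shiftRight n 95) 31) (Nat.land (Nat.shiftRight 321163304150053925625245363337314562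 (Nat.mul 5 (Nat.land (Nat.shiftRight n 25) 31))) 31)) 1 0) (Nat.add (cond (Nat.beq (Nat.land (Nat.shiftRight n 100) 31) (Nat.land (Nat.shiftRight 321163304150053925625245363337314562 (Nat.mul 5 (Nat.land (Nat.shiftRight n 45) 31))) 31)) 1 0) (Nat.add (cond (Nat.beq (Nat.land (Nat.shiftRight n 105) 31) (Nat.land (Nat.shiftRight 321163304150053925625245363337314562 (Nat.mul 5 (Nat.land (Nat.shiftRight n 65) 31))) 31)) 1 0) (Nat.add (cond (Nat.beq (Nat.land (Nat.shiftRight n 110) 31) (Nat.land (Nat.shiftRight 321163304150053925625245363337314562 (Nat.mul 5 (Nat.land (Nat.shiftRight n 115) 31))) 31)) 1 0) (Nat.add (cond (Nat.beq (Nat.land (Nat.shiftRight n 115) 31) (Nat.land (Nat.shiftRight 321163304150053925625245363337314562 (Nat.mul 5 (Nat.land (Nat.shiftRight n 35) 31))) 31)) 1 0) 0))))))))))))))))))))))))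

def F10 (n : ℕ) : ℤ := gam2 (a10 n) (b10 n)

theorem F10_eq (n : ℕ) : F r10 321163304150053925625245363337314562 n = F10 n := by
  unfold F F10
  rw [agree_eq_agB, agree_eq_agB]
  rfl

theorem ev10_0 : sumOver PC0 F10 = 57992838988391 := by decide +kernel

theorem ev10_1 : sumOver PC1 F10 = 64149061260649 := by decide +kernel

theorem ev10_2 : sumOver PC2 F10 = -195265042832084 := by decide +kernel

theorem ev10_3 : sumOver PC3 F10 = 73123142583044 := by decide +kernel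

theorem lk10 : ∀ k < 32, r10.getD k 0 = look 321163304150053925625245363337314562 k := by decide +kernel

end Cfsg.Agent.Lib.Helper3.BlkM24
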