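import Cfsg.Agent.Lib.Helper3.BlkM24g

set_option autoImplicit false
set_option maxRecDepth 1000000

namespace Cfsg.Agent.Lib.Helper3.BlkM24

open Cfsg Cfsg.Agent.Lib.Helper28 Cfsg.Agent.Lib.Helper3.M24T Cfsg.Agent.Lib.Helper3.M24Gen
  Cfsg.Agent.Lib.Helper3.FusGrp Cfsg.Agent.Lib.Helper3.BlkM22 Cfsg.Agent.Lib.Helper3.BlkAgree

def r12 : List ℕ := [8, 16, 13, 4, 2, 20, 23, 9, 18, 10, 19, 5, 14, 6, 3, 22, 11, 7, 1, 12, 17, 15, 21, 0]

def a12 (n : ℕ) : ℕ :=
  (Nat.add (cond (Nat.beq (Nat.land (Nat.shiftRight n 0) 31) 8) 1 0) (Nat.add (cond (Nat.beq (Nat.land (Nat.shiftRight n 5) 31) 16) 1 0) (Nat.add (cond (Nat.beq (Nat.land (Nat.shiftRight n 10) 31) 13) 1 0) (Nat.add (cond (Nat.beq (Nat.land (Nat.shiftRight n 15) 31) 4) 1 0) (Nat.add (cond (Nat.beq (Nat.land (Nat.shiftRight n 20) 31) 2) 1 0) (Nat.add (cond (Nat.beq (Nat.land (Nat.shiftRight n 25) 31) 20) 1 0) (Nat.add (cond (Nat.beq (Nat.land (Nat.shiftRight n 30) 31) 23) 1 0) (Nat.add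 (cond (Nat.beq (Nat.land (Nat.shiftRight n 35) 31) 9) 1 0) (Nat.add (cond (Nat.beq (Nat.land (Nat.shiftRight n 40) 31) 18) 1 0) (Nat.add (cond (Nat.beq (Nat.land (Nat.shiftRight n 45) 31) 10) 1 0) (Nat.add (cond (Nat.beq (Nat.land (Nat.shiftRight n 50) 31) 19) 1 0) (Nat.add (cond (Nat.beq (Nat.land (Nat.shiftRight n 55) 31) 5) 1 0) (Nat.add (cond (Nat.beq (Nat.land (Nat.shiftRight n 60) 31) 14) 1 0) (Nat.add (cond (Nat.beq (Nat.land (Nat.shiftRight n 65) 31) 6) 1 0) (Nat.add (cond (Nat.beq (Nat.land (Nat.shiftRight n 70) 31) 3) 1 0) (Nat.add (cond (Nat.beq (Nat.land (Nat.shiftRight n 75) 31) 22) 1 0) (Nat.add (cond (Nat.beq (Nat.land (Nat.shiftRight n 80) 31) 11) 1 0) (Nat.add (cond (Nat.beq (Nat.land (Nat.shiftRight n 85) 31) 7) 1 0) (Nat.add (cond (Nat.beq (Nat.land (Nat.shiftRight n 90) 31) 1) 1 0) (Nat.add (cond (Nat.beq (Nat.land (Nat.shiftRight n 95) 31) 12) 1 0) (Nat.add (cond (Nat.beq (Nat.land (Nat.shiftRight n 100) 31) 17)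 1 0) (Nat.add (cond (Nat.beq (Nat.land (Nat.shiftRight n 105) 31) 15) 1 0) (Nat.add (cond (Nat.beq (Nat.land (Nat.shiftRight n 110) 31) 21) 1 0) (Nat.add (cond (Nat.beq (Nat.land (Nat.shiftRight n 115) 31) 0) 1 0) 0))))))))))))))))))))))))

def b12 (n : ℕ) : ℕ :=
  (Nat.add (cond (Nat.beq (Nat.land (Nat.shiftRight n 0) 31) (Nat.land (Nat.shiftRight 27890057747468883522757871104308744 (Nat.mul 5 (Nat.land (Nat.shiftRight n 40) 31))) 31)) 1 0) (Nat.add (cond (Nat.beq (Nat.land (Nat.shiftRight n 5) 31) (Nat.land (Nat.shiftRight 27890057747468883522757871104308744 (Nat.mul 5 (Nat.land (Nat.shiftRight n 80) 31))) 31)) 1 0) (Nat.add (cond (Nat.beq (Nat.land (Nat.shiftRight n 10) 31) (Nat.land (Nat.shiftRight 27890057747468883522757871104308744 (Nat.mul 5 (Nat.land (Nat.shiftRight n 65) 31))) 31)) 1 0) (Nat.add (cond (Nat.beq (Nat.land (Nat.shiftRight n 15) 31) (Nat.land (Nat.shiftRight 27890057747468883522757871104308744 (Nat.mul 5 (Nat.land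 (Nat.shiftRight n 20) 31))) 31)) 1 0) (Nat.add (cond (Nat.beq (Nat.land (Nat.shiftRight n 20) 31) (Nat.land (Nat.shiftRight 27890057747468883522757871104308744 (Nat.mul 5 (Nat.land (Nat.shiftRight n 10) 31))) 31)) 1 0) (Nat.add (cond (Nat.beq (Nat.land (Nat.shiftRight n 25) 31) (Nat.land (Nat.shiftRight 27890057747468883522757871104308744 (Nat.mul 5 (Nat.land (Nat.shiftRight n 100) 31))) 31)) 1 0) (Nat.add (cond (Nat.beq (Nat.land (Nat.shiftRight n 30) 31) (Nat.land (Nat.shiftRight 27890057747468883522757871104308744 (Nat.mul 5 (Nat.land (Nat.shiftRight n 115) 31))) 31)) 1 0) (Nat.add (cond (Nat.beq (Nat.land (Nat.shiftRight n 35) 31) (Nat.land (Nat.shiftRight 27890057747468883522757871104308744 (Nat.mul 5 (Nat.land (Nat.shiftRight n 45) 31))) 31)) 1 0) (Nat.add (cond (Nat.beq (Nat.land (Nat.shiftRight n 40) 31) (Nat.land (Nat.shiftRight 27890057747468883522757871104308744 (Nat.mul 5 (Nat.land (Nat.shiftRight n 90) 31))) 31)) 1 0)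 (Nat.add (cond (Nat.beq (Nat.land (Nat.shiftRight n 45) 31) (Nat.land (Nat.shiftRight 27890057747468883522757871104308744 (Nat.mul 5 (Nat.land (Nat.shiftRight n 50) 31))) 31)) 1 0) (Nat.add (cond (Nat.beq (Nat.land (Nat.shiftRight n 50) 31) (Nat.land (Nat.shiftRight 27890057747468883522757871104308744 (Nat.mul 5 (Nat.land (Nat.shiftRight n 95) 31))) 31)) 1 0) (Nat.add (cond (Nat.beq (Nat.land (Nat.shiftRight n 55) 31) (Nat.land (Nat.shiftRight 27890057747468883522757871104308744 (Nat.mul 5 (Nat.land (Nat.shiftRight n 25) 31))) 31)) 1 0) (Nat.add (cond (Nat.beq (Nat.land (Nat.shiftRight n 60) 31) (Nat.land (Nat.shiftRight 27890057747468883522757871104308744 (Nat.mul 5 (Nat.land (Nat.shiftRight n 70) 31))) 31)) 1 0) (Nat.add (cond (Nat.beq (Nat.land (Nat.shiftRight n 65) 31) (Nat.land (Nat.shiftRight 27890057747468883522757871104308744 (Nat.mul 5 (Nat.land (Nat.shiftRight n 30) 31))) 31)) 1 0) (Nat.add (cond (Nat.beq (Nat.land (Nat.shiftRight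 n 70) 31) (Nat.land (Nat.shiftRight 27890057747468883522757871104308744 (Nat.mul 5 (Nat.land (Nat.shiftRight n 15) 31))) 31)) 1 0) (Nat.add (cond (Nat.beq (Nat.land (Nat.shiftRight n 75) 31) (Nat.land (Nat.shiftRight 27890057747468883522757871104308744 (Nat.mul 5 (Nat.land (Nat.shiftRight n 110) 31))) 31)) 1 0) (Nat.add (cond (Nat.beq (Nat.land (Nat.shiftRight n 80) 31) (Nat.land (Nat.shiftRight 27890057747468883522757871104308744 (Nat.mul 5 (Nat.land (Nat.shiftRight n 55) 31))) 31)) 1 0) (Nat.add (cond (Nat.beq (Nat.land (Nat.shiftRight n 85) 31) (Nat.land (Nat.shiftRight 27890057747468883522757871104308744 (Nat.mul 5 (Nat.land (Nat.shiftRight n 35) 31))) 31)) 1 0) (Nat.add (cond (Nat.beq (Nat.land (Nat.shiftRight n 90) 31) (Nat.land (Nat.shiftRight 27890057747468883522757871104308744 (Nat.mul 5 (Nat.land (Nat.shiftRight n 5) 31))) 31)) 1 0) (Nat.add (cond (Nat.beq (Nat.land (Nat.shiftRight n 95) 31) (Nat.land (Nat.shiftRight 27890057747468883522757871104308744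 (Nat.mul 5 (Nat.land (Nat.shiftRight n 60) 31))) 31)) 1 0) (Nat.add (cond (Nat.beq (Nat.land (Nat.shiftRight n 100) 31) (Nat.land (Nat.shiftRight 27890057747468883522757871104308744 (Nat.mul 5 (Nat.land (Nat.shiftRight n 85) 31))) 31)) 1 0) (Nat.add (cond (Nat.beq (Nat.land (Nat.shiftRight n 105) 31) (Nat.land (Nat.shiftRight 27890057747468883522757871104308744 (Nat.mul 5 (Nat.land (Nat.shiftRight n 75) 31))) 31)) 1 0) (Nat.add (cond (Nat.beq (Nat.land (Nat.shiftRight n 110) 31) (Nat.land (Nat.shiftRight 27890057747468883522757871104308744 (Nat.mul 5 (Nat.land (Nat.shiftRight n 105) 31))) 31)) 1 0) (Nat.add (cond (Nat.beq (Nat.land (Nat.shiftRight n 115) 31) (Nat.land (Nat.shiftRight 27890057747468883522757871104308744 (Nat.mul 5 (Nat.land (Nat.shiftRight n 0) 31))) 31)) 1 0) 0))))))))))))))))))))))))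

def F12 (n : ℕ) : ℤ := gam2 (a12 n) (b12 n)

theorem F12_eq (n : ℕ) : F r12 27890057747468883522757871104308744 n = F12 n := by
  unfold F F12
  rw [agree_eq_agB, agree_eq_agB]
  rfl

theorem ev12_0 : sumOver PC0 F12 = -29148799165413 := by decide +kernel

theorem ev12_1 : sumOver PC1 F12 = -27335476319089 := by decide +kernel

theorem ev12_2 : sumOver PC2 F12 = 44778778081219 := by decide +kernel

theorem ev12_3 : sumOver PC3 F12 = 11705497403283 := by decide +kernel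

theorem lk12 : ∀ k < 32, r12.getD k 0 = look 27890057747468883522757871104308744 k := by decide +kernel

end Cfsg.Agent.Lib.Helper3.BlkM24
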