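import Cfsg.Agent.Lib.Helper3.FusEnum

/-!
# Sylow 2-subgroups of subgroups of `M24` by tables: a faster certificate

Same as `FusEnum`, with the list of all the elements given as a literal, and less computation.
-/

set_option autoImplicit false

namespace Cfsg.Agent.Lib.Helper3.FusEnum2

open Cfsg Cfsg.Agent.Lib.Helper28 Cfsg.Agent.Lib.Helper3.M24T Cfsg.Agent.Lib.Helper3.M24Gen
  Cfsg.Agent.Lib.Helper3.FusEnum

/-- a nontrivial subgroup of a finite 2-group normalised by it contains a nontrivial central element. -/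
theorem exists_central {Ω : Type*} [Group Ω] (S T : Subgroup Ω) [Finite S] (hp : IsPGroup 2 S)
    (hT : T ≤ S) (hTne : T ≠ ⊥) (hn : ∀ t ∈ T, ∀ s ∈ S, s * t * s⁻¹ ∈ T) :
    ∃ t ∈ T, t ≠ 1 ∧ ∀ s ∈ S, s * t = t * s := by
  let _ : MulAction S T :=
    { smul := fun s t => ⟨s * t * s⁻¹, hn t t.2 s s.2⟩
      one_smul := fun t => Subtype.ext (by
        change ((1 : S) : Ω) * t * ((1 : S) : Ω)⁻¹ = t
        simp)
      mul_smul := fun a b t => Subtype.ext (by
        change ((a * b : S) : Ω) * t * ((a * b : S) : Ω)⁻¹ = a * (b * t * (b : Ω)⁻¹) * (a : Ω)⁻¹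
        simp [mul_assoc]) }
  have hfin : Finite T := Finite.of_injective (Subgroup.inclusion hT) (Subgroup.inclusion_injective hT)
  have hTp : IsPGroup 2 T := hp.to_le hT
  obtain ⟨n, hn'⟩ := hTp.exists_card_eq
  have hn0 : n ≠ 0 := by
    rintro rfl
    apply hTne
    rw [pow_zero] at hn'
    exact Subgroup.card_eq_one.mp hn'
  have h2 : 2 ∣ Nat.card T := by rw [hn']; exact dvd_pow_self 2 hn0
  have h1 : (1 : T) ∈ MulAction.fixedPoints S T := fun s => Subtype.ext (by
    change (s : Ω) * ((1 : T) : Ω) * (s : Ω)⁻¹ = ((1 : T) : Ω)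
    simp)
  obtain ⟨b, hb, hb1⟩ := hp.exists_fixed_point_of_prime_dvd_card_of_fixed_point T h2 h1
  refine ⟨b, b.2, fun h => hb1 (Subtype.ext h.symm), fun s hs => ?_⟩
  have h3 : s * (b : Ω) * s⁻¹ = b := congrArg Subtype.val (hb ⟨s, hs⟩)
  calc s * (b : Ω) = s * b * s⁻¹ * s := by group
    _ = b * s := by rw [h3]

theorem card_eq_length {S : Subgroup (Equiv.Perm GolayPt)} {P : List (List ℕ)}
    (ha : ∀ g ∈ S, tblOf g ∈ P) (hb : ∀ t ∈ P, Good S t) (hnd : P.Nodup) : Nat.card S = P.length := by
  rw [← List.toFinset_card_of_nodup hnd, ← Fintype.card_coe, ← Nat.card_eq_fintype_card]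
  apply Nat.card_congr
  refine Equiv.ofBijective (fun g => ⟨tblOf g.1, List.mem_toFinset.2 (ha g.1 g.2)⟩) ⟨?_, ?_⟩
  · intro a b e
    exact Subtype.ext (tblOf_injective (congrArg Subtype.val e))
  · rintro ⟨t, ht⟩
    have := hb t (List.mem_toFinset.1 ht)
    exact ⟨⟨permOf t, this.2⟩, Subtype.ext (tblOf_permOf this.1)⟩

/-- run a derivation: a step `([], nw, i, j)` appends `nw`, the product of two earlier tables, a step
`(k, nw, i, _)` appends `nw`, the conjugate of an earlier table by `k`. -/
def runE (inG inS : List ℕ → Bool) :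
    List (List ℕ × List ℕ × ℕ × ℕ) → List (List ℕ) → List (List ℕ)
  | [], acc => acc
  | (k, nw, i, j) :: r, acc =>
    if k.isEmpty then
      if comp (acc.getD i idT) (acc.getD j idT) == nw then runE inG inS r (acc ++ [nw])
      else runE inG inS r acc
    else if inG k && inS nw && comp k (acc.getD i idT) == comp nw k then runE inG inS r (acc ++ [nw])
    else runE inG inS r acc

theorem good_runE {G S T : Subgroup (Equiv.Perm GolayPt)} {inG inS : List ℕ → Bool}
    (hinG : ∀ t, inG t = true → Good G t) (hinS : ∀ t, inS t = true → Good S t)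
    (hcl : ∀ t ∈ T, ∀ g ∈ G, g * t * g⁻¹ ∈ S → g * t * g⁻¹ ∈ T)
    (steps : List (List ℕ × List ℕ × ℕ × ℕ)) :
    ∀ acc : List (List ℕ), (∀ a ∈ acc, Good T a) → ∀ a ∈ runE inG inS steps acc, Good T a := by
  induction steps with
  | nil => intro acc h; exact h
  | cons st r ih =>
    obtain ⟨k, nw, i, j⟩ := st
    intro acc h
    unfold runE
    split
    · split
      · rename_i hc
        rw [beq_iff_eq] at hc
        apply ih
        intro a ha
        rcases List.mem_append.1 ha with ha | ha
        · exact h a ha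
        · rw [List.mem_singleton.1 ha, ← hc]
          exact good_comp (good_getD h i) (good_getD h j)
      · exact ih acc h
    · split
      · rename_i hc
        simp only [Bool.and_eq_true, beq_iff_eq] at hc
        obtain ⟨⟨h1, h2⟩, h3⟩ := hc
        apply ih
        intro a ha
        rcases List.mem_append.1 ha with ha | ha
        · exact h a ha
        · rw [List.mem_singleton.1 ha]
          have hk := hinG k h1
          have hw := hinS nw h2
          have hi := good_getD h i
          have e : permOf k * permOf (acc.getD i idT) = permOf nw * permOf k := by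
            rw [← (permOf_comp hk.1 hi.1).2, ← (permOf_comp hw.1 hk.1).2, h3]
          have e2 : permOf nw = permOf k * permOf (acc.getD i idT) * (permOf k)⁻¹ := by
            rw [e]; simp
          refine ⟨hw.1, ?_⟩
          rw [e2]
          apply hcl _ hi.2 _ hk.2
          rw [← e2]; exact hw.2
      · exact ih acc h

/-- no repetition in a list of numbers, with a bit set. -/
def nodupM : List ℕ → ℕ → Bool
  | [], _ => true
  | a :: l, acc => !acc.testBit a && nodupM l (acc ||| 2 ^ a)

theorem nodup_of_nodupM : ∀ (l : List ℕ) (acc : ℕ), nodupM l acc = true →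
    l.Nodup ∧ ∀ a ∈ l, acc.testBit a = false
  | [], _, _ => ⟨List.nodup_nil, by simp⟩
  | a :: l, acc, h => by
    simp only [nodupM, Bool.and_eq_true, Bool.not_eq_true'] at h
    obtain ⟨h1, h2⟩ := nodup_of_nodupM l _ h.2
    refine ⟨List.nodup_cons.2 ⟨fun ha => ?_, h1⟩, ?_⟩
    · have := h2 a ha
      simp [Nat.testBit_two_pow_self] at this
    · intro b hb
      rcases List.mem_cons.1 hb with rfl | hb
      · exact h.1
      · have := h2 b hb
        rw [Nat.testBit_lor, Bool.or_eq_false_iff] at this
        exact this.1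

/-- the check of the table of numbers of common fixers, with the lists of the masks with a given bit. -/
def lamCheck2 (lam : List (List ℕ)) (fm : List ℕ) (fmx : List (List ℕ)) : Bool :=
  (List.range 24).all fun x => (fm.filter fun m => m.testBit x) == fmx.getD x [] &&
    (List.range 24).all fun y => lamAt lam x y == ((fmx.getD x []).filter fun m => m.testBit y).length

theorem lamCheck_of_lamCheck2 {lam : List (List ℕ)} {fm : List ℕ} {fmx : List (List ℕ)}
    (h : lamCheck2 lam fm fmx = true) : lamCheck lam fm = true := by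
  simp only [lamCheck2, List.all_eq_true, List.mem_range, Bool.and_eq_true, beq_iff_eq] at h
  simp only [lamCheck, List.all_eq_true, List.mem_range, beq_iff_eq]
  intro x hx y hy
  rw [(h x hx).2 y hy, ← (h x hx).1, List.filter_filter, cntL]
  congr 2
  funext m
  exact Bool.and_comm _ _

/-- The whole certificate. -/
structure Cert (inG : List ℕ → Bool) (col : ℕ → ℕ) where
  lam : List (List ℕ)
  lv : List (ℕ × List (List ℕ))
  PL : List (List ℕ)
  fm : List ℕ
  fmx : List (List ℕ)
  kb : List ℕ
  e : ℕ
  gs : List (List ℕ)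
  z : List ℕ
  steps : List (List ℕ × List ℕ × ℕ × ℕ)

namespace Cert

variable {inG : List ℕ → Bool} {col : ℕ → ℕ} (C : Cert inG col)

def inS (t : List ℕ) : Bool := inG t && presLam C.lam t

def chk1 : Bool := chainOK C.inS col C.lam [] C.lv
def chk2 : Bool := prods C.lv == C.PL
def chk3 : Bool := nodupM (C.PL.map (keyOf C.kb)) 0
def chk4 : Bool := C.PL.map fixMask == C.fm && lamCheck2 C.lam C.fm C.fmx
def chk5 : Bool := C.PL.length == 2 ^ C.e && C.gs.all C.inS && C.inS C.z && C.z != idT
def chk6 : Bool := C.PL.all fun t => t == idT || t == C.z || C.gs.any fun s => comp s t != comp t s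
def chk7 : Bool := C.lv.all fun a => a.2.all fun u => (runE inG C.inS C.steps [C.z]).contains u

theorem main (G : Subgroup (Equiv.Perm GolayPt)) (hinG : ∀ t, inG t = true → Good G t)
    (hcol : ∀ g ∈ G, ∀ x, col (idx (g x)) = col (idx x))
    (hbase : ∀ g ∈ G, (∀ b ∈ C.lv.map Prod.fst, g (ptOf b) = ptOf b) → g = 1)
    (h1 : C.chk1 = true) (h2 : C.chk2 = true) (h3 : C.chk3 = true) (h4 : C.chk4 = true)
    (h5 : C.chk5 = true) (h6 : C.chk6 = true) (h7 : C.chk7 = true) (S : Sylow 2 G) :
    (groupFusionSystem (S : Subgroup G)).IsSimple 2 ∧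
      Subgroup.normalizer ((S : Subgroup G) : Set G) = S := by
  have hinS : ∀ t, C.inS t = true → Good (SL G C.lam) t := by
    intro t ht
    simp only [inS, Bool.and_eq_true] at ht
    exact good_SL (hinG t ht.1) ht.2
  have hPL : prods C.lv = C.PL := by simpa [chk2] using h2
  have ha : ∀ g ∈ SL G C.lam, tblOf g ∈ C.PL := by
    intro g hg
    rw [← hPL]
    exact enum hinS (fun g hg => hcol g hg.1) (fun g hg => hg.2) C.lv [] h1
      (fun g hg h => hbase g hg.1 (by simpa using h)) g hg (by simp)
  have hW := good_of_chainOK hinS C.lv [] h1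
  have hb : ∀ t ∈ C.PL, Good (SL G C.lam) t := by
    rw [← hPL]; exact good_prods C.lv hW
  have hnd : C.PL.Nodup := List.Nodup.of_map _ (nodup_of_nodupM _ _ h3).1
  simp only [chk4, Bool.and_eq_true, beq_iff_eq] at h4
  simp only [chk5, Bool.and_eq_true, List.all_eq_true, bne_iff_ne, beq_iff_eq] at h5
  obtain ⟨⟨⟨hlen, hgs⟩, hz⟩, hz1⟩ := h5
  have hzg := hinS _ hz
  have hcard : Nat.card (SL G C.lam) = 2 ^ C.e := by rw [card_eq_length ha hb hnd, hlen]
  have hp : IsPGroup 2 (SL G C.lam) := IsPGroup.of_card hcard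
  apply FusCrit.main G (SL G C.lam) (SL_le G C.lam)
  · intro s hs
    obtain ⟨k, hk⟩ := hp ⟨s, hs⟩
    exact ⟨k, by simpa using congrArg Subtype.val hk⟩
  · intro h
    have h8 := hzg.2
    rw [h, Subgroup.mem_bot] at h8
    apply hz1
    rw [← tblOf_permOf hzg.1, h8, tblOf_one]
  · intro n hnG hn
    exact mem_of_normalizes ha hb hnd (h4.1 ▸ lamCheck_of_lamCheck2 h4.2) hnG hn
  · intro T hT hTne hcl
    have hTn : ∀ t ∈ T, ∀ s ∈ SL G C.lam, s * t * s⁻¹ ∈ T := by
      intro t ht s hs
      exact hcl t ht s hs.1 ((SL G C.lam).mul_mem ((SL G C.lam).mul_mem hs (hT ht))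
        ((SL G C.lam).inv_mem hs))
    obtain ⟨t, ht, ht1, hcen⟩ := exists_central (SL G C.lam) T hp hT hTne hTn
    simp only [chk6, List.all_eq_true, Bool.or_eq_true, beq_iff_eq, List.any_eq_true, bne_iff_ne] at h6
    have hzT : Good T C.z := by
      rcases h6 _ (ha t (hT ht)) with (h | h) | ⟨s, hs, h⟩
      · exfalso; apply ht1
        rw [← permOf_tblOf t, h, permOf_idT]
      · rw [← h]
        exact good_tblOf ht
      · exfalso; apply h
        have hsg := hinS s (hgs s hs)
        have := hcen _ hsg.2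
        rw [← tblOf_permOf hsg.1, ← tblOf_mul, ← tblOf_mul, this]
    have hD := good_runE hinG hinS hcl C.steps [C.z] (by
      intro a ha; rw [List.mem_singleton.1 ha]; exact hzT)
    simp only [chk7, List.all_eq_true, List.contains_eq_mem, decide_eq_true_eq] at h7
    have hP := good_prods (H := T) C.lv (fun a ha u hu => hD u (h7 a ha u hu))
    intro g hg
    have := (hP _ (hPL ▸ ha g hg)).2
    rwa [permOf_tblOf] at this

end Cert

end Cfsg.Agent.Lib.Helper3.FusEnum2
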