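import Mathlib
import Cfsg.Agent.Lib.Helper28.M24FixCount
import Cfsg.Agent.Lib.Helper3.FusEnum2
import Cfsg.Agent.Lib.Helper3.OctStab

/-!
# The centraliser of a fixed point free involution of `M24`: the checks
-/

set_option autoImplicit false
set_option maxRecDepth 100000

namespace Cfsg.Agent.Lib.Helper3.Cent2B

open Cfsg Cfsg.Agent.Lib.Helper28 Cfsg.Agent.Lib.Helper3.M24T Cfsg.Agent.Lib.Helper3.M24Gen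

/-- elements of the centraliser mapping the point `0` to all the points. -/
def CT : List (List ℕ) := [[0, 1, 2, 3, 4, 5, 6, 7, 8, 9, 10, 11, 12, 13, 14, 15, 16, 17, 18, 19, 20, 21, 22, 23],
  [1, 0, 23, 5, 4, 3, 6, 7, 12, 20, 15, 18, 8, 13, 17, 10, 16, 14, 11, 19, 9, 21, 22, 2],
  [2, 0, 23, 22, 11, 13, 17, 14, 19, 15, 20, 6, 21, 12, 16, 10, 18, 4, 7, 3, 9, 5, 8, 1],
  [3, 0, 23, 19, 6, 2, 4, 5, 7, 20, 15, 1, 9, 21, 22, 8, 17, 10, 16, 12, 14, 13, 11, 18],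
  [4, 0, 23, 1, 19, 14, 7, 11, 9, 15, 20, 8, 3, 22, 10, 6, 17, 18, 2, 12, 13, 16, 5, 21],
  [5, 0, 23, 2, 18, 6, 8, 16, 9, 20, 15, 13, 21, 14, 10, 12, 7, 4, 1, 22, 17, 3, 19, 11],
  [6, 0, 23, 2, 16, 14, 22, 12, 10, 15, 20, 8, 3, 7, 9, 4, 5, 18, 1, 11, 21, 19, 17, 13],
  [7, 0, 23, 6, 12, 14, 11, 10, 21, 20, 15, 8, 18, 5, 4, 19, 2, 3, 13, 1, 16, 17, 9, 22],
  [8, 0, 23, 16, 13, 2, 21, 12, 22, 20, 15, 1, 9, 4, 7, 3, 11, 10, 19, 5, 18, 6, 17, 14],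
  [9, 0, 23, 17, 21, 18, 13, 7, 11, 20, 15, 3, 14, 6, 5, 2, 16, 8, 12, 19, 1, 4, 22, 10],
  [10, 0, 23, 3, 16, 11, 7, 4, 8, 20, 15, 5, 17, 22, 14, 1, 6, 12, 18, 13, 2, 19, 21, 9],
  [11, 0, 23, 19, 1, 14, 10, 4, 22, 15, 20, 8, 3, 9, 7, 12, 13, 18, 16, 6, 17, 2, 21, 5],
  [12, 0, 23, 22, 10, 18, 1, 4, 19, 15, 20, 3, 8, 2, 16, 11, 13, 14, 7, 6, 5, 9, 21, 17],
  [13, 0, 23, 14, 12, 9, 5, 7, 3, 15, 20, 10, 1, 11, 18, 21, 19, 2, 8, 16, 4, 17, 22, 6],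
  [14, 0, 23, 16, 6, 10, 4, 11, 22, 20, 15, 9, 1, 21, 7, 18, 12, 2, 19, 17, 3, 13, 5, 8],
  [15, 1, 2, 11, 7, 3, 16, 6, 17, 9, 10, 18, 8, 19, 12, 0, 4, 14, 5, 21, 23, 22, 13, 20],
  [16, 0, 23, 21, 5, 14, 17, 2, 6, 20, 15, 8, 18, 12, 13, 22, 10, 3, 4, 9, 7, 11, 1, 19],
  [17, 0, 23, 3, 13, 19, 4, 9, 14, 15, 20, 16, 22, 21, 8, 5, 2, 7, 18, 1, 11, 6, 10, 12],
  [18, 0, 23, 19, 13, 10, 21, 17, 7, 20, 15, 9, 1, 4, 22, 14, 5, 2, 16, 11, 8, 6, 12, 3],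
  [19, 0, 23, 6, 5, 8, 17, 9, 21, 20, 15, 14, 3, 12, 4, 7, 1, 18, 13, 2, 22, 11, 10, 16],
  [20, 1, 2, 14, 21, 11, 13, 7, 18, 9, 10, 5, 17, 6, 3, 23, 16, 12, 8, 19, 0, 4, 22, 15],
  [21, 0, 23, 8, 17, 9, 11, 16, 18, 15, 20, 10, 1, 5, 3, 13, 22, 2, 14, 7, 6, 12, 19, 4],
  [22, 0, 23, 11, 14, 10, 18, 21, 12, 15, 20, 9, 2, 3, 17, 19, 6, 1, 5, 13, 16, 8, 4, 7],
  [23, 1, 2, 19, 3, 21, 8, 12, 22, 10, 9, 4, 13, 14, 7, 15, 5, 6, 16, 11, 20, 18, 17, 0]]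

/-- elements of the centraliser fixing the point `0` and mapping the point `1` to twenty points. -/
def DT : List (List ℕ) := [[0, 1, 2, 3, 4, 5, 6, 7, 8, 9, 10, 11, 12, 13, 14, 15, 16, 17, 18, 19, 20, 21, 22, 23],
  [0, 2, 1, 4, 12, 16, 5, 3, 6, 9, 10, 19, 7, 11, 13, 20, 8, 22, 21, 14, 15, 17, 18, 23],
  [0, 3, 18, 21, 22, 17, 16, 9, 13, 8, 14, 12, 5, 19, 6, 20, 2, 11, 4, 1, 15, 7, 10, 23],
  [0, 4, 21, 12, 8, 7, 18, 1, 5, 6, 13, 22, 19, 3, 11, 15, 9, 16, 17, 10, 20, 14, 2, 23],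
  [0, 5, 11, 2, 19, 6, 22, 3, 9, 17, 12, 13, 21, 7, 10, 15, 14, 4, 1, 8, 20, 16, 18, 23],
  [0, 6, 13, 1, 11, 8, 17, 7, 9, 21, 4, 14, 18, 12, 10, 20, 19, 3, 2, 16, 15, 5, 22, 23],
  [0, 7, 22, 13, 1, 8, 9, 5, 4, 16, 19, 14, 3, 10, 21, 15, 17, 18, 6, 12, 20, 2, 11, 23],
  [0, 8, 14, 17, 2, 13, 9, 19, 5, 3, 18, 6, 21, 10, 11, 20, 7, 4, 12, 22, 15, 1, 16, 23],
  [0, 9, 10, 8, 6, 5, 4, 19, 3, 1, 2, 11, 12, 21, 18, 15, 22, 17, 14, 7, 20, 13, 16, 23],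
  [0, 10, 9, 14, 6, 12, 4, 7, 18, 2, 1, 17, 5, 21, 3, 15, 16, 11, 8, 19, 20, 13, 22, 23],
  [0, 11, 5, 3, 2, 22, 9, 21, 14, 17, 12, 7, 19, 10, 8, 20, 6, 16, 18, 13, 15, 1, 4, 23],
  [0, 12, 17, 18, 10, 22, 1, 4, 8, 5, 11, 7, 19, 2, 14, 20, 13, 16, 3, 6, 15, 9, 21, 23],
  [0, 13, 6, 14, 22, 9, 16, 17, 3, 4, 21, 10, 1, 19, 18, 20, 11, 2, 8, 5, 15, 7, 12, 23],
  [0, 14, 8, 12, 2, 21, 9, 22, 11, 18, 3, 4, 13, 10, 5, 20, 16, 6, 17, 19, 15, 1, 7, 23],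
  [0, 16, 19, 4, 9, 8, 1, 12, 13, 7, 22, 14, 3, 2, 6, 15, 11, 18, 21, 5, 20, 10, 17, 23],
  [0, 17, 12, 1, 16, 4, 7, 3, 10, 5, 11, 21, 13, 22, 9, 15, 14, 6, 2, 8, 20, 19, 18, 23],
  [0, 18, 3, 12, 10, 13, 1, 16, 11, 14, 8, 6, 21, 2, 5, 20, 22, 4, 17, 7, 15, 9, 19, 23],
  [0, 19, 16, 17, 13, 2, 4, 8, 5, 7, 22, 1, 10, 21, 11, 20, 3, 9, 12, 18, 15, 6, 14, 23],
  [0, 21, 4, 12, 18, 16, 8, 2, 5, 13, 6, 19, 22, 14, 11, 15, 10, 7, 17, 9, 20, 3, 1, 23],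
  [0, 22, 7, 12, 21, 2, 6, 14, 11, 16, 19, 1, 10, 13, 5, 20, 18, 9, 17, 3, 15, 4, 8, 23]]

/-- the elements of the centraliser fixing the points `0` and `1`. -/
def L16 : List (List ℕ) := [[0, 1, 2, 3, 4, 5, 6, 7, 8, 9, 10, 11, 12, 13, 14, 15, 16, 17, 18, 19, 20, 21, 22, 23],
  [0, 1, 2, 4, 5, 22, 12, 18, 6, 10, 9, 7, 19, 17, 13, 20, 14, 16, 21, 8, 15, 11, 3, 23],
  [0, 1, 2, 5, 22, 3, 19, 21, 12, 9, 10, 18, 8, 16, 17, 15, 13, 14, 11, 6, 20, 7, 4, 23],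
  [0, 1, 2, 6, 11, 19, 17, 3, 4, 10, 9, 16, 22, 12, 21, 20, 8, 7, 13, 14, 15, 5, 18, 23],
  [0, 1, 2, 7, 8, 21, 3, 17, 16, 10, 9, 4, 13, 18, 19, 20, 11, 6, 22, 5, 15, 14, 12, 23],
  [0, 1, 2, 8, 21, 12, 13, 22, 3, 9, 10, 17, 5, 6, 18, 15, 19, 11, 14, 16, 20, 4, 7, 23],
  [0, 1, 2, 11, 19, 18, 22, 13, 17, 9, 10, 3, 14, 7, 12, 15, 21, 8, 5, 4, 20, 16, 6, 23],
  [0, 1, 2, 12, 7, 8, 16, 4, 5, 9, 10, 14, 3, 19, 11, 15, 6, 18, 17, 13, 20, 22, 21, 23],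
  [0, 1, 2, 13, 17, 16, 11, 8, 21, 10, 9, 19, 7, 5, 4, 20, 3, 22, 6, 18, 15, 12, 14, 23],
  [0, 1, 2, 14, 13, 17, 21, 19, 18, 9, 10, 12, 11, 4, 3, 15, 22, 5, 8, 7, 20, 6, 16, 23],
  [0, 1, 2, 16, 14, 13, 18, 12, 7, 10, 9, 6, 21, 3, 22, 20, 5, 4, 19, 11, 15, 8, 17, 23],
  [0, 1, 2, 17, 16, 14, 7, 6, 11, 9, 10, 8, 18, 22, 5, 15, 4, 3, 12, 21, 20, 19, 13, 23],
  [0, 1, 2, 18, 6, 11, 4, 16, 14, 9, 10, 5, 17, 21, 8, 15, 7, 12, 3, 22, 20, 13, 19, 23],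
  [0, 1, 2, 19, 18, 6, 14, 5, 22, 10, 9, 13, 4, 8, 7, 20, 12, 21, 16, 17, 15, 3, 11, 23],
  [0, 1, 2, 21, 12, 7, 5, 14, 13, 10, 9, 22, 16, 11, 6, 20, 18, 19, 4, 3, 15, 17, 8, 23],
  [0, 1, 2, 22, 3, 4, 8, 11, 19, 10, 9, 21, 6, 14, 16, 20, 17, 13, 7, 12, 15, 18, 5, 23]]

/-- the invariant octads. -/
def O15 : List ℕ := [11575377, 14254209, 6889680, 9748745, 2384216, 5063048, 9471495, 2106966, 4785798, 280334, 9607201, 2242672, 4921504, 416040, 138790]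

/-- the tetrads of the sextet. -/
def S0m : List ℕ := [9469953, 1542, 278792, 2105424, 137248, 4784256]

def T1m : ℕ := 9469953

def O20m : ℕ := 7307262

theorem CT_ok : ∀ c ∈ CT, inM24 c = true ∧ comp c r2B = comp r2B c := by decide +kernel
theorem CT_cov : ∀ y < 24, ∃ c ∈ CT, c.getD 0 0 = y := by decide +kernel
theorem DT_ok : ∀ c ∈ DT, inM24 c = true ∧ comp c r2B = comp r2B c ∧ c.getD 0 0 = 0 := by decide +kernel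
theorem DT_cov : ∀ y < 24, O20m.testBit y = true → ∃ c ∈ DT, c.getD 1 0 = y := by decide +kernel
theorem L16_eq : list960.filter (fun s => comp s r2B == comp r2B s) = L16 := by decide +kernel
theorem L16_ok : ∀ c ∈ L16, inM24 c = true ∧ comp c r2B = comp r2B c ∧ c.getD 0 0 = 0 ∧ c.getD 1 0 = 1 := by
  decide +kernel
theorem L16_nodup : L16.Nodup := by decide +kernel
theorem O15_all : ∀ a < 4096, (!(popc (enc B12 a) == 8 && img r2B (enc B12 a) == enc B12 a) ||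
    O15.contains (enc B12 a)) = true := by decide +kernel
theorem O15_inter : ∀ m ∈ O15, ∀ n ∈ O15, popc (m &&& n) = 4 → (m &&& n) ∈ S0m := by decide +kernel
theorem S0m_ok : ∀ m ∈ S0m, popc m = 4 ∧ isCode (T1m ^^^ m) = true ∧ m < 2 ^ 24 ∧ img r2B m = m := by
  decide +kernel
theorem S0m_nodup : S0m.Nodup := by decide +kernel
theorem O20_spec : ∀ j < 24, T1m.testBit j = false → O20m.testBit j = true := by decide +kernel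
theorem popc_O20 : popc O20m = 20 := by decide +kernel

end Cfsg.Agent.Lib.Helper3.Cent2B
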