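import Mathlib
import Cfsg.Prelude.Def_FusionSystem
import Cfsg.Agent.Fus.Grp
import Cfsg.Agent.H14.FusSimple

/-!
# A criterion for the 2-fusion system of a finite group to be simple

If a 2-subgroup `S0` of `G` is self-normalising and has no proper nontrivial strongly closed subgroup, then it
is a Sylow 2-subgroup and the fusion system of `G` on every Sylow 2-subgroup is simple.
-/

set_option autoImplicit false

namespace Cfsg.Agent.Lib.Helper3.FusCrit

open Cfsg Cfsg.FusionSystem Cfsg.Agent.H14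

theorem isSimple_of_closed {G : Type*} [Group G] [Finite G] (S : Sylow 2 G)
    (hne : (S : Subgroup G) ≠ ⊥)
    (hN : ∀ g : G, (∀ x ∈ (S : Subgroup G), g * x * g⁻¹ ∈ (S : Subgroup G)) → g ∈ (S : Subgroup G))
    (hSC : ∀ T : Subgroup G, T ≤ S → T ≠ ⊥ →
      (∀ t ∈ T, ∀ g : G, g * t * g⁻¹ ∈ (S : Subgroup G) → g * t * g⁻¹ ∈ T) → T = S) :
    (groupFusionSystem (S : Subgroup G)).IsSimple 2 := by
  refine ⟨isSaturated_groupFusionSystem S, hne, ?_⟩
  intro T E hE
  obtain ⟨⟨-, -, hsub, hclosed, -, hfrat⟩, -⟩ := hE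
  by_cases hT : T = ⊥
  · left; exact hT
  right
  have hTS : T ≤ S := hclosed.1
  have hTeq : T = S := by
    apply hSC T hTS hT
    intro t ht g hg
    have hR : Subgroup.zpowers (t : G) ≤ T := by
      rw [Subgroup.zpowers_le]; exact ht
    have hφ : conjHom (Subgroup.zpowers (t : G)) g ∈
        (groupFusionSystem (S : Subgroup G)).Hom (Subgroup.zpowers (t : G)) := by
      refine ⟨hR.trans hTS, ?_, g, fun x => rfl⟩
      rintro ⟨x, hx⟩
      obtain ⟨k, rfl⟩ := Subgroup.mem_zpowers_iff.mp hx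
      change g * (t : G) ^ k * g⁻¹ ∈ (S : Subgroup G)
      rw [← conj_zpow]
      exact zpow_mem hg k
    exact hclosed.2 _ hR _ hφ ⟨t, Subgroup.mem_zpowers _⟩
  subst hTeq
  refine ⟨rfl, fun P => ?_⟩
  apply Set.Subset.antisymm (hsub P)
  intro φ hφ
  obtain ⟨α, hα, φ₀, hφ₀, h⟩ := hfrat P hφ.1 φ hφ
  obtain ⟨s, hs, hsα⟩ := groupFusion_autGroup_inner (S : Subgroup G) hN α hα
  have h0 : ∀ x : P, φ₀ x ∈ (S : Subgroup G) := (E.le_of_mem hφ₀).2
  have hcomp := E.comp_mem hφ₀ (E.conj_mem (le_refl (S : Subgroup G)) hs) h0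
  have : φ = (conjHom (S : Subgroup G) s).comp (φ₀.codRestrict (S : Subgroup G) h0) := by
    ext x
    rw [h x (h0 x), hsα]
    rfl
  rw [this]
  exact hcomp

/-- a self-normalising `p`-subgroup is a Sylow `p`-subgroup. -/
theorem exists_sylow_of_selfNormalizing {G : Type*} [Group G] [Finite G] {p : ℕ} [Fact p.Prime]
    (P : Subgroup G) (hP : IsPGroup p P) (hN : ∀ g : G, (∀ x ∈ P, g * x * g⁻¹ ∈ P) → g ∈ P) :
    ∃ S : Sylow p G, (S : Subgroup G) = P := by
  obtain ⟨S, hS⟩ := hP.exists_le_sylow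
  refine ⟨S, ?_⟩
  by_contra hne
  have hnil : Group.IsNilpotent (S : Subgroup G) := S.isPGroup'.isNilpotent
  have hnc := Group.normalizerCondition_of_isNilpotent (G := (S : Subgroup G))
  have hlt : P.subgroupOf (S : Subgroup G) < ⊤ := by
    rw [lt_top_iff_ne_top]
    intro h
    rw [Subgroup.subgroupOf_eq_top] at h
    exact hne (le_antisymm h hS)
  have h2 := hnc _ hlt
  obtain ⟨x, hx, hx'⟩ := SetLike.exists_of_lt h2
  apply hx'
  rw [Subgroup.mem_subgroupOf]
  apply hN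
  intro y hy
  have := (Subgroup.mem_normalizer_iff.mp hx ⟨y, hS hy⟩).mp (by rw [Subgroup.mem_subgroupOf]; exact hy)
  rw [Subgroup.mem_subgroupOf] at this
  simpa using this

/-- an element conjugating a finite subgroup into itself: so does its inverse. -/
theorem conj_inv_mem {Ω : Type*} [Group Ω] (S0 : Subgroup Ω) [Finite S0] {n : Ω}
    (hn : ∀ s ∈ S0, n * s * n⁻¹ ∈ S0) : ∀ s ∈ S0, n⁻¹ * s * n⁻¹⁻¹ ∈ S0 := by
  intro s hs
  let f : S0 → S0 := fun x => ⟨n * x * n⁻¹, hn x x.2⟩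
  have hf : Function.Injective f := by
    intro a b hab
    have : n * (a : Ω) * n⁻¹ = n * (b : Ω) * n⁻¹ := congrArg Subtype.val hab
    exact Subtype.ext (mul_left_cancel (mul_right_cancel this))
  obtain ⟨x, hx⟩ := (Finite.injective_iff_surjective.mp hf) ⟨s, hs⟩
  have h1 : n * (x : Ω) * n⁻¹ = s := congrArg Subtype.val hx
  rw [← h1]
  have : n⁻¹ * (n * (x : Ω) * n⁻¹) * n⁻¹⁻¹ = x := by group
  rw [this]
  exact x.2

theorem main {Ω : Type*} [Group Ω] (G S0 : Subgroup Ω) [Finite G] (hle : S0 ≤ G)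
    (h2 : ∀ s ∈ S0, ∃ k : ℕ, s ^ 2 ^ k = 1) (hne : S0 ≠ ⊥)
    (hN : ∀ n ∈ G, (∀ s ∈ S0, n * s * n⁻¹ ∈ S0) → n ∈ S0)
    (hSC : ∀ T : Subgroup Ω, T ≤ S0 → T ≠ ⊥ →
      (∀ t ∈ T, ∀ g ∈ G, g * t * g⁻¹ ∈ S0 → g * t * g⁻¹ ∈ T) → S0 ≤ T)
    (S : Sylow 2 G) :
    (groupFusionSystem (S : Subgroup G)).IsSimple 2 ∧
      Subgroup.normalizer ((S : Subgroup G) : Set G) = S := by
  have hP : IsPGroup 2 (S0.subgroupOf G) := by
    rintro ⟨⟨x, hxG⟩, hx⟩
    obtain ⟨k, hk⟩ := h2 x (Subgroup.mem_subgroupOf.mp hx)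
    exact ⟨k, Subtype.ext (Subtype.ext (by simpa using hk))⟩
  obtain ⟨S1, hS1⟩ := exists_sylow_of_selfNormalizing (S0.subgroupOf G) hP (by
    intro g hg
    rw [Subgroup.mem_subgroupOf]
    apply hN _ g.2
    intro s hs
    have := hg ⟨s, hle hs⟩ (by rw [Subgroup.mem_subgroupOf]; exact hs)
    rw [Subgroup.mem_subgroupOf] at this
    simpa using this)
  obtain ⟨g, hg⟩ := MulAction.exists_smul_eq G S1 S
  have hmem : ∀ x : G, x ∈ (S : Subgroup G) ↔ ((g⁻¹ * x * g : G) : Ω) ∈ S0 := by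
    intro x
    rw [← hg, Sylow.coe_subgroup_smul, hS1, Subgroup.mem_pointwise_smul_iff_inv_smul_mem,
      Subgroup.mem_subgroupOf, MulAut.smul_def, MulAut.conj_inv_apply]
  have hN' : ∀ n : G, (∀ x ∈ (S : Subgroup G), n * x * n⁻¹ ∈ (S : Subgroup G)) →
      n ∈ (S : Subgroup G) := by
    intro n hn
    rw [hmem]
    apply hN _ (g⁻¹ * n * g).2
    intro s hs
    have h1 : (g * ⟨s, hle hs⟩ * g⁻¹ : G) ∈ (S : Subgroup G) := by
      rw [hmem]
      have : ((g⁻¹ * (g * ⟨s, hle hs⟩ * g⁻¹) * g : G) : Ω) = s := by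
        simp [mul_assoc]
      rw [this]; exact hs
    have h3 := (hmem _).mp (hn _ h1)
    have : ((g⁻¹ * (n * (g * ⟨s, hle hs⟩ * g⁻¹) * n⁻¹) * g : G) : Ω)
        = ((g⁻¹ * n * g : G) : Ω) * s * ((g⁻¹ * n * g : G) : Ω)⁻¹ := by
      simp [mul_assoc]
    rw [← this]; exact h3
  constructor
  · apply isSimple_of_closed S _ hN'
    · intro T hT hTne hcl
      let c : G →* Ω := G.subtype.comp (MulAut.conj g⁻¹).toMonoidHom
      have hc : ∀ x : G, c x = ((g⁻¹ * x * g : G) : Ω) := by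
        intro x; simp [c]
      have hcinj : Function.Injective c := by
        intro a b hab
        rw [hc, hc] at hab
        have := Subtype.ext hab
        exact mul_left_cancel (mul_right_cancel this)
      have h1 : S0 ≤ T.map c := by
        apply hSC
        · rintro _ ⟨x, hx, rfl⟩
          rw [hc]; exact (hmem x).mp (hT hx)
        · intro h
          apply hTne
          rw [Subgroup.map_eq_bot_iff_of_injective _ hcinj] at h
          exact h
        · rintro _ ⟨x, hx, rfl⟩ k hk hks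
          let k' : G := g * ⟨k, hk⟩ * g⁻¹
          have e : c (k' * x * k'⁻¹) = k * c x * k⁻¹ := by
            rw [hc, hc]; simp [k', mul_assoc]
          rw [← e] at hks ⊢
          refine ⟨_, hcl x hx k' ?_, rfl⟩
          rw [hmem, ← hc]; exact hks
      apply le_antisymm hT
      intro x hx
      obtain ⟨y, hy, hyx⟩ := h1 ((hmem x).mp hx)
      rw [← hc] at hyx
      rw [← hcinj hyx]; exact hy
    · intro h
      apply hne
      rw [eq_bot_iff]
      intro s hs
      have h1 : (g * ⟨s, hle hs⟩ * g⁻¹ : G) ∈ (S : Subgroup G) := by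
        rw [hmem]
        have : ((g⁻¹ * (g * ⟨s, hle hs⟩ * g⁻¹) * g : G) : Ω) = s := by
          simp [mul_assoc]
        rw [this]; exact hs
      rw [h, Subgroup.mem_bot] at h1
      have h3 : (⟨s, hle hs⟩ : G) = 1 := by
        have : (⟨s, hle hs⟩ : G) = g⁻¹ * (g * ⟨s, hle hs⟩ * g⁻¹) * g := by group
        rw [this, h1]; simp
      rw [Subgroup.mem_bot]
      exact congrArg Subtype.val h3
  · apply le_antisymm
    · intro n hn
      apply hN'
      intro x hx
      exact (Subgroup.mem_normalizer_iff.mp hn x).mp hx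
    · exact Subgroup.le_normalizer

end Cfsg.Agent.Lib.Helper3.FusCrit
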