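import Cfsg.Agent.Lib.Helper28.M24Enum
import Cfsg.Agent.Lib.Helper3.FusCrit

/-!
# Sylow 2-subgroups of subgroups of `M24` by tables

A generic certificate checker.  `G` is a subgroup of the permutations of the 24 points; `S0 = SL G lam` is the
subgroup of `G` preserving a table `lam` of numbers indexed by the pairs of points.  A chain of transversals
enumerates `S0`; if `lam x y` is the number of elements of `S0` fixing `x` and `y` then `S0` is self-normalising
in `G`; certificates of conjugations show that `S0` has no proper nontrivial strongly closed subgroup.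
-/

set_option autoImplicit false

namespace Cfsg.Agent.Lib.Helper3.FusEnum

open Cfsg Cfsg.Agent.Lib.Helper28 Cfsg.Agent.Lib.Helper3.M24T Cfsg.Agent.Lib.Helper3.M24Gen

/-- `t` is the table of an element of `H`. -/
def Good (H : Subgroup (Equiv.Perm GolayPt)) (t : List ℕ) : Prop := isTbl t = true ∧ permOf t ∈ H

theorem good_comp {H : Subgroup (Equiv.Perm GolayPt)} {a b : List ℕ} (ha : Good H a) (hb : Good H b) :
    Good H (comp a b) := by
  obtain ⟨h1, h2⟩ := permOf_comp ha.1 hb.1
  exact ⟨h1, h2 ▸ H.mul_mem ha.2 hb.2⟩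

theorem good_idT (H : Subgroup (Equiv.Perm GolayPt)) : Good H idT :=
  ⟨by decide +kernel, by rw [permOf_idT]; exact H.one_mem⟩

theorem good_tblOf {H : Subgroup (Equiv.Perm GolayPt)} {g : Equiv.Perm GolayPt} (hg : g ∈ H) :
    Good H (tblOf g) := ⟨isTbl_tblOf g, by rw [permOf_tblOf]; exact hg⟩

theorem good_mono {H K : Subgroup (Equiv.Perm GolayPt)} (h : H ≤ K) {t : List ℕ} (ht : Good H t) :
    Good K t := ⟨ht.1, h ht.2⟩

theorem good_getD {H : Subgroup (Equiv.Perm GolayPt)} {acc : List (List ℕ)} (h : ∀ a ∈ acc, Good H a)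
    (i : ℕ) : Good H (acc.getD i idT) := by
  by_cases hi : i < acc.length
  · rw [List.getD_eq_getElem _ _ hi]; exact h _ (List.getElem_mem _)
  · rw [List.getD_eq_default _ _ (by omega)]; exact good_idT H

/-! ### the subgroup preserving a table -/

def lamAt (lam : List (List ℕ)) (x y : ℕ) : ℕ := (lam.getD x []).getD y 0

/-- the subgroup of `G` preserving `lam`. -/
def SL (G : Subgroup (Equiv.Perm GolayPt)) (lam : List (List ℕ)) : Subgroup (Equiv.Perm GolayPt) where
  carrier := {g | g ∈ G ∧ ∀ x y : GolayPt, lamAt lam (idx (g x)) (idx (g y)) = lamAt lam (idx x) (idx y)}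
  mul_mem' := by
    rintro a b ⟨ha, ha'⟩ ⟨hb, hb'⟩
    exact ⟨mul_mem ha hb, fun x y => by rw [Equiv.Perm.mul_apply, Equiv.Perm.mul_apply, ha', hb']⟩
  one_mem' := ⟨one_mem _, fun _ _ => rfl⟩
  inv_mem' := by
    rintro a ⟨ha, ha'⟩
    refine ⟨inv_mem ha, fun x y => ?_⟩
    have := ha' (a⁻¹ x) (a⁻¹ y)
    simpa using this.symm

theorem mem_SL {G : Subgroup (Equiv.Perm GolayPt)} {lam : List (List ℕ)} {g : Equiv.Perm GolayPt} :
    g ∈ SL G lam ↔ g ∈ G ∧
      ∀ x y : GolayPt, lamAt lam (idx (g x)) (idx (g y)) = lamAt lam (idx x) (idx y) := Iff.rfl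

theorem SL_le (G : Subgroup (Equiv.Perm GolayPt)) (lam : List (List ℕ)) : SL G lam ≤ G := fun _ h => h.1

def presLam (lam : List (List ℕ)) (t : List ℕ) : Bool :=
  (List.range 24).all fun x => (List.range 24).all fun y =>
    lamAt lam (t.getD x 0) (t.getD y 0) == lamAt lam x y

theorem good_SL {G : Subgroup (Equiv.Perm GolayPt)} {lam : List (List ℕ)} {t : List ℕ} (h : Good G t)
    (h2 : presLam lam t = true) : Good (SL G lam) t := by
  refine ⟨h.1, h.2, fun x y => ?_⟩
  rw [idx_permOf h.1, idx_permOf h.1]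
  simp only [presLam, List.all_eq_true, List.mem_range, beq_iff_eq] at h2
  exact h2 _ (idx_lt x) _ (idx_lt y)

/-! ### sifting -/

section sift

variable (S : Subgroup (Equiv.Perm GolayPt)) (inS : List ℕ → Bool) (col : ℕ → ℕ) (lam : List (List ℕ))

def cand (pre : List ℕ) (β y : ℕ) : Bool :=
  !pre.contains y && col y == col β && lamAt lam y y == lamAt lam β β &&
    pre.all fun b => lamAt lam b y == lamAt lam b β

def lvlOK (pre : List ℕ) (β : ℕ) (U : List (List ℕ)) : Bool :=
  decide (β < 24) && !pre.contains β && pre.all (· < 24) &&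
    U.all (fun u => inS u && pre.all fun b => u.getD b 0 == b) &&
    (List.range 24).all fun y => !cand col lam pre β y || U.any fun u => u.getD β 0 == y

def chainOK : List ℕ → List (ℕ × List (List ℕ)) → Bool
  | _, [] => true
  | pre, (β, U) :: r => lvlOK inS col lam pre β U && chainOK (pre ++ [β]) r

def prods : List (ℕ × List (List ℕ)) → List (List ℕ)
  | [] => [idT]
  | (_, U) :: r => U.flatMap fun u => (prods r).map fun s => comp u s

variable {S inS col lam}

theorem sift_step (hinS : ∀ t, inS t = true → Good S t)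
    (hcol : ∀ g ∈ S, ∀ x, col (idx (g x)) = col (idx x))
    (hlam : ∀ g ∈ S, ∀ x y, lamAt lam (idx (g x)) (idx (g y)) = lamAt lam (idx x) (idx y))
    {pre : List ℕ} {β : ℕ} {U : List (List ℕ)} (h : lvlOK inS col lam pre β U = true)
    {g : Equiv.Perm GolayPt} (hg : g ∈ S) (hfix : ∀ b ∈ pre, g (ptOf b) = ptOf b) :
    ∃ u ∈ U, ∃ g' ∈ S, (∀ b ∈ pre ++ [β], g' (ptOf b) = ptOf b) ∧ Good S u ∧ g = permOf u * g' := by
  simp only [lvlOK, Bool.and_eq_true, decide_eq_true_eq, List.all_eq_true, List.mem_range,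
    Bool.or_eq_true, List.any_eq_true, beq_iff_eq, Bool.not_eq_true', List.contains_eq_mem,
    decide_eq_false_iff_not] at h
  obtain ⟨⟨⟨⟨hβ, hβpre⟩, hpre⟩, hU⟩, hc⟩ := h
  have hy := idx_lt (g (ptOf β))
  have hcand : cand col lam pre β (idx (g (ptOf β))) = true := by
    simp only [cand, Bool.and_eq_true, List.all_eq_true, beq_iff_eq, Bool.not_eq_true',
      List.contains_eq_mem, decide_eq_false_iff_not]
    refine ⟨⟨⟨?_, ?_⟩, ?_⟩, ?_⟩
    · intro hmem
      have h1 := hfix _ hmem
      rw [ptOf_idx] at h1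
      have h2 := g.injective h1
      have h3 : idx (g (ptOf β)) = β := by rw [h2, idx_ptOf hβ]
      exact hβpre (h3 ▸ hmem)
    · rw [hcol g hg, idx_ptOf hβ]
    · rw [hlam g hg, idx_ptOf hβ]
    · intro b hb
      have h1 := hlam g hg (ptOf b) (ptOf β)
      rw [hfix b hb, idx_ptOf (hpre b hb), idx_ptOf hβ] at h1
      exact h1
  rcases hc _ hy with h1 | ⟨u, hu, hu2⟩
  · rw [hcand] at h1; exact absurd h1 (by simp)
  obtain ⟨hu3, hu4⟩ := hU u hu
  have hgu := hinS u hu3
  refine ⟨u, hu, (permOf u)⁻¹ * g, S.mul_mem (S.inv_mem hgu.2) hg, ?_, hgu, by simp⟩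
  intro b hb
  rw [Equiv.Perm.mul_apply, Equiv.Perm.inv_eq_iff_eq, permOf_apply hgu.1]
  rcases List.mem_append.1 hb with hb | hb
  · rw [hfix b hb, idx_ptOf (hpre b hb), hu4 b hb]
  · rw [List.mem_singleton.1 hb, idx_ptOf hβ, hu2, ptOf_idx]

theorem enum (hinS : ∀ t, inS t = true → Good S t)
    (hcol : ∀ g ∈ S, ∀ x, col (idx (g x)) = col (idx x))
    (hlam : ∀ g ∈ S, ∀ x y, lamAt lam (idx (g x)) (idx (g y)) = lamAt lam (idx x) (idx y))
    (lv : List (ℕ × List (List ℕ))) : ∀ (pre : List ℕ), chainOK inS col lam pre lv = true →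
    (∀ g ∈ S, (∀ b ∈ pre ++ lv.map Prod.fst, g (ptOf b) = ptOf b) → g = 1) →
    ∀ g ∈ S, (∀ b ∈ pre, g (ptOf b) = ptOf b) → tblOf g ∈ prods lv := by
  induction lv with
  | nil =>
    intro pre _ hbase g hg hfix
    rw [hbase g hg (by simpa using hfix), tblOf_one]
    simp [prods]
  | cons a r ih =>
    obtain ⟨β, U⟩ := a
    intro pre h hbase g hg hfix
    simp only [chainOK, Bool.and_eq_true] at h
    obtain ⟨u, hu, g', hg', hfix', hgu, rfl⟩ := sift_step hinS hcol hlam h.1 hg hfix
    have := ih (pre ++ [β]) h.2 (by simpa using hbase) g' hg' hfix'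
    rw [tblOf_mul, tblOf_permOf hgu.1]
    simp only [prods, List.mem_flatMap, List.mem_map]
    exact ⟨u, hu, _, this, rfl⟩

theorem good_of_chainOK (hinS : ∀ t, inS t = true → Good S t) (lv : List (ℕ × List (List ℕ))) :
    ∀ (pre : List ℕ), chainOK inS col lam pre lv = true → ∀ a ∈ lv, ∀ u ∈ a.2, Good S u := by
  induction lv with
  | nil => intro _ _ a ha; simp at ha
  | cons a r ih =>
    obtain ⟨β, U⟩ := a
    intro pre h a ha u hu
    simp only [chainOK, Bool.and_eq_true] at h
    rcases List.mem_cons.1 ha with rfl | ha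
    · have h1 := h.1
      simp only [lvlOK, Bool.and_eq_true, List.all_eq_true] at h1
      exact hinS u (h1.1.2 u hu).1
    · exact ih _ h.2 a ha u hu

theorem good_prods {H : Subgroup (Equiv.Perm GolayPt)} (lv : List (ℕ × List (List ℕ)))
    (h : ∀ a ∈ lv, ∀ u ∈ a.2, Good H u) : ∀ t ∈ prods lv, Good H t := by
  induction lv with
  | nil =>
    intro t ht
    simp only [prods, List.mem_singleton] at ht
    rw [ht]; exact good_idT H
  | cons a r ih =>
    obtain ⟨β, U⟩ := a
    intro t ht
    simp only [prods, List.mem_flatMap, List.mem_map] at ht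
    obtain ⟨u, hu, s, hs, rfl⟩ := ht
    exact good_comp (h _ List.mem_cons_self u hu)
      (ih (fun a ha => h a (List.mem_cons_of_mem _ ha)) s hs)

end sift

/-! ### the normaliser -/

def cntP (P : List (List ℕ)) (i j : ℕ) : ℕ :=
  (P.filter fun t => (fixMask t).testBit i && (fixMask t).testBit j).length

def cntL (fm : List ℕ) (i j : ℕ) : ℕ := (fm.filter fun m => m.testBit i && m.testBit j).length

theorem cntL_map (P : List (List ℕ)) (i j : ℕ) : cntL (P.map fixMask) i j = cntP P i j := by
  unfold cntL cntP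
  rw [List.filter_map, List.length_map]
  rfl

theorem testBit_fixMask {t : List ℕ} (ht : isTbl t = true) (x : GolayPt) :
    (fixMask t).testBit (idx x) = true ↔ permOf t x = x := by
  rw [← mem_un, ← mem_fixSet, fixSet_eq_un, tblOf_permOf ht]

theorem cntP_le {S : Subgroup (Equiv.Perm GolayPt)} {P : List (List ℕ)}
    (ha : ∀ g ∈ S, tblOf g ∈ P) (hb : ∀ t ∈ P, Good S t) (hnd : P.Nodup)
    {n : Equiv.Perm GolayPt} (hn : ∀ s ∈ S, n * s * n⁻¹ ∈ S) (x y : GolayPt) :
    cntP P (idx x) (idx y) ≤ cntP P (idx (n x)) (idx (n y)) := by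
  unfold cntP
  rw [← List.toFinset_card_of_nodup (hnd.filter _), ← List.toFinset_card_of_nodup (hnd.filter _)]
  apply Finset.card_le_card_of_injOn (fun t => tblOf (n * permOf t * n⁻¹))
  · intro t ht
    simp only [Finset.mem_coe, List.mem_toFinset, List.mem_filter, Bool.and_eq_true] at ht ⊢
    obtain ⟨htP, h1, h2⟩ := ht
    have hg := hb t htP
    rw [testBit_fixMask hg.1] at h1 h2
    refine ⟨ha _ (hn _ hg.2), ?_, ?_⟩
    · rw [testBit_fixMask (isTbl_tblOf _), permOf_tblOf, conj_apply, h1]
    · rw [testBit_fixMask (isTbl_tblOf _), permOf_tblOf, conj_apply, h2]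
  · intro t ht t' ht' e
    simp only [Finset.mem_coe, List.mem_toFinset, List.mem_filter] at ht ht'
    have e1 := tblOf_injective e
    have e2 : permOf t = permOf t' := mul_left_cancel (mul_right_cancel e1)
    rw [← tblOf_permOf (hb t ht.1).1, e2, tblOf_permOf (hb t' ht'.1).1]

def lamCheck (lam : List (List ℕ)) (fm : List ℕ) : Bool :=
  (List.range 24).all fun x => (List.range 24).all fun y => lamAt lam x y == cntL fm x y

def nodupB : List ℕ → Bool
  | [] => true
  | a :: l => !l.contains a && nodupB l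

theorem nodup_of_nodupB : ∀ {l : List ℕ}, nodupB l = true → l.Nodup
  | [], _ => List.nodup_nil
  | a :: l, h => by
    simp only [nodupB, Bool.and_eq_true, Bool.not_eq_true', List.contains_eq_mem,
      decide_eq_false_iff_not] at h
    exact List.nodup_cons.2 ⟨h.1, nodup_of_nodupB h.2⟩

theorem mem_of_normalizes {G : Subgroup (Equiv.Perm GolayPt)} {lam : List (List ℕ)} {P : List (List ℕ)}
    (ha : ∀ g ∈ SL G lam, tblOf g ∈ P) (hb : ∀ t ∈ P, Good (SL G lam) t) (hnd : P.Nodup)
    (hl : lamCheck lam (P.map fixMask) = true)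
    {n : Equiv.Perm GolayPt} (hnG : n ∈ G) (hn : ∀ s ∈ SL G lam, n * s * n⁻¹ ∈ SL G lam) :
    n ∈ SL G lam := by
  refine ⟨hnG, fun x y => ?_⟩
  simp only [lamCheck, List.all_eq_true, List.mem_range, beq_iff_eq] at hl
  rw [hl _ (idx_lt _) _ (idx_lt _), hl _ (idx_lt _) _ (idx_lt _), cntL_map, cntL_map]
  apply le_antisymm
  · have := cntP_le ha hb hnd (FusCrit.conj_inv_mem (SL G lam) hn) (n x) (n y)
    simpa using this
  · exact cntP_le ha hb hnd hn x y

/-! ### strongly closed subgroups -/

def invT (t : List ℕ) : List ℕ := (List.range 24).map fun y => t.idxOf y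

/-- the commutator `t⁻¹ (s t s⁻¹)`. -/
def cm (t s : List ℕ) : List ℕ :=
  if isTbl (invT t) && isTbl (invT s) && comp t (invT t) == idT && comp s (invT s) == idT then
    comp (invT t) (comp s (comp t (invT s))) else idT

theorem permOf_inv_of_comp {a b : List ℕ} (ha : isTbl a = true) (hb : isTbl b = true)
    (h : comp a b = idT) : permOf b = (permOf a)⁻¹ := by
  have := (permOf_comp ha hb).2
  rw [h, permOf_idT] at this
  exact eq_inv_of_mul_eq_one_right this.symm

theorem good_cm {T S : Subgroup (Equiv.Perm GolayPt)} (hT : ∀ t ∈ T, ∀ s ∈ S, s * t * s⁻¹ ∈ T)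
    {t s : List ℕ} (ht : Good T t) (hs : Good S s) : Good T (cm t s) := by
  unfold cm
  split
  · rename_i h
    simp only [Bool.and_eq_true, beq_iff_eq] at h
    obtain ⟨⟨⟨h1, h2⟩, h3⟩, h4⟩ := h
    have e1 := permOf_inv_of_comp ht.1 h1 h3
    have e2 := permOf_inv_of_comp hs.1 h2 h4
    obtain ⟨a1, a2⟩ := permOf_comp ht.1 h2
    obtain ⟨b1, b2⟩ := permOf_comp hs.1 a1
    obtain ⟨c1, c2⟩ := permOf_comp h1 b1
    refine ⟨c1, ?_⟩
    rw [c2, b2, a2, e1, e2]
    apply T.mul_mem (T.inv_mem ht.2)
    have := hT _ ht.2 _ hs.2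
    rwa [mul_assoc] at this
  · exact good_idT T

def descend (gs : List (List ℕ)) : ℕ → List ℕ → List ℕ
  | 0, t => t
  | k + 1, t =>
    match gs.find? (fun s => comp s t != comp t s) with
    | none => t
    | some s => descend gs k (cm t s)

theorem good_descend {T S : Subgroup (Equiv.Perm GolayPt)} (hT : ∀ t ∈ T, ∀ s ∈ S, s * t * s⁻¹ ∈ T)
    {gs : List (List ℕ)} (hgs : ∀ s ∈ gs, Good S s) (k : ℕ) :
    ∀ {t : List ℕ}, Good T t → Good T (descend gs k t) := by
  induction k with
  | zero => intro t ht; exact ht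
  | succ k ih =>
    intro t ht
    unfold descend
    split
    · exact ht
    · rename_i s hs
      exact ih (good_cm hT ht (hgs s (List.mem_of_find?_eq_some hs)))

/-- run a derivation: a step `([], _, i, j)` appends the product of two earlier tables, a step `(k, nw, i, _)`
appends `nw`, the conjugate of an earlier table by `k`. -/
def runD (inG inS : List ℕ → Bool) :
    List (List ℕ × List ℕ × ℕ × ℕ) → List (List ℕ) → List (List ℕ)
  | [], acc => acc
  | (k, nw, i, j) :: r, acc =>
    if k.isEmpty then runD inG inS r (acc ++ [comp (acc.getD i idT) (acc.getD j idT)])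
    else if inG k && inS nw && comp k (acc.getD i idT) == comp nw k then runD inG inS r (acc ++ [nw])
    else runD inG inS r acc

theorem good_runD {G S T : Subgroup (Equiv.Perm GolayPt)} {inG inS : List ℕ → Bool}
    (hinG : ∀ t, inG t = true → Good G t) (hinS : ∀ t, inS t = true → Good S t)
    (hcl : ∀ t ∈ T, ∀ g ∈ G, g * t * g⁻¹ ∈ S → g * t * g⁻¹ ∈ T)
    (steps : List (List ℕ × List ℕ × ℕ × ℕ)) :
    ∀ acc : List (List ℕ), (∀ a ∈ acc, Good T a) → ∀ a ∈ runD inG inS steps acc, Good T a := by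
  induction steps with
  | nil => intro acc h; exact h
  | cons st r ih =>
    obtain ⟨k, nw, i, j⟩ := st
    intro acc h
    unfold runD
    split
    · apply ih
      intro a ha
      rcases List.mem_append.1 ha with ha | ha
      · exact h a ha
      · rw [List.mem_singleton.1 ha]
        exact good_comp (good_getD h i) (good_getD h j)
    · split
      · rename_i hc
        simp only [Bool.and_eq_true, beq_iff_eq] at hc
        obtain ⟨⟨h1, h2⟩, h3⟩ := hc
        apply ih
        intro a ha
        rcases List.mem_append.1 ha with ha | ha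
        · exact h a ha
        · rw [List.mem_singleton.1 ha]
          have hk := hinG k h1
          have hw := hinS nw h2
          have hi := good_getD h i
          have e : permOf k * permOf (acc.getD i idT) = permOf nw * permOf k := by
            rw [← (permOf_comp hk.1 hi.1).2, ← (permOf_comp hw.1 hk.1).2, h3]
          have e2 : permOf nw = permOf k * permOf (acc.getD i idT) * (permOf k)⁻¹ := by
            rw [e]; simp
          refine ⟨hw.1, ?_⟩
          rw [e2]
          apply hcl _ hi.2 _ hk.2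
          rw [← e2]; exact hw.2
      · exact ih acc h

def sq (t : List ℕ) : List ℕ := comp t t

theorem permOf_sq {t : List ℕ} (ht : isTbl t = true) :
    isTbl (sq t) = true ∧ permOf (sq t) = permOf t ^ 2 := by
  obtain ⟨h1, h2⟩ := permOf_comp ht ht
  exact ⟨h1, by rw [sq, h2, pow_two]⟩

/-- the key of a table: its values at the base points. -/
def keyOf (bs : List ℕ) (t : List ℕ) : ℕ := bs.foldl (fun a b => a * 24 + t.getD b 0) 0

/-- The whole certificate. -/
structure Cert (inG : List ℕ → Bool) (col : ℕ → ℕ) where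
  lam : List (List ℕ)
  lv : List (ℕ × List (List ℕ))
  gs : List (List ℕ)
  z : List ℕ
  steps : List (List ℕ × List ℕ × ℕ × ℕ)

namespace Cert

variable {inG : List ℕ → Bool} {col : ℕ → ℕ} (C : Cert inG col)

def inS (t : List ℕ) : Bool := inG t && presLam C.lam t

def P : List (List ℕ) := prods C.lv

def chk1 : Bool := chainOK C.inS col C.lam [] C.lv
def chk2 : Bool := nodupB (C.P.map (keyOf (C.lv.map Prod.fst)))
def chk3 : Bool := lamCheck C.lam (C.P.map fixMask)
def chk4 : Bool := C.P.all fun t => sq (sq (sq (sq t))) == idT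
def chk5 : Bool := C.gs.all C.inS && C.inS C.z && C.z != idT
def chk6 : Bool := C.P.all fun t => t == idT || descend C.gs 12 t == C.z
def chk7 : Bool := C.lv.all fun a => a.2.all fun u => (runD inG C.inS C.steps [C.z]).contains u

theorem main (G : Subgroup (Equiv.Perm GolayPt)) (hinG : ∀ t, inG t = true → Good G t)
    (hcol : ∀ g ∈ G, ∀ x, col (idx (g x)) = col (idx x))
    (hbase : ∀ g ∈ G, (∀ b ∈ C.lv.map Prod.fst, g (ptOf b) = ptOf b) → g = 1)
    (h1 : C.chk1 = true) (h2 : C.chk2 = true) (h3 : C.chk3 = true) (h4 : C.chk4 = true)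
    (h5 : C.chk5 = true) (h6 : C.chk6 = true) (h7 : C.chk7 = true) (S : Sylow 2 G) :
    (groupFusionSystem (S : Subgroup G)).IsSimple 2 ∧
      Subgroup.normalizer ((S : Subgroup G) : Set G) = S := by
  have hinS : ∀ t, C.inS t = true → Good (SL G C.lam) t := by
    intro t ht
    simp only [inS, Bool.and_eq_true] at ht
    exact good_SL (hinG t ht.1) ht.2
  have ha : ∀ g ∈ SL G C.lam, tblOf g ∈ C.P := by
    intro g hg
    exact enum hinS (fun g hg => hcol g hg.1) (fun g hg => hg.2) C.lv [] h1
      (fun g hg h => hbase g hg.1 (by simpa using h)) g hg (by simp)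
  have hW := good_of_chainOK hinS C.lv [] h1
  have hb : ∀ t ∈ C.P, Good (SL G C.lam) t := good_prods C.lv hW
  have hnd : C.P.Nodup := List.Nodup.of_map _ (nodup_of_nodupB h2)
  simp only [chk5, Bool.and_eq_true, List.all_eq_true, bne_iff_ne] at h5
  obtain ⟨⟨hgs, hz⟩, hz1⟩ := h5
  have hzg := hinS _ hz
  apply FusCrit.main G (SL G C.lam) (SL_le G C.lam)
  · intro s hs
    refine ⟨4, ?_⟩
    simp only [chk4, List.all_eq_true, beq_iff_eq] at h4
    have e := h4 _ (ha s hs)
    obtain ⟨a1, a2⟩ := permOf_sq (isTbl_tblOf s)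
    obtain ⟨b1, b2⟩ := permOf_sq a1
    obtain ⟨c1, c2⟩ := permOf_sq b1
    obtain ⟨d1, d2⟩ := permOf_sq c1
    rw [e, c2, b2, a2, permOf_tblOf, permOf_idT] at d2
    rw [d2, ← pow_mul, ← pow_mul, ← pow_mul]
    norm_num
  · intro h
    have h8 := hzg.2
    rw [h, Subgroup.mem_bot] at h8
    apply hz1
    rw [← tblOf_permOf hzg.1, h8, tblOf_one]
  · intro n hnG hn
    exact mem_of_normalizes ha hb hnd h3 hnG hn
  · intro T hT hTne hcl
    obtain ⟨⟨t, ht⟩, ht1⟩ := (Subgroup.ne_bot_iff_exists_ne_one).mp hTne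
    have ht1' : t ≠ 1 := fun h => ht1 (Subtype.ext h)
    have hTn : ∀ t ∈ T, ∀ s ∈ SL G C.lam, s * t * s⁻¹ ∈ T := by
      intro t ht s hs
      exact hcl t ht s hs.1 ((SL G C.lam).mul_mem ((SL G C.lam).mul_mem hs (hT ht))
        ((SL G C.lam).inv_mem hs))
    simp only [chk6, List.all_eq_true, Bool.or_eq_true, beq_iff_eq] at h6
    have hzT : Good T C.z := by
      rcases h6 _ (ha t (hT ht)) with h | h
      · exfalso; apply ht1'
        rw [← permOf_tblOf t, h, permOf_idT]
      · rw [← h]
        exact good_descend hTn (fun s hs => hinS s (hgs s hs)) 12 (good_tblOf ht)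
    have hD := good_runD hinG hinS hcl C.steps [C.z] (by
      intro a ha; rw [List.mem_singleton.1 ha]; exact hzT)
    simp only [chk7, List.all_eq_true, List.contains_eq_mem, decide_eq_true_eq] at h7
    have hP := good_prods (H := T) C.lv (fun a ha u hu => hD u (h7 a ha u hu))
    intro g hg
    have := (hP _ (ha g hg)).2
    rwa [permOf_tblOf] at this

end Cert

end Cfsg.Agent.Lib.Helper3.FusEnum
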