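import Cfsg.Agent.Lib.Helper3.FusEnum
import Cfsg.Agent.Lib.Helper3.AutM12c

/-!
# Table tests for the five Mathieu groups
-/

set_option autoImplicit false

namespace Cfsg.Agent.Lib.Helper3.FusGrp

open Cfsg Cfsg.Agent.Lib.Helper28 Cfsg.Agent.Lib.Helper3.M24T Cfsg.Agent.Lib.Helper3.M24Gen
  Cfsg.Agent.Lib.Helper3.FusEnum
open scoped Pointwise

def in23 (t : List ℕ) : Bool := inM24 t && t.getD 23 0 == 23
def in22 (t : List ℕ) : Bool := inM24 t && t.getD 23 0 == 23 && t.getD 0 0 == 0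
def in12 (t : List ℕ) : Bool := inM24 t && img t 340831 == 340831
def in11 (t : List ℕ) : Bool := inM24 t && img t 340831 == 340831 && t.getD 0 0 == 0

def col24 (_ : ℕ) : ℕ := 0
def col23 (y : ℕ) : ℕ := if y = 23 then 1 else 0
def col22 (y : ℕ) : ℕ := if y = 23 then 1 else if y = 0 then 2 else 0
def col12 (y : ℕ) : ℕ := (Nat.testBit 340831 y).toNat
def col11 (y : ℕ) : ℕ := if y = 0 then 2 else (Nat.testBit 340831 y).toNat

theorem fix_of_getD {t : List ℕ} (ht : isTbl t = true) {b : ℕ} (hb : b < 24) (h : t.getD b 0 = b) :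
    permOf t (ptOf b) = ptOf b := by
  rw [permOf_apply ht, idx_ptOf hb, h]

theorem good24 (t : List ℕ) (h : inM24 t = true) : Good M24 t := ⟨isTbl_of_inM24 h, permOf_mem_M24 h⟩

theorem mem_M23 {g : Equiv.Perm GolayPt} : g ∈ Spor.M23 ↔ g ∈ M24 ∧ g (ptOf 23) = ptOf 23 := by
  rw [← stabL_M23, mem_stabL]; simp

theorem mem_M22 {g : Equiv.Perm GolayPt} :
    g ∈ Spor.M22 ↔ g ∈ M24 ∧ g (ptOf 23) = ptOf 23 ∧ g (ptOf 0) = ptOf 0 := by
  rw [← stabL_M22, mem_stabL]; simp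

theorem mem_M12 {g : Equiv.Perm GolayPt} : g ∈ Spor.M12 ↔ g ∈ M24 ∧ g • un 340831 = un 340831 := by
  rw [AutM12.mem_M12_iff, AutM12.sq_eq]

theorem mem_M11 {g : Equiv.Perm GolayPt} :
    g ∈ Spor.M11 ↔ g ∈ M24 ∧ g • un 340831 = un 340831 ∧ g (ptOf 0) = ptOf 0 := by
  unfold Spor.M11
  rw [Subgroup.mem_inf, mem_M12, MulAction.mem_stabilizer_iff, ← ptOf_0, and_assoc]
  rfl

theorem good23 (t : List ℕ) (h : in23 t = true) : Good Spor.M23 t := by
  simp only [in23, Bool.and_eq_true, beq_iff_eq] at h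
  have h1 := good24 t h.1
  exact ⟨h1.1, mem_M23.2 ⟨h1.2, fix_of_getD h1.1 (by norm_num) h.2⟩⟩

theorem good22 (t : List ℕ) (h : in22 t = true) : Good Spor.M22 t := by
  simp only [in22, Bool.and_eq_true, beq_iff_eq] at h
  have h1 := good24 t h.1.1
  exact ⟨h1.1, mem_M22.2 ⟨h1.2, fix_of_getD h1.1 (by norm_num) h.1.2,
    fix_of_getD h1.1 (by norm_num) h.2⟩⟩

theorem good12 (t : List ℕ) (h : in12 t = true) : Good Spor.M12 t := by
  simp only [in12, Bool.and_eq_true, beq_iff_eq] at h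
  have h1 := good24 t h.1
  refine ⟨h1.1, mem_M12.2 ⟨h1.2, ?_⟩⟩
  rw [permOf_smul_un h1.1 (by norm_num), h.2]

theorem good11 (t : List ℕ) (h : in11 t = true) : Good Spor.M11 t := by
  simp only [in11, Bool.and_eq_true, beq_iff_eq] at h
  have h1 := good24 t h.1.1
  refine ⟨h1.1, mem_M11.2 ⟨h1.2, ?_, fix_of_getD h1.1 (by norm_num) h.2⟩⟩
  rw [permOf_smul_un h1.1 (by norm_num), h.1.2]

theorem idx_eq_iff {g : Equiv.Perm GolayPt} {b : ℕ} (hb : b < 24) (h : g (ptOf b) = ptOf b)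
    (x : GolayPt) : idx (g x) = b ↔ idx x = b := by
  constructor
  · intro e
    have : g x = g (ptOf b) := by rw [h, ← e, ptOf_idx]
    rw [g.injective this, idx_ptOf hb]
  · intro e
    have : x = ptOf b := by rw [← e, ptOf_idx]
    rw [this, h, idx_ptOf hb]

theorem testBit_eq {g : Equiv.Perm GolayPt} {m : ℕ} (h : g • un m = un m) (x : GolayPt) :
    m.testBit (idx (g x)) = m.testBit (idx x) := by
  have h1 : g x ∈ un m ↔ x ∈ un m := by
    conv_lhs => rw [← h]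
    exact mem_smul_finset_iff g _ _
  rw [mem_un, mem_un] at h1
  exact Bool.eq_iff_iff.mpr h1

theorem hcol24 : ∀ g ∈ M24, ∀ x, col24 (idx (g x)) = col24 (idx x) := fun _ _ _ => rfl

theorem hcol23 : ∀ g ∈ Spor.M23, ∀ x, col23 (idx (g x)) = col23 (idx x) := by
  intro g hg x
  unfold col23
  simp only [idx_eq_iff (by norm_num) (mem_M23.1 hg).2 x]

theorem hcol22 : ∀ g ∈ Spor.M22, ∀ x, col22 (idx (g x)) = col22 (idx x) := by
  intro g hg x
  unfold col22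
  simp only [idx_eq_iff (by norm_num) (mem_M22.1 hg).2.1 x, idx_eq_iff (by norm_num) (mem_M22.1 hg).2.2 x]

theorem hcol12 : ∀ g ∈ Spor.M12, ∀ x, col12 (idx (g x)) = col12 (idx x) := by
  intro g hg x
  unfold col12
  rw [testBit_eq (mem_M12.1 hg).2]

theorem hcol11 : ∀ g ∈ Spor.M11, ∀ x, col11 (idx (g x)) = col11 (idx x) := by
  intro g hg x
  unfold col11
  simp only [idx_eq_iff (by norm_num) (mem_M11.1 hg).2.2 x, testBit_eq (mem_M11.1 hg).2.1]

theorem base24 (g : Equiv.Perm GolayPt) (hg : g ∈ M24)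
    (h : ∀ b ∈ [23, 0, 1, 2, 3, 5, 4], g (ptOf b) = ptOf b) : g = 1 := by
  have : g ∈ stabL [23, 0, 1, 2, 3, 5, 4] := (mem_stabL _ _).2 ⟨hg, h⟩
  rwa [stab7_eq_bot, Subgroup.mem_bot] at this

theorem base12 (g : Equiv.Perm GolayPt) (hg : g ∈ Spor.M12)
    (h : ∀ b ∈ [0, 1, 2, 3, 4], g (ptOf b) = ptOf b) : g = 1 := by
  have h1 := (AutM12.mem_M12_iff g).1 hg
  apply Dod.eq_one_of_fixes AutM12.sq_dod ([0, 1, 2, 3, 4].map ptOf) (by simp) (by decide) _ h1.1 h1.2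
  · intro x hx
    obtain ⟨b, hb, rfl⟩ := List.mem_map.1 hx
    exact h b hb
  · rw [AutM12.sq_eq]
    decide +kernel

theorem M23_le : Spor.M23 ≤ M24 := fun _ h => (mem_M23.1 h).1
theorem M22_le : Spor.M22 ≤ M24 := fun _ h => (mem_M22.1 h).1
theorem M11_le : Spor.M11 ≤ Spor.M12 := fun _ h => mem_M12.2 ⟨(mem_M11.1 h).1, (mem_M11.1 h).2.1⟩

end Cfsg.Agent.Lib.Helper3.FusGrp
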