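import Cfsg.Agent.Lib.Helper3.FusGrp

set_option autoImplicit false
set_option maxRecDepth 1000000

namespace Cfsg.Agent.Lib.Helper3.FusM12

open Cfsg Cfsg.Agent.Lib.Helper28 Cfsg.Agent.Lib.Helper3.M24T Cfsg.Agent.Lib.Helper3.M24Gen
  Cfsg.Agent.Lib.Helper3.FusEnum

def lam : List (List ℕ) :=
  [[16, 16, 8, 8, 2, 4, 2, 2, 2, 2, 2, 2, 2, 2, 4, 2, 2, 4, 2, 2, 2, 2, 2, 4],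
   [16, 16, 8, 8, 2, 4, 2, 2, 2, 2, 2, 2, 2, 2, 4, 2, 2, 4, 2, 2, 2, 2, 2, 4],
   [8, 8, 16, 16, 2, 4, 2, 2, 2, 2, 2, 2, 2, 2, 4, 2, 2, 4, 2, 2, 2, 2, 2, 4],
   [8, 8, 16, 16, 2, 4, 2, 2, 2, 2, 2, 2, 2, 2, 4, 2, 2, 4, 2, 2, 2, 2, 2, 4],
   [2, 2, 2, 2, 8, 2, 4, 4, 2, 4, 4, 4, 8, 2, 2, 2, 2, 2, 2, 2, 2, 2, 4, 2],
   [4, 4, 4, 4, 2, 16, 2, 2, 2, 2, 2, 2, 2, 2, 16, 2, 2, 8, 2, 2, 2, 2, 2, 8],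
   [2, 2, 2, 2, 4, 2, 8, 4, 2, 8, 4, 4, 4, 2, 2, 2, 2, 2, 2, 2, 2, 2, 4, 2],
   [2, 2, 2, 2, 4, 2, 4, 8, 2, 4, 8, 4, 4, 2, 2, 2, 2, 2, 2, 2, 2, 2, 4, 2],
   [2, 2, 2, 2, 2, 2, 2, 2, 8, 2, 2, 2, 2, 4, 2, 4, 8, 2, 4, 4, 4, 4, 2, 2],
   [2, 2, 2, 2, 4, 2, 8, 4, 2, 8, 4, 4, 4, 2, 2, 2, 2, 2, 2, 2, 2, 2, 4, 2],
   [2, 2, 2, 2, 4, 2, 4, 8, 2, 4, 8, 4, 4, 2, 2, 2, 2, 2, 2, 2, 2, 2, 4, 2],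
   [2, 2, 2, 2, 4, 2, 4, 4, 2, 4, 4, 8, 4, 2, 2, 2, 2, 2, 2, 2, 2, 2, 8, 2],
   [2, 2, 2, 2, 8, 2, 4, 4, 2, 4, 4, 4, 8, 2, 2, 2, 2, 2, 2, 2, 2, 2, 4, 2],
   [2, 2, 2, 2, 2, 2, 2, 2, 4, 2, 2, 2, 2, 8, 2, 4, 4, 2, 8, 4, 4, 4, 2, 2],
   [4, 4, 4, 4, 2, 16, 2, 2, 2, 2, 2, 2, 2, 2, 16, 2, 2, 8, 2, 2, 2, 2, 2, 8],
   [2, 2, 2, 2, 2, 2, 2, 2, 4, 2, 2, 2, 2, 4, 2, 8, 4, 2, 4, 8, 4, 4, 2, 2],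
   [2, 2, 2, 2, 2, 2, 2, 2, 8, 2, 2, 2, 2, 4, 2, 4, 8, 2, 4, 4, 4, 4, 2, 2],
   [4, 4, 4, 4, 2, 8, 2, 2, 2, 2, 2, 2, 2, 2, 8, 2, 2, 16, 2, 2, 2, 2, 2, 16],
   [2, 2, 2, 2, 2, 2, 2, 2, 4, 2, 2, 2, 2, 8, 2, 4, 4, 2, 8, 4, 4, 4, 2, 2],
   [2, 2, 2, 2, 2, 2, 2, 2, 4, 2, 2, 2, 2, 4, 2, 8, 4, 2, 4, 8, 4, 4, 2, 2],
   [2, 2, 2, 2, 2, 2, 2, 2, 4, 2, 2, 2, 2, 4, 2, 4, 4, 2, 4, 4, 8, 8, 2, 2],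
   [2, 2, 2, 2, 2, 2, 2, 2, 4, 2, 2, 2, 2, 4, 2, 4, 4, 2, 4, 4, 8, 8, 2, 2],
   [2, 2, 2, 2, 4, 2, 4, 4, 2, 4, 4, 8, 4, 2, 2, 2, 2, 2, 2, 2, 2, 2, 8, 2],
   [4, 4, 4, 4, 2, 8, 2, 2, 2, 2, 2, 2, 2, 2, 8, 2, 2, 16, 2, 2, 2, 2, 2, 16]]

def lv : List (ℕ × List (List ℕ)) :=
  [(0, [[0, 1, 2, 3, 4, 5, 6, 7, 8, 9, 10, 11, 12, 13, 14, 15, 16, 17, 18, 19, 20, 21, 22, 23],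
     [1, 0, 2, 3, 4, 14, 9, 10, 18, 6, 7, 11, 12, 16, 5, 21, 13, 17, 8, 20, 19, 15, 22, 23],
     [2, 3, 0, 1, 4, 17, 9, 7, 8, 6, 10, 22, 12, 18, 23, 15, 16, 5, 13, 19, 21, 20, 11, 14],
     [3, 2, 0, 1, 4, 23, 6, 10, 13, 9, 7, 22, 12, 16, 17, 20, 18, 5, 8, 21, 19, 15, 11, 14]]),
   (1, [[0, 1, 2, 3, 4, 5, 6, 7, 8, 9, 10, 11, 12, 13, 14, 15, 16, 17, 18, 19, 20, 21, 22, 23]]),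
   (2, [[0, 1, 2, 3, 4, 5, 6, 7, 8, 9, 10, 11, 12, 13, 14, 15, 16, 17, 18, 19, 20, 21, 22, 23],
     [0, 1, 3, 2, 4, 5, 9, 10, 13, 6, 7, 11, 12, 8, 14, 20, 18, 23, 16, 21, 15, 19, 22, 17]]),
   (3, [[0, 1, 2, 3, 4, 5, 6, 7, 8, 9, 10, 11, 12, 13, 14, 15, 16, 17, 18, 19, 20, 21, 22, 23]]),
   (4, [[0, 1, 2, 3, 4, 5, 6, 7, 8, 9, 10, 11, 12, 13, 14, 15, 16, 17, 18, 19, 20, 21, 22, 23],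
     [0, 1, 2, 3, 6, 14, 12, 22, 13, 4, 11, 7, 9, 16, 5, 21, 18, 23, 8, 20, 15, 19, 10, 17],
     [0, 1, 2, 3, 8, 17, 18, 15, 12, 13, 19, 21, 16, 6, 23, 10, 4, 5, 9, 7, 11, 22, 20, 14],
     [0, 1, 2, 3, 9, 14, 4, 11, 18, 12, 22, 10, 6, 8, 5, 20, 13, 23, 16, 21, 19, 15, 7, 17],
     [0, 1, 2, 3, 12, 5, 9, 10, 16, 6, 7, 22, 4, 18, 14, 19, 8, 17, 13, 15, 21, 20, 11, 23],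
     [0, 1, 2, 3, 13, 23, 8, 21, 9, 16, 20, 19, 18, 12, 17, 11, 6, 14, 4, 22, 7, 10, 15, 5],
     [0, 1, 2, 3, 16, 17, 13, 19, 4, 18, 15, 20, 8, 9, 23, 7, 12, 5, 6, 10, 22, 11, 21, 14],
     [0, 1, 2, 3, 18, 23, 16, 20, 6, 8, 21, 15, 13, 4, 17, 22, 9, 14, 12, 11, 10, 7, 19, 5]])]

def gs : List (List ℕ) :=
  [[1, 0, 2, 3, 16, 23, 18, 15, 6, 13, 19, 20, 8, 12, 17, 11, 9, 5, 4, 22, 10, 7, 21, 14],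
   [0, 1, 3, 2, 12, 5, 6, 7, 18, 9, 10, 22, 4, 16, 14, 21, 13, 23, 8, 20, 19, 15, 11, 17],
   [3, 2, 0, 1, 12, 23, 9, 7, 18, 6, 10, 11, 4, 8, 17, 21, 13, 5, 16, 20, 15, 19, 22, 14]]

def z : List ℕ := [0, 1, 2, 3, 12, 5, 9, 10, 16, 6, 7, 22, 4, 18, 14, 19, 8, 17, 13, 15, 21, 20, 11, 23]

def steps : List (List ℕ × List ℕ × ℕ × ℕ) :=
  [([1, 4, 0, 12, 8, 14, 3, 19, 18, 2, 21, 7, 13, 9, 22, 15, 16, 5, 6, 20, 17, 23, 10, 11], [0, 1, 3, 2, 4, 5, 9, 10, 13, 6, 7, 11, 12, 8, 14, 20, 18, 23, 16, 21, 15, 19, 22, 17], 0, 0),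
   ([1, 13, 18, 0, 4, 23, 16, 7, 3, 8, 11, 5, 6, 12, 19, 21, 2, 15, 9, 20, 10, 22, 14, 17], [0, 1, 3, 2, 6, 14, 4, 11, 16, 12, 22, 7, 9, 13, 5, 15, 8, 17, 18, 19, 21, 20, 10, 23], 0, 0),
   ([12, 2, 4, 3, 9, 23, 13, 5, 0, 16, 14, 21, 6, 8, 11, 7, 1, 17, 18, 10, 20, 19, 15, 22], [1, 0, 2, 3, 4, 14, 9, 10, 18, 6, 7, 11, 12, 16, 5, 21, 13, 17, 8, 20, 19, 15, 22, 23], 0, 0),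
   ([8, 16, 4, 12, 13, 15, 9, 22, 2, 6, 11, 21, 18, 3, 19, 5, 0, 10, 1, 17, 14, 23, 20, 7], [2, 3, 0, 1, 4, 17, 9, 7, 8, 6, 10, 22, 12, 18, 23, 15, 16, 5, 13, 19, 21, 20, 11, 14], 0, 0),
   ([], [], 4, 1),
   ([], [], 5, 2),
   ([8, 16, 4, 12, 13, 15, 9, 22, 2, 6, 11, 21, 18, 3, 19, 5, 0, 10, 1, 17, 14, 23, 20, 7], [1, 0, 3, 2, 8, 23, 18, 15, 4, 13, 19, 21, 16, 9, 17, 7, 12, 14, 6, 10, 22, 11, 20, 5], 6, 0),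
   ([], [], 7, 7),
   ([], [], 4, 3),
   ([], [], 6, 4),
   ([], [], 7, 1),
   ([], [], 11, 3),
   ([], [], 4, 6),
   ([], [], 7, 3),
   ([], [], 14, 2),
   ([], [], 3, 1),
   ([], [], 16, 7),
   ([], [], 7, 2),
   ([], [], 18, 3)]

def C : Cert FusGrp.in12 FusGrp.col12 := ⟨lam, lv, gs, z, steps⟩

theorem c1 : C.chk1 = true := by decide +kernel
theorem c2 : C.chk2 = true := by decide +kernel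
theorem c3 : C.chk3 = true := by decide +kernel
theorem c4 : C.chk4 = true := by decide +kernel
theorem c5 : C.chk5 = true := by decide +kernel
theorem c6 : C.chk6 = true := by decide +kernel
theorem c7 : C.chk7 = true := by decide +kernel

end Cfsg.Agent.Lib.Helper3.FusM12
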