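import Cfsg.Agent.Lib.Helper3.FusGrp

set_option autoImplicit false
set_option maxRecDepth 1000000

namespace Cfsg.Agent.Lib.Helper3.FusM23

open Cfsg Cfsg.Agent.Lib.Helper28 Cfsg.Agent.Lib.Helper3.M24T Cfsg.Agent.Lib.Helper3.M24Gen
  Cfsg.Agent.Lib.Helper3.FusEnum

def lam : List (List ℕ) :=
  [[128, 64, 64, 32, 8, 32, 8, 8, 8, 8, 8, 8, 8, 8, 32, 8, 8, 32, 8, 8, 8, 8, 8, 128],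
   [64, 64, 64, 16, 4, 16, 4, 4, 4, 4, 4, 4, 4, 4, 16, 4, 4, 16, 4, 4, 4, 4, 4, 64],
   [64, 64, 64, 16, 4, 16, 4, 4, 4, 4, 4, 4, 4, 4, 16, 4, 4, 16, 4, 4, 4, 4, 4, 64],
   [32, 16, 16, 32, 2, 32, 2, 2, 2, 2, 2, 2, 2, 2, 16, 2, 2, 16, 2, 2, 2, 2, 2, 32],
   [8, 4, 4, 2, 8, 2, 1, 1, 2, 1, 1, 2, 2, 8, 2, 1, 4, 2, 2, 1, 1, 1, 4, 8],
   [32, 16, 16, 32, 2, 32, 2, 2, 2, 2, 2, 2, 2, 2, 16, 2, 2, 16, 2, 2, 2, 2, 2, 32],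
   [8, 4, 4, 2, 1, 2, 8, 4, 1, 2, 2, 1, 1, 1, 2, 2, 1, 2, 1, 8, 2, 4, 1, 8],
   [8, 4, 4, 2, 1, 2, 4, 8, 1, 2, 2, 1, 1, 1, 2, 2, 1, 2, 1, 4, 2, 8, 1, 8],
   [8, 4, 4, 2, 2, 2, 1, 1, 8, 1, 1, 8, 4, 2, 2, 1, 2, 2, 4, 1, 1, 1, 2, 8],
   [8, 4, 4, 2, 1, 2, 2, 2, 1, 8, 4, 1, 1, 1, 2, 8, 1, 2, 1, 2, 4, 2, 1, 8],
   [8, 4, 4, 2, 1, 2, 2, 2, 1, 4, 8, 1, 1, 1, 2, 4, 1, 2, 1, 2, 8, 2, 1, 8],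
   [8, 4, 4, 2, 2, 2, 1, 1, 8, 1, 1, 8, 4, 2, 2, 1, 2, 2, 4, 1, 1, 1, 2, 8],
   [8, 4, 4, 2, 2, 2, 1, 1, 4, 1, 1, 4, 8, 2, 2, 1, 2, 2, 8, 1, 1, 1, 2, 8],
   [8, 4, 4, 2, 8, 2, 1, 1, 2, 1, 1, 2, 2, 8, 2, 1, 4, 2, 2, 1, 1, 1, 4, 8],
   [32, 16, 16, 16, 2, 16, 2, 2, 2, 2, 2, 2, 2, 2, 32, 2, 2, 32, 2, 2, 2, 2, 2, 32],
   [8, 4, 4, 2, 1, 2, 2, 2, 1, 8, 4, 1, 1, 1, 2, 8, 1, 2, 1, 2, 4, 2, 1, 8],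
   [8, 4, 4, 2, 4, 2, 1, 1, 2, 1, 1, 2, 2, 4, 2, 1, 8, 2, 2, 1, 1, 1, 8, 8],
   [32, 16, 16, 16, 2, 16, 2, 2, 2, 2, 2, 2, 2, 2, 32, 2, 2, 32, 2, 2, 2, 2, 2, 32],
   [8, 4, 4, 2, 2, 2, 1, 1, 4, 1, 1, 4, 8, 2, 2, 1, 2, 2, 8, 1, 1, 1, 2, 8],
   [8, 4, 4, 2, 1, 2, 8, 4, 1, 2, 2, 1, 1, 1, 2, 2, 1, 2, 1, 8, 2, 4, 1, 8],
   [8, 4, 4, 2, 1, 2, 2, 2, 1, 4, 8, 1, 1, 1, 2, 4, 1, 2, 1, 2, 8, 2, 1, 8],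
   [8, 4, 4, 2, 1, 2, 4, 8, 1, 2, 2, 1, 1, 1, 2, 2, 1, 2, 1, 4, 2, 8, 1, 8],
   [8, 4, 4, 2, 4, 2, 1, 1, 2, 1, 1, 2, 2, 4, 2, 1, 8, 2, 2, 1, 1, 1, 8, 8],
   [128, 64, 64, 32, 8, 32, 8, 8, 8, 8, 8, 8, 8, 8, 32, 8, 8, 32, 8, 8, 8, 8, 8, 128]]

def lv : List (ℕ × List (List ℕ)) :=
  [(23, [[0, 1, 2, 3, 4, 5, 6, 7, 8, 9, 10, 11, 12, 13, 14, 15, 16, 17, 18, 19, 20, 21, 22, 23]]),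
   (0, [[0, 1, 2, 3, 4, 5, 6, 7, 8, 9, 10, 11, 12, 13, 14, 15, 16, 17, 18, 19, 20, 21, 22, 23]]),
   (1, [[0, 1, 2, 3, 4, 5, 6, 7, 8, 9, 10, 11, 12, 13, 14, 15, 16, 17, 18, 19, 20, 21, 22, 23],
     [0, 2, 1, 3, 4, 5, 15, 10, 11, 19, 7, 8, 12, 13, 17, 6, 22, 14, 18, 9, 21, 20, 16, 23]]),
   (2, [[0, 1, 2, 3, 4, 5, 6, 7, 8, 9, 10, 11, 12, 13, 14, 15, 16, 17, 18, 19, 20, 21, 22, 23]]),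
   (3, [[0, 1, 2, 3, 4, 5, 6, 7, 8, 9, 10, 11, 12, 13, 14, 15, 16, 17, 18, 19, 20, 21, 22, 23],
     [0, 1, 2, 5, 4, 3, 21, 19, 11, 10, 9, 8, 18, 13, 17, 20, 16, 14, 12, 7, 15, 6, 22, 23],
     [0, 1, 2, 14, 4, 17, 7, 6, 12, 15, 20, 18, 8, 13, 3, 9, 16, 5, 11, 21, 10, 19, 22, 23],
     [0, 1, 2, 17, 4, 14, 19, 21, 18, 20, 15, 12, 11, 13, 5, 10, 16, 3, 8, 6, 9, 7, 22, 23]]),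
   (5, [[0, 1, 2, 3, 4, 5, 6, 7, 8, 9, 10, 11, 12, 13, 14, 15, 16, 17, 18, 19, 20, 21, 22, 23]]),
   (4, [[0, 1, 2, 3, 4, 5, 6, 7, 8, 9, 10, 11, 12, 13, 14, 15, 16, 17, 18, 19, 20, 21, 22, 23],
     [0, 1, 2, 3, 6, 5, 4, 22, 20, 12, 11, 10, 9, 19, 14, 18, 21, 17, 15, 13, 8, 16, 7, 23],
     [0, 1, 2, 3, 7, 5, 22, 4, 15, 11, 12, 9, 10, 21, 14, 8, 19, 17, 20, 16, 18, 13, 6, 23],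
     [0, 1, 2, 3, 8, 5, 20, 15, 4, 21, 19, 13, 16, 11, 14, 7, 12, 17, 22, 10, 6, 9, 18, 23],
     [0, 1, 2, 3, 9, 5, 12, 11, 21, 4, 22, 7, 6, 15, 14, 13, 20, 17, 19, 18, 16, 8, 10, 23],
     [0, 1, 2, 3, 10, 5, 11, 12, 19, 22, 4, 6, 7, 20, 14, 16, 15, 17, 21, 8, 13, 18, 9, 23],
     [0, 1, 2, 3, 11, 5, 10, 9, 13, 7, 6, 4, 22, 8, 14, 21, 18, 17, 16, 20, 19, 15, 12, 23],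
     [0, 1, 2, 3, 12, 5, 9, 10, 16, 6, 7, 22, 4, 18, 14, 19, 8, 17, 13, 15, 21, 20, 11, 23],
     [0, 1, 2, 3, 13, 5, 19, 21, 11, 15, 20, 8, 18, 4, 14, 9, 22, 17, 12, 6, 10, 7, 16, 23],
     [0, 1, 2, 3, 15, 5, 18, 8, 7, 13, 16, 21, 19, 9, 14, 4, 10, 17, 6, 12, 22, 11, 20, 23],
     [0, 1, 2, 3, 16, 5, 21, 19, 12, 20, 15, 18, 8, 22, 14, 10, 4, 17, 11, 7, 9, 6, 13, 23],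
     [0, 1, 2, 3, 18, 5, 15, 20, 22, 19, 21, 16, 13, 12, 14, 6, 11, 17, 4, 9, 7, 10, 8, 23],
     [0, 1, 2, 3, 19, 5, 13, 16, 10, 18, 8, 20, 15, 6, 14, 12, 7, 17, 9, 4, 11, 22, 21, 23],
     [0, 1, 2, 3, 20, 5, 8, 18, 6, 16, 13, 19, 21, 10, 14, 22, 9, 17, 7, 11, 4, 12, 15, 23],
     [0, 1, 2, 3, 21, 5, 16, 13, 9, 8, 18, 15, 20, 7, 14, 11, 6, 17, 10, 22, 12, 4, 19, 23],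
     [0, 1, 2, 3, 22, 5, 7, 6, 18, 10, 9, 12, 11, 16, 14, 20, 13, 17, 8, 21, 15, 19, 4, 23]])]

def gs : List (List ℕ) :=
  [[0, 1, 2, 3, 21, 5, 16, 13, 9, 8, 18, 15, 20, 7, 14, 11, 6, 17, 10, 22, 12, 4, 19, 23],
   [0, 1, 2, 14, 21, 17, 13, 16, 20, 11, 12, 10, 9, 7, 3, 8, 6, 5, 15, 4, 18, 22, 19, 23],
   [0, 2, 1, 3, 12, 5, 19, 7, 22, 15, 10, 16, 4, 18, 17, 9, 11, 14, 13, 6, 20, 21, 8, 23]]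

def z : List ℕ := [0, 1, 2, 3, 13, 5, 19, 21, 11, 15, 20, 8, 18, 4, 14, 9, 22, 17, 12, 6, 10, 7, 16, 23]

def steps : List (List ℕ × List ℕ × ℕ × ℕ) :=
  [([0, 1, 17, 2, 19, 5, 4, 12, 16, 11, 22, 21, 20, 13, 14, 10, 18, 3, 8, 6, 7, 9, 15, 23], [0, 1, 2, 3, 6, 5, 4, 22, 20, 12, 11, 10, 9, 19, 14, 18, 21, 17, 15, 13, 8, 16, 7, 23], 0, 0),
   ([0, 5, 1, 2, 7, 17, 10, 16, 6, 21, 11, 22, 20, 4, 14, 13, 15, 3, 18, 12, 9, 19, 8, 23], [0, 1, 2, 3, 7, 5, 22, 4, 15, 11, 12, 9, 10, 21, 14, 8, 19, 17, 20, 16, 18, 13, 6, 23], 0, 0),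
   ([0, 14, 17, 3, 7, 2, 20, 10, 8, 12, 18, 4, 13, 15, 5, 16, 9, 1, 11, 6, 22, 19, 21, 23], [0, 1, 2, 3, 8, 5, 20, 15, 4, 21, 19, 13, 16, 11, 14, 7, 12, 17, 22, 10, 6, 9, 18, 23], 0, 0),
   ([0, 4, 13, 1, 19, 2, 5, 12, 15, 17, 8, 20, 21, 7, 16, 14, 9, 22, 6, 3, 11, 18, 10, 23], [0, 1, 2, 5, 4, 3, 21, 19, 11, 10, 9, 8, 18, 13, 17, 20, 16, 14, 12, 7, 15, 6, 22, 23], 0, 0),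
   ([0, 2, 1, 4, 3, 22, 15, 10, 19, 11, 12, 21, 7, 14, 16, 18, 5, 13, 6, 9, 8, 20, 17, 23], [0, 1, 2, 14, 4, 17, 7, 6, 12, 15, 20, 18, 8, 13, 3, 9, 16, 5, 11, 21, 10, 19, 22, 23], 0, 0),
   ([0, 12, 18, 4, 6, 13, 14, 22, 19, 8, 2, 9, 21, 15, 3, 11, 10, 5, 20, 17, 1, 16, 7, 23], [0, 2, 1, 3, 4, 5, 15, 10, 11, 19, 7, 8, 12, 13, 17, 6, 22, 14, 18, 9, 21, 20, 16, 23], 0, 0),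
   ([], [], 1, 1),
   ([], [], 5, 4),
   ([], [], 2, 0),
   ([], [], 9, 3),
   ([], [], 1, 0),
   ([], [], 11, 3),
   ([], [], 0, 3),
   ([], [], 5, 3),
   ([], [], 14, 5),
   ([], [], 2, 3),
   ([], [], 11, 2),
   ([], [], 1, 2),
   ([], [], 18, 3),
   ([], [], 1, 3)]

def C : Cert FusGrp.in23 FusGrp.col23 := ⟨lam, lv, gs, z, steps⟩

theorem c1 : C.chk1 = true := by decide +kernel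
theorem c2 : C.chk2 = true := by decide +kernel
theorem c3 : C.chk3 = true := by decide +kernel
theorem c4 : C.chk4 = true := by decide +kernel
theorem c5 : C.chk5 = true := by decide +kernel
theorem c6 : C.chk6 = true := by decide +kernel
theorem c7 : C.chk7 = true := by decide +kernel

end Cfsg.Agent.Lib.Helper3.FusM23
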