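import Mathlib
import Cfsg.Agent.Lib.Helper3.M24Tools

/-!
# `M24` is generated by `x ↦ x + 1`, `x ↦ -1/x` and the cube twist (straight-line programs on tables)
-/

set_option autoImplicit false

namespace Cfsg.Agent.Lib.Helper3.M24Gen

open MulAction Subgroup Cfsg Cfsg.Agent.Lib.Helper28 Cfsg.Agent.Lib.Helper3.M24T

/-- composition of tables -/
def comp (a b : List ℕ) : List ℕ := b.map (fun j => a.getD j 0)

theorem tblOf_mul (g h : Equiv.Perm GolayPt) : tblOf (g * h) = comp (tblOf g) (tblOf h) := by
  show (List.range 24).map (fun i => idx ((g * h) (ptOf i))) =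
    ((List.range 24).map (fun i => idx (h (ptOf i)))).map (fun j => (tblOf g).getD j 0)
  rw [List.map_map]
  apply List.map_congr_left
  intro i _
  simp only [Function.comp]
  rw [getD_tblOf g (idx_lt _), ptOf_idx]
  rfl

theorem permOf_comp {a b : List ℕ} (ha : isTbl a = true) (hb : isTbl b = true) :
    isTbl (comp a b) = true ∧ permOf (comp a b) = permOf a * permOf b := by
  have h : comp a b = tblOf (permOf a * permOf b) := by
    rw [tblOf_mul, tblOf_permOf ha, tblOf_permOf hb]
  rw [h]
  exact ⟨isTbl_tblOf _, permOf_tblOf _⟩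

/-- run a straight-line program: each instruction appends the product of two earlier tables -/
def runSLP : List (ℕ × ℕ) → List (List ℕ) → List (List ℕ)
  | [], acc => acc
  | (i, j) :: r, acc =>
    match acc[i]?, acc[j]? with
    | some a, some b => runSLP r (acc ++ [comp a b])
    | _, _ => acc

theorem runSLP_good (H : Subgroup (Equiv.Perm GolayPt)) (prog : List (ℕ × ℕ))
    (acc : List (List ℕ)) (h : ∀ t ∈ acc, isTbl t = true ∧ permOf t ∈ H) :
    ∀ t ∈ runSLP prog acc, isTbl t = true ∧ permOf t ∈ H := by
  induction prog generalizing acc with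
  | nil => exact h
  | cons ij r ih =>
    obtain ⟨i, j⟩ := ij
    unfold runSLP
    split
    · rename_i a b ha hb
      apply ih
      intro t ht
      rcases List.mem_append.1 ht with ht | ht
      · exact h t ht
      · rw [List.mem_singleton.1 ht]
        have ha' := h a (List.mem_of_getElem? ha)
        have hb' := h b (List.mem_of_getElem? hb)
        obtain ⟨h1, h2⟩ := permOf_comp ha'.1 hb'.1
        exact ⟨h1, h2 ▸ H.mul_mem ha'.2 hb'.2⟩
    · exact h

def tA : List ℕ := [1, 2, 3, 4, 5, 6, 7, 8, 9, 10, 11, 12, 13, 14, 15, 16, 17, 18, 19, 20, 21, 22, 0, 23]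
def tG : List ℕ := [23, 22, 11, 15, 17, 9, 19, 13, 20, 5, 16, 2, 21, 7, 18, 3, 10, 4, 14, 6, 8, 12, 1, 0]
def tD : List ℕ := [0, 18, 6, 3, 2, 21, 1, 5, 16, 12, 7, 19, 8, 9, 17, 15, 13, 11, 4, 22, 10, 20, 14, 23]

theorem tblOf_A : tblOf (Equiv.optionCongr (Equiv.addRight (1 : ZMod 23))) = tA := by decide +kernel
theorem tblOf_G : tblOf projInv = tG := by decide +kernel
theorem tblOf_D : tblOf cubeTwist = tD := by decide +kernel

/-- the straight-line program producing all transversal elements -/
def prog : List (ℕ × ℕ) :=
  [(0, 0), (3, 3), (3, 4), (4, 4), (6, 6), (5, 7), (2, 2), (9, 9), (0, 8), (0, 1), (1, 8), (0, 12),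
   (13, 8), (1, 12), (2, 12), (13, 10), (0, 14), (15, 8), (2, 14), (0, 17), (18, 8), (0, 22),
   (23, 8), (2, 24), (8, 8), (3, 2), (10, 27), (28, 0), (8, 29), (30, 30), (30, 12), (0, 24),
   (24, 0), (8, 25), (35, 1), (1, 36), (15, 37), (38, 14), (30, 39), (40, 31), (30, 41), (42, 31),
   (39, 1), (2, 45), (37, 2), (10, 38), (10, 10), (2, 30), (31, 10), (2, 50), (51, 10), (47, 1),
   (1, 48), (54, 0), (8, 55), (56, 0), (8, 57), (25, 58), (59, 24), (53, 60), (61, 52), (10, 62),
   (63, 2), (64, 64), (65, 65), (64, 2), (10, 65), (2, 68), (64, 68), (64, 10), (2, 65), (2, 72),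
   (73, 10), (64, 30), (31, 65), (64, 39), (40, 65), (64, 24), (64, 45), (64, 14), (15, 65),
   (58, 1), (1, 59), (84, 0), (8, 85), (86, 1), (1, 87), (83, 88), (89, 82), (44, 90), (91, 43),
   (75, 92), (93, 74), (94, 64), (64, 94), (94, 94), (95, 95), (67, 95), (100, 65), (94, 2),
   (10, 95), (94, 9), (49, 95), (94, 104), (105, 95), (94, 30), (94, 50), (51, 95), (94, 24),
   (25, 95), (86, 2), (10, 87), (113, 0), (8, 114), (112, 115), (116, 111), (42, 117), (118, 41),
   (107, 119), (120, 106), (94, 121), (122, 95), (123, 123), (124, 124), (123, 64), (123, 94),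
   (123, 66), (67, 124), (123, 96), (64, 127), (123, 2), (123, 9), (123, 68), (69, 124), (123, 30),
   (123, 24), (115, 2), (10, 116), (112, 139), (140, 111), (42, 141), (142, 41), (136, 143),
   (144, 135), (66, 145), (146, 67), (147, 123), (124, 148), (147, 147), (147, 64), (147, 66),
   (67, 148), (99, 148), (147, 2), (103, 148), (147, 133), (147, 30), (147, 39), (39, 160),
   (147, 24), (25, 148), (147, 45), (139, 2), (10, 140), (165, 0), (8, 166), (167, 2), (10, 168),
   (112, 169), (79, 171), (69, 172), (101, 173), (150, 174), (175, 97), (175, 2), (175, 30),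
   (175, 32), (175, 24), (169, 0), (8, 170), (181, 1), (1, 182), (183, 0), (8, 184), (20, 185),
   (186, 19), (77, 187), (188, 76), (9, 189), (190, 49), (130, 191), (192, 129), (125, 193),
   (194, 126), (195, 123), (124, 196), (195, 125), (123, 197), (147, 197), (198, 148), (195, 197),
   (195, 94), (195, 2), (195, 68), (94, 205), (195, 39), (40, 196), (195, 32), (195, 45), (185, 0),
   (212, 0), (213, 2), (20, 214), (209, 215), (2, 216), (155, 217), (202, 218), (219, 175),
   (219, 123), (219, 64), (123, 222), (219, 2), (219, 9), (219, 30), (214, 2), (227, 0), (228, 1),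
   (110, 229), (157, 230), (154, 231), (126, 232), (196, 233), (234, 175), (234, 219), (234, 220),
   (234, 123), (234, 147), (234, 125), (147, 238), (123, 239), (234, 94), (234, 2), (234, 68),
   (234, 50), (229, 2), (247, 0), (248, 1), (163, 249), (49, 250), (66, 251), (241, 252),
   (196, 253), (254, 175), (254, 219), (254, 234), (254, 220), (254, 235), (254, 236), (254, 237),
   (254, 123), (254, 147), (254, 221), (147, 262), (254, 64), (147, 266), (254, 30), (254, 32),
   (254, 24), (254, 16), (19, 226), (272, 128), (273, 264), (274, 234), (162, 207), (276, 94),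
   (277, 199), (278, 196), (279, 255), (211, 49), (281, 204), (282, 257), (21, 137), (284, 68),
   (285, 64), (286, 203), (287, 195), (288, 234), (164, 32), (290, 133), (291, 98), (292, 197),
   (293, 196), (294, 256), (33, 159), (296, 9), (297, 94), (298, 265), (299, 257), (270, 41),
   (301, 156), (302, 132), (303, 123), (304, 196), (305, 261), (26, 41), (307, 205), (308, 96),
   (309, 238), (310, 254), (180, 41), (312, 205), (313, 152), (314, 240), (315, 235), (138, 39),
   (317, 127), (318, 200), (319, 196), (320, 237), (271, 161), (322, 206), (323, 176), (324, 264),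
   (325, 195), (326, 234), (45, 104), (328, 267), (329, 123), (330, 195), (331, 260), (80, 206),
   (333, 132), (334, 151), (335, 196), (81, 245), (337, 64), (338, 149), (339, 195), (340, 255),
   (46, 32), (342, 133), (343, 67), (344, 242), (345, 195), (346, 254), (17, 268), (348, 9),
   (349, 152), (350, 125), (351, 196), (352, 236), (111, 70), (354, 67), (355, 239), (356, 195),
   (357, 236), (24, 245), (359, 222), (360, 151), (361, 195), (362, 234), (34, 245), (364, 222),
   (365, 151), (366, 195), (367, 234), (109, 71), (369, 127), (370, 221), (371, 257), (159, 49),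
   (373, 97), (374, 240), (375, 196), (376, 175), (208, 2), (378, 267), (379, 262), (380, 196),
   (381, 219), (246, 177), (383, 67), (384, 242), (385, 196), (386, 261), (160, 156), (388, 98),
   (389, 239), (390, 237), (226, 102), (392, 132), (393, 125), (394, 196), (395, 259), (268, 224),
   (397, 97), (398, 147), (399, 236), (50, 70), (401, 131), (402, 147), (403, 196), (404, 236),
   (178, 70), (406, 96), (407, 262), (408, 196), (409, 257), (137, 102), (411, 127), (412, 199),
   (413, 195), (414, 256), (269, 49), (416, 128), (417, 147), (418, 237), (39, 205), (420, 67),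
   (421, 199), (422, 256), (76, 205), (424, 204), (425, 238), (426, 196), (427, 256), (78, 71),
   (429, 152), (430, 151), (431, 196), (432, 257), (41, 135), (434, 222), (435, 147), (436, 260),
   (210, 2), (438, 94), (439, 242), (440, 196), (441, 219), (108, 177), (443, 267), (444, 199),
   (445, 195), (446, 255), (30, 102), (448, 266), (449, 238), (450, 195), (451, 234), (179, 156),
   (453, 66), (454, 195), (455, 259), (32, 244), (457, 128), (458, 238), (459, 195), (460, 260),
   (49, 128), (462, 264), (463, 196), (464, 261), (133, 222), (466, 239), (467, 196), (468, 256),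
   (9, 131), (470, 200), (471, 195), (472, 235), (135, 223), (474, 199), (475, 254), (225, 153),
   (477, 263), (478, 195), (479, 255), (206, 64), (481, 199), (482, 195), (483, 237), (70, 153),
   (485, 151), (486, 195), (487, 234), (177, 67), (489, 125), (490, 236), (102, 203), (492, 195),
   (493, 255), (156, 97), (495, 200), (496, 196), (497, 255), (68, 267), (499, 242), (500, 196),
   (501, 260), (104, 67), (503, 239), (504, 196), (505, 237), (71, 96), (507, 242), (508, 196),
   (509, 220), (224, 128), (511, 242), (512, 254), (244, 265), (514, 195), (515, 175), (207, 128),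
   (517, 200), (518, 196), (519, 237), (2, 98), (521, 201), (522, 258), (205, 267), (524, 201),
   (525, 195), (526, 261), (134, 176), (528, 199), (529, 196), (530, 255), (158, 64), (532, 240),
   (533, 196), (534, 255), (245, 267), (536, 238), (537, 195), (538, 220), (153, 203), (540, 196),
   (541, 261), (94, 262), (543, 196), (544, 258), (152, 239), (546, 236), (66, 149), (548, 237),
   (64, 197), (550, 195), (551, 259), (176, 242), (553, 196), (554, 255), (96, 221), (556, 195),
   (557, 175), (97, 199), (559, 195), (560, 235), (243, 265), (562, 196), (563, 257), (204, 265),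
   (565, 196), (566, 219), (98, 203), (568, 258), (267, 147), (570, 196), (571, 260), (223, 175),
   (127, 151), (574, 195), (575, 260), (132, 196), (577, 261), (131, 265), (579, 195), (580, 234),
   (128, 240), (582, 257), (67, 238), (99, 258), (197, 255), (149, 234), (123, 195), (588, 261),
   (242, 196), (590, 175), (201, 196), (592, 235), (203, 256), (264, 196), (595, 260), (265, 195),
   (597, 220), (239, 219), (151, 256), (240, 196), (601, 219), (262, 254), (200, 196), (221, 196),
   (605, 236)]

theorem prog_check : (U1 ++ U2 ++ U3 ++ U4 ++ U5 ++ U6 ++ U7).all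
    (fun u => (runSLP prog [tA, tG, tD]).contains u) = true := by decide +kernel

/-- the subgroup generated by the three permutations -/
def H3 : Subgroup (Equiv.Perm GolayPt) :=
  closure {Equiv.optionCongr (Equiv.addRight (1 : ZMod 23)), projInv, cubeTwist}

theorem U_mem : ∀ u ∈ U1 ++ U2 ++ U3 ++ U4 ++ U5 ++ U6 ++ U7, permOf u ∈ H3 := by
  intro u hu
  have h1 := List.all_eq_true.1 prog_check u hu
  rw [List.contains_iff_mem] at h1
  refine (runSLP_good H3 prog [tA, tG, tD] ?_ u h1).2
  intro t ht
  simp only [List.mem_cons, List.not_mem_nil, or_false] at ht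
  rcases ht with rfl | rfl | rfl
  · rw [← tblOf_A]
    exact ⟨isTbl_tblOf _, by rw [permOf_tblOf]; exact subset_closure (by simp)⟩
  · rw [← tblOf_G]
    exact ⟨isTbl_tblOf _, by rw [permOf_tblOf]; exact subset_closure (by simp)⟩
  · rw [← tblOf_D]
    exact ⟨isTbl_tblOf _, by rw [permOf_tblOf]; exact subset_closure (by simp)⟩

theorem step {pre : List ℕ} {β A : ℕ} {U : List (List ℕ)} (h : lvlCheck pre β A U = true)
    (h1 : ∀ g ∈ stabL pre, g (ptOf β) ∈ un A) (hU : ∀ u ∈ U, permOf u ∈ H3)
    (hnext : stabL (pre ++ [β]) ≤ H3) : stabL pre ≤ H3 := by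
  intro g hg
  obtain ⟨u, hu, g', hg', _, rfl⟩ := sift h h1 hg
  exact H3.mul_mem (hU u hu) (hnext hg')

theorem M24_le : M24 ≤ H3 := by
  have h7 : stabL [23, 0, 1, 2, 3, 5, 4] ≤ H3 := by rw [stab7_eq_bot]; exact bot_le
  have h6 : stabL [23, 0, 1, 2, 3, 5] ≤ H3 :=
    step lvl7 (fun _ h => stab6_image h) (fun u hu => U_mem u (by simp [hu])) h7
  have h5 : stabL [23, 0, 1, 2, 3] ≤ H3 :=
    step lvl6 (fun _ h => stab5_image h) (fun u hu => U_mem u (by simp [hu])) h6
  have h4 : stabL [23, 0, 1, 2] ≤ H3 :=
    step lvl5 (fun g hg => mem_un_of_not_mem (pre := [23, 0, 1, 2]) (by decide)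
      (idx_not_mem_of_fixes (by decide) (by decide) ((mem_stabL _ _).1 hg).2))
      (fun u hu => U_mem u (by simp [hu])) h5
  have h3 : stabL [23, 0, 1] ≤ H3 :=
    step lvl4 (fun g hg => mem_un_of_not_mem (pre := [23, 0, 1]) (by decide)
      (idx_not_mem_of_fixes (by decide) (by decide) ((mem_stabL _ _).1 hg).2))
      (fun u hu => U_mem u (by simp [hu])) h4
  have h2 : stabL [23, 0] ≤ H3 :=
    step lvl3 (fun g hg => mem_un_of_not_mem (pre := [23, 0]) (by decide)
      (idx_not_mem_of_fixes (by decide) (by decide) ((mem_stabL _ _).1 hg).2))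
      (fun u hu => U_mem u (by simp [hu])) h3
  have h1 : stabL [23] ≤ H3 :=
    step lvl2 (fun g hg => mem_un_of_not_mem (pre := [23]) (by decide)
      (idx_not_mem_of_fixes (by decide) (by decide) ((mem_stabL _ _).1 hg).2))
      (fun u hu => U_mem u (by simp [hu])) h2
  have h0 : stabL [] ≤ H3 :=
    step lvl1 (fun g _ => mem_un_of_not_mem (pre := []) (by decide) (by simp))
      (fun u hu => U_mem u (by simp [hu])) h1
  exact h0

end Cfsg.Agent.Lib.Helper3.M24Gen
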