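import Mathlib
import Cfsg.Agent.Lib.Helper3.Cent2B
import Cfsg.Agent.Lib.Helper3.Trios

/-!
# The normaliser of a subgroup of order seven of `M24`: the checks
-/

set_option autoImplicit false
set_option maxRecDepth 100000

namespace Cfsg.Agent.Lib.Helper3.Norm7

open Cfsg Cfsg.Agent.Lib.Helper28 Cfsg.Agent.Lib.Helper3.M24T Cfsg.Agent.Lib.Helper3.M24Gen

/-- an element of order seven fixing the points `23`, `0`, `1`. -/
def X0 : List ℕ := [0, 1, 9, 11, 16, 13, 12, 4, 2, 19, 8, 15, 10, 18, 21, 22, 3, 5, 20, 6, 14, 17, 7, 23]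

/-- its powers. -/
def PW7 : List (List ℕ) := [[0, 1, 2, 3, 4, 5, 6, 7, 8, 9, 10, 11, 12, 13, 14, 15, 16, 17, 18, 19, 20, 21, 22, 23],
  [0, 1, 9, 11, 16, 13, 12, 4, 2, 19, 8, 15, 10, 18, 21, 22, 3, 5, 20, 6, 14, 17, 7, 23],
  [0, 1, 19, 15, 3, 18, 10, 16, 9, 6, 2, 22, 8, 20, 17, 7, 11, 13, 14, 12, 21, 5, 4, 23],
  [0, 1, 6, 22, 11, 20, 8, 3, 19, 12, 9, 7, 2, 14, 5, 4, 15, 18, 21, 10, 17, 13, 16, 23],
  [0, 1, 12, 7, 15, 14, 2, 11, 6, 10, 19, 4, 9, 21, 13, 16, 22, 20, 17, 8, 5, 18, 3, 23],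
  [0, 1, 10, 4, 22, 21, 9, 15, 12, 8, 6, 16, 19, 17, 18, 3, 7, 14, 5, 2, 13, 20, 11, 23],
  [0, 1, 8, 16, 7, 17, 19, 22, 10, 2, 12, 3, 6, 5, 20, 11, 4, 21, 13, 9, 18, 14, 15, 23]]

/-- elements of the centraliser moving the point `23` to the three fixed points. -/
def A3 : List (List ℕ) := [[0, 1, 2, 3, 4, 5, 6, 7, 8, 9, 10, 11, 12, 13, 14, 15, 16, 17, 18, 19, 20, 21, 22, 23],
  [23, 1, 5, 16, 7, 10, 20, 22, 17, 13, 21, 3, 14, 8, 19, 11, 4, 12, 2, 18, 9, 6, 15, 0],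
  [23, 0, 5, 8, 12, 4, 20, 6, 17, 13, 21, 2, 14, 16, 15, 9, 10, 7, 3, 18, 11, 22, 19, 1]]

/-- elements of the centraliser fixing the point `23` and moving the point `0` to the two other fixed points. -/
def A2 : List (List ℕ) := [[0, 1, 2, 3, 4, 5, 6, 7, 8, 9, 10, 11, 12, 13, 14, 15, 16, 17, 18, 19, 20, 21, 22, 23],
  [1, 0, 3, 2, 10, 5, 22, 12, 16, 11, 4, 9, 7, 13, 14, 19, 8, 17, 18, 15, 20, 21, 6, 23]]

/-- the elements of the normaliser fixing four points. -/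
def L3N : List (List ℕ) := [[0, 1, 2, 3, 4, 5, 6, 7, 8, 9, 10, 11, 12, 13, 14, 15, 16, 17, 18, 19, 20, 21, 22, 23],
  [0, 1, 2, 3, 16, 14, 10, 15, 6, 12, 8, 7, 19, 13, 17, 11, 22, 5, 21, 9, 18, 20, 4, 23],
  [0, 1, 2, 3, 22, 17, 8, 11, 10, 19, 6, 15, 9, 13, 5, 7, 4, 14, 20, 12, 21, 18, 16, 23]]

/-- the invariant octads. -/
def O3 : List ℕ := [11952160, 530245, 4294810]

def mFix : ℕ := 8388611
def mFix2 : ℕ := 3
def m2 : ℕ := 530245
def mCyc : ℕ := 530244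
def c1 : List ℕ := [1, 0, 3, 2, 10, 5, 22, 12, 16, 11, 4, 9, 7, 13, 14, 19, 8, 17, 18, 15, 20, 21, 6, 23]
def c2 : List ℕ := [23, 1, 5, 16, 7, 10, 20, 22, 17, 13, 21, 3, 14, 8, 19, 11, 4, 12, 2, 18, 9, 6, 15, 0]

/-- the table commutes with the seven powers. -/
def cen (c : List ℕ) : Bool := inM24 c && PW7.all fun y => comp c y == comp y c

/-- the table normalises the set of the seven powers. -/
def nor (c : List ℕ) : Bool := inM24 c && PW7.all fun y => PW7.any fun z => comp c y == comp z c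

theorem PW7_ok : ∀ y ∈ PW7, inM24 y = true := by decide +kernel
theorem PW7_mul : ∀ y ∈ PW7, ∀ z ∈ PW7, comp y z ∈ PW7 := by decide +kernel
theorem PW7_inv : ∀ y ∈ PW7, ∃ z ∈ PW7, comp y z = idT := by decide +kernel
theorem PW7_nodup : PW7.Nodup := by decide +kernel
theorem PW7_one : idT ∈ PW7 := by decide +kernel
theorem X0_mem : X0 ∈ PW7 := by decide +kernel
theorem X0_ne : X0 ≠ idT := by decide +kernel
theorem PW7_fix : ∀ y ∈ PW7, y = idT ∨ fixMask y = mFix := by decide +kernel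
theorem PW7_cen : ∀ y ∈ PW7, cen y = true ∧ y.getD 23 0 = 23 ∧ y.getD 0 0 = 0 := by decide +kernel
theorem PW7_cov : ∀ j < 24, mCyc.testBit j = true → ∃ y ∈ PW7, y.getD 2 0 = j := by decide +kernel
theorem A3_ok : ∀ c ∈ A3, cen c = true := by decide +kernel
theorem A3_cov : ∀ j < 24, mFix.testBit j = true → ∃ c ∈ A3, c.getD 23 0 = j := by decide +kernel
theorem A2_ok : ∀ c ∈ A2, cen c = true ∧ c.getD 23 0 = 23 := by decide +kernel
theorem A2_cov : ∀ j < 24, mFix2.testBit j = true → ∃ c ∈ A2, c.getD 0 0 = j := by decide +kernel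
theorem mFix2_spec : ∀ j < 24, mFix.testBit j = true → j ≠ 23 → mFix2.testBit j = true := by decide +kernel
theorem mFix3_spec : ∀ j < 24, mFix.testBit j = true → j ≠ 23 → j ≠ 0 → j = 1 := by decide +kernel
theorem L3N_eq : list960.filter (fun s => PW7.any fun y => comp s X0 == comp y s) = L3N := by decide +kernel
theorem L3N_ok : ∀ c ∈ L3N, nor c = true ∧ c.getD 23 0 = 23 ∧ c.getD 0 0 = 0 ∧ c.getD 2 0 = 2 := by
  decide +kernel
theorem L3N_nodup : L3N.Nodup := by decide +kernel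
theorem L1C_eq : list960.filter (fun s => comp s X0 == comp X0 s) = [idT] := by decide +kernel
theorem O3_all : ∀ a < 4096, (!(popc (enc B12 a) == 8 && img X0 (enc B12 a) == enc B12 a) ||
    O3.contains (enc B12 a)) = true := by decide +kernel
theorem O3_ok : ∀ m ∈ O3, isOct m = true ∧ m < 2 ^ 24 ∧ ∀ y ∈ PW7, img y m = m := by decide +kernel
theorem O3_disj : ∀ m ∈ O3, ∀ n ∈ O3, m ≠ n → m &&& n = 0 := by decide +kernel
theorem O3_nodup : O3.Nodup := by decide +kernel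
theorem m2_mem : m2 ∈ O3 := by decide +kernel
theorem m2_uniq : ∀ m ∈ O3, m.testBit 0 = true → m = m2 := by decide +kernel
theorem m2_spec : ∀ j < 24, m2.testBit j = true → j ≠ 0 → mCyc.testBit j = true := by decide +kernel
theorem m2_f : m2.testBit 0 = true ∧ m2.testBit 2 = true := by decide +kernel
theorem pops : popc mFix = 3 ∧ popc mFix2 = 2 ∧ popc mCyc = 7 := by decide +kernel
theorem c12 : cen c1 = true ∧ cen c2 = true ∧ comp c1 c2 ≠ comp c2 c1 := by decide +kernel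

end Cfsg.Agent.Lib.Helper3.Norm7
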