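import Mathlib
import Cfsg.Agent.Lib.Helper3.Quartet
import Cfsg.Agent.Lib.Helper3.FusEnum2
import Cfsg.Agent.Lib.Helper3.M12

/-!
# The stabiliser of a quartet: the checks
-/

set_option autoImplicit false
set_option maxRecDepth 100000

namespace Cfsg.Agent.Lib.Helper3.QuartetStab

open Cfsg Cfsg.Agent.Lib.Helper28 Cfsg.Agent.Lib.Helper3.M24T Cfsg.Agent.Lib.Helper3.M24Gen
  Cfsg.Agent.Lib.Helper3.Dod Cfsg.Agent.Lib.Helper3.Quartet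

def U1 : List (List ℕ) := [[1, 23, 2, 17, 19, 14, 11, 8, 22, 20, 10, 13, 4, 7, 5, 9, 21, 3, 16, 18, 15, 12, 6, 0],
  [0, 23, 2, 3, 19, 14, 13, 22, 8, 15, 10, 11, 18, 6, 5, 9, 21, 17, 12, 4, 20, 16, 7, 1],
  [3, 17, 0, 23, 16, 5, 9, 15, 6, 20, 10, 13, 4, 7, 14, 11, 21, 1, 19, 18, 8, 12, 22, 2],
  [2, 17, 0, 1, 16, 5, 13, 6, 15, 8, 10, 9, 18, 22, 14, 11, 21, 23, 12, 4, 20, 19, 7, 3],
  [18, 21, 0, 23, 16, 10, 7, 15, 6, 8, 5, 22, 2, 9, 14, 11, 17, 1, 12, 3, 20, 19, 13, 4],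
  [16, 19, 0, 23, 3, 5, 7, 13, 6, 20, 14, 15, 21, 9, 10, 8, 4, 1, 17, 18, 11, 2, 22, 12],
  [12, 19, 0, 1, 3, 5, 15, 6, 13, 11, 14, 7, 18, 22, 10, 8, 4, 23, 2, 21, 20, 17, 9, 16],
  [2, 3, 0, 23, 19, 5, 7, 22, 9, 11, 10, 15, 18, 6, 14, 8, 4, 1, 12, 21, 20, 16, 13, 17],
  [4, 21, 0, 23, 17, 14, 6, 22, 7, 20, 5, 15, 19, 9, 10, 11, 16, 1, 3, 12, 8, 2, 13, 18],
  [12, 16, 0, 1, 21, 10, 22, 9, 13, 8, 14, 7, 2, 15, 5, 11, 17, 23, 18, 3, 20, 4, 6, 19],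
  [4, 18, 0, 1, 2, 14, 13, 9, 15, 11, 5, 7, 19, 22, 10, 20, 12, 23, 3, 16, 8, 17, 6, 21],
  [0, 1, 2, 3, 4, 5, 6, 7, 8, 9, 10, 11, 12, 13, 14, 15, 16, 17, 18, 19, 20, 21, 22, 23]]

def U2 : List (List ℕ) := [[0, 1, 2, 3, 4, 5, 6, 7, 8, 9, 10, 11, 12, 13, 14, 15, 16, 17, 18, 19, 20, 21, 22, 23],
  [1, 0, 2, 3, 12, 14, 6, 7, 13, 9, 10, 22, 4, 8, 5, 20, 18, 17, 16, 21, 15, 19, 11, 23]]

def U3 : List (List ℕ) := [[0, 1, 2, 3, 4, 5, 6, 7, 8, 9, 10, 11, 12, 13, 14, 15, 16, 17, 18, 19, 20, 21, 22, 23],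
  [0, 1, 3, 17, 21, 5, 7, 9, 11, 6, 10, 20, 19, 22, 14, 13, 12, 2, 4, 16, 8, 18, 15, 23],
  [0, 1, 4, 18, 2, 10, 6, 9, 20, 7, 5, 11, 19, 22, 14, 15, 16, 21, 3, 12, 8, 17, 13, 23],
  [0, 1, 12, 19, 3, 10, 9, 6, 8, 7, 14, 11, 18, 22, 5, 13, 21, 16, 2, 4, 20, 17, 15, 23],
  [0, 1, 16, 12, 2, 10, 7, 9, 20, 6, 14, 8, 21, 13, 5, 15, 4, 19, 17, 18, 11, 3, 22, 23],
  [0, 1, 17, 2, 18, 5, 9, 6, 20, 7, 10, 8, 16, 15, 14, 22, 19, 3, 21, 12, 11, 4, 13, 23],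
  [0, 1, 18, 4, 19, 14, 7, 9, 8, 6, 5, 11, 2, 15, 10, 22, 17, 21, 12, 3, 20, 16, 13, 23],
  [0, 1, 19, 12, 18, 5, 7, 6, 20, 9, 14, 11, 3, 13, 10, 22, 17, 16, 4, 2, 8, 21, 15, 23],
  [0, 1, 21, 18, 12, 14, 6, 7, 20, 9, 5, 8, 17, 22, 10, 13, 3, 4, 16, 2, 11, 19, 15, 23]]

def U4 : List (List ℕ) := [[0, 1, 2, 3, 4, 5, 6, 7, 8, 9, 10, 11, 12, 13, 14, 15, 16, 17, 18, 19, 20, 21, 22, 23],
  [0, 1, 2, 17, 16, 14, 7, 6, 11, 9, 10, 8, 18, 22, 5, 15, 4, 3, 12, 21, 20, 19, 13, 23]]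

def N9 : List (List ℕ) := [[1, 23, 2, 3, 21, 5, 8, 11, 13, 20, 10, 22, 16, 6, 14, 9, 19, 17, 4, 12, 15, 18, 7, 0],
  [1, 23, 3, 17, 18, 5, 11, 20, 22, 8, 10, 15, 12, 7, 14, 6, 16, 2, 21, 19, 13, 4, 9, 0],
  [1, 23, 17, 2, 4, 5, 20, 8, 15, 11, 10, 13, 19, 9, 14, 7, 12, 3, 18, 16, 22, 21, 6, 0],
  [23, 0, 2, 3, 18, 5, 13, 22, 6, 15, 10, 7, 19, 8, 14, 20, 12, 17, 21, 16, 9, 4, 11, 1],
  [23, 0, 3, 17, 4, 5, 22, 15, 7, 13, 10, 9, 16, 11, 14, 8, 19, 2, 18, 12, 6, 21, 20, 1],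
  [23, 0, 17, 2, 21, 5, 15, 13, 9, 22, 10, 6, 12, 20, 14, 11, 16, 3, 4, 19, 7, 18, 8, 1],
  [0, 1, 2, 3, 4, 5, 6, 7, 8, 9, 10, 11, 12, 13, 14, 15, 16, 17, 18, 19, 20, 21, 22, 23],
  [0, 1, 3, 17, 21, 5, 7, 9, 11, 6, 10, 20, 19, 22, 14, 13, 12, 2, 4, 16, 8, 18, 15, 23],
  [0, 1, 17, 2, 18, 5, 9, 6, 20, 7, 10, 8, 16, 15, 14, 22, 19, 3, 21, 12, 11, 4, 13, 23]]

/-- the elements of the stabiliser. -/
def L432 : List (List ℕ) :=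
  U1.flatMap fun a => U2.flatMap fun b => U3.flatMap fun c => U4.map fun d => comp a (comp b (comp c d))

/-- the table stabilises the dodecad and the quartet. -/
def pres (c : List ℕ) : Bool := img c D0 == D0 && QM.all fun m => QM.contains (img c m)

/-- the vectors of the ordered pairs. -/
def LT : List (ℕ × ℕ × ZMod 3 × ZMod 3) := [(0, 1, 1, 0), (0, 23, 2, 0), (1, 0, 2, 0), (1, 23, 1, 0), (2, 3, 0, 1), (2, 17, 0, 2), (3, 2, 0, 2), (3, 17, 0, 1), (4, 18, 2, 2), (4, 21, 1, 1), (12, 16, 1, 2), (12, 19, 2, 1), (16, 12, 2, 1), (16, 19, 1, 2), (17, 2, 0, 1), (17, 3, 0, 2), (18, 4, 1, 1), (18, 21, 2, 2), (19, 12, 1, 2), (19, 16, 2, 1), (21, 4, 2, 2), (21, 18, 1, 1), (23, 0, 1, 0), (23, 1, 2, 0)]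

/-- the vector of an ordered pair. -/
def lam (i j : ℕ) : ZMod 3 × ZMod 3 :=
  match LT.find? (fun e => e.1 == i && e.2.1 == j) with
  | some e => e.2.2
  | none => (0, 0)

def dom (i j : ℕ) : Bool := LT.any fun e => e.1 == i && e.2.1 == j

def col1 (c : List ℕ) : ZMod 3 × ZMod 3 := lam (c.getD 0 0) (c.getD 1 0)
def col2 (c : List ℕ) : ZMod 3 × ZMod 3 := lam (c.getD 2 0) (c.getD 3 0)

def act (c : List ℕ) (v : ZMod 3 × ZMod 3) : ZMod 3 × ZMod 3 :=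
  ((col1 c).1 * v.1 + (col2 c).1 * v.2, (col1 c).2 * v.1 + (col2 c).2 * v.2)

def chkA (c : List ℕ) : Bool :=
  LT.all fun e => dom (c.getD e.1 0) (c.getD e.2.1 0) &&
    decide (lam (c.getD e.1 0) (c.getD e.2.1 0) = act c e.2.2)

theorem L432_ok : ∀ c ∈ L432, inM24 c = true ∧ pres c = true ∧ chkA c = true := by decide +kernel
theorem L432_nodup : L432.Nodup := by decide +kernel
theorem L432_len : L432.length = 432 := by decide +kernel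
theorem ker_chk : ∀ c ∈ L432, col1 c = (1, 0) → col2 c = (0, 1) → c ∈ N9 := by decide +kernel
theorem N9_len : N9.length = 9 := by decide +kernel
theorem U1_ok : ∀ c ∈ U1, inM24 c = true ∧ pres c = true := by decide +kernel
theorem U1_cov : ∀ j < 24, D0.testBit j = true → ∃ c ∈ U1, c.getD 23 0 = j := by decide +kernel
theorem U2_ok : ∀ c ∈ U2, inM24 c = true ∧ pres c = true ∧ c.getD 23 0 = 23 := by decide +kernel
theorem U2_cov : ∀ j < 24, t0.testBit j = true → j ≠ 23 → ∃ c ∈ U2, c.getD 0 0 = j := by decide +kernel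
theorem U3_ok : ∀ c ∈ U3, inM24 c = true ∧ pres c = true ∧ c.getD 23 0 = 23 ∧ c.getD 0 0 = 0 := by decide +kernel
theorem U3_cov : ∀ j < 24, D0.testBit j = true → t0.testBit j = false → ∃ c ∈ U3, c.getD 2 0 = j := by
  decide +kernel
theorem U4_ok : ∀ c ∈ U4, inM24 c = true ∧ pres c = true ∧ c.getD 23 0 = 23 ∧ c.getD 0 0 = 0 ∧ c.getD 2 0 = 2 := by
  decide +kernel
theorem U4_cov : ∀ j < 24, u0.testBit j = true → j ≠ 2 → ∃ c ∈ U4, c.getD 3 0 = j := by decide +kernel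
theorem QM_disj : ∀ m ∈ QM, ∀ n ∈ QM, m ≠ n → m &&& n = 0 := by decide +kernel
theorem t0_third : ∀ j < 24, t0.testBit j = true → j ≠ 23 → j ≠ 0 → j = 1 := by decide +kernel
theorem pt_bits : t0.testBit 23 = true ∧ t0.testBit 0 = true ∧ t0.testBit 1 = true ∧ u0.testBit 2 = true ∧
    u0.testBit 3 = true ∧ t0.testBit 2 = false ∧ D0.testBit 23 = true ∧ D0.testBit 2 = true := by decide +kernel
theorem triv48 : ∀ s ∈ list48, img s D0 = D0 → s = idT := by decide +kernel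
theorem dom_base : dom 0 1 = true ∧ dom 2 3 = true ∧ lam 0 1 = (1, 0) ∧ lam 2 3 = (0, 1) := by
  decide +kernel
theorem dom_mem : ∀ i < 24, ∀ j < 24, dom i j = true →
    (LT.any fun e => e.1 == i && e.2.1 == j && decide (e.2.2 = lam i j)) = true := by decide +kernel

end Cfsg.Agent.Lib.Helper3.QuartetStab
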