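import Mathlib
import Cfsg.Agent.Lib.Helper3.Cent2B

/-!
# The stabiliser of a sextet: the checks
-/

set_option autoImplicit false
set_option maxRecDepth 100000

namespace Cfsg.Agent.Lib.Helper3.SextStab

open Cfsg Cfsg.Agent.Lib.Helper28 Cfsg.Agent.Lib.Helper3.M24T Cfsg.Agent.Lib.Helper3.M24Gen

def F4 : ℕ := 8388615

/-- the tetrads of the sextet. -/
def TM : List ℕ := [8388615, 4268048, 147496, 2621632, 1082880, 268544]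

/-- the table fixes the six tetrads. -/
def pres (c : List ℕ) : Bool := TM.all fun m => img c m == m

def U1 : List (List ℕ) := [[0, 1, 2, 3, 4, 5, 6, 7, 8, 9, 10, 11, 12, 13, 14, 15, 16, 17, 18, 19, 20, 21, 22, 23],
  [23, 2, 1, 3, 13, 5, 21, 19, 8, 10, 9, 11, 12, 4, 14, 20, 22, 17, 18, 7, 15, 6, 16, 0],
  [23, 0, 2, 3, 4, 14, 7, 21, 18, 15, 9, 11, 8, 16, 17, 10, 22, 5, 12, 19, 20, 6, 13, 1],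
  [23, 1, 0, 17, 13, 3, 7, 19, 12, 10, 15, 11, 18, 16, 14, 9, 4, 5, 8, 6, 20, 21, 22, 2]]

def U2 : List (List ℕ) := [[0, 1, 2, 3, 4, 5, 6, 7, 8, 9, 10, 11, 12, 13, 14, 15, 16, 17, 18, 19, 20, 21, 22, 23],
  [1, 2, 0, 5, 4, 17, 6, 19, 8, 15, 9, 12, 18, 16, 14, 10, 22, 3, 11, 21, 20, 7, 13, 23],
  [2, 0, 1, 3, 22, 17, 21, 6, 8, 20, 9, 18, 11, 4, 5, 15, 16, 14, 12, 19, 10, 7, 13, 23]]

def L16 : List (List ℕ) := [[0, 1, 2, 3, 4, 5, 6, 7, 8, 9, 10, 11, 12, 13, 14, 15, 16, 17, 18, 19, 20, 21, 22, 23],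
  [0, 1, 2, 3, 13, 5, 19, 21, 11, 15, 20, 8, 18, 4, 14, 9, 22, 17, 12, 6, 10, 7, 16, 23],
  [0, 1, 2, 3, 16, 5, 21, 19, 12, 20, 15, 18, 8, 22, 14, 10, 4, 17, 11, 7, 9, 6, 13, 23],
  [0, 1, 2, 3, 22, 5, 7, 6, 18, 10, 9, 12, 11, 16, 14, 20, 13, 17, 8, 21, 15, 19, 4, 23],
  [0, 1, 2, 5, 16, 3, 6, 7, 18, 15, 20, 12, 11, 22, 17, 9, 4, 14, 8, 19, 10, 21, 13, 23],
  [0, 1, 2, 5, 22, 3, 19, 21, 12, 9, 10, 18, 8, 16, 17, 15, 13, 14, 11, 6, 20, 7, 4, 23],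
  [0, 1, 2, 5, 4, 3, 21, 19, 11, 10, 9, 8, 18, 13, 17, 20, 16, 14, 12, 7, 15, 6, 22, 23],
  [0, 1, 2, 5, 13, 3, 7, 6, 8, 20, 15, 11, 12, 4, 17, 10, 22, 14, 18, 21, 9, 19, 16, 23],
  [0, 1, 2, 14, 22, 17, 6, 7, 11, 20, 15, 8, 18, 16, 3, 10, 13, 5, 12, 19, 9, 21, 4, 23],
  [0, 1, 2, 14, 4, 17, 7, 6, 12, 15, 20, 18, 8, 13, 3, 9, 16, 5, 11, 21, 10, 19, 22, 23],
  [0, 1, 2, 14, 16, 17, 19, 21, 8, 10, 9, 11, 12, 22, 3, 20, 4, 5, 18, 6, 15, 7, 13, 23],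
  [0, 1, 2, 14, 13, 17, 21, 19, 18, 9, 10, 12, 11, 4, 3, 15, 22, 5, 8, 7, 20, 6, 16, 23],
  [0, 1, 2, 17, 13, 14, 6, 7, 12, 10, 9, 18, 8, 4, 5, 20, 22, 3, 11, 19, 15, 21, 16, 23],
  [0, 1, 2, 17, 16, 14, 7, 6, 11, 9, 10, 8, 18, 22, 5, 15, 4, 3, 12, 21, 20, 19, 13, 23],
  [0, 1, 2, 17, 4, 14, 19, 21, 18, 20, 15, 12, 11, 13, 5, 10, 16, 3, 8, 6, 9, 7, 22, 23],
  [0, 1, 2, 17, 22, 14, 21, 19, 8, 15, 20, 11, 12, 16, 5, 9, 13, 3, 18, 7, 10, 6, 4, 23]]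

def k2 : List ℕ := [0, 2, 1, 4, 17, 16, 8, 11, 9, 6, 21, 20, 15, 3, 13, 19, 5, 22, 10, 18, 7, 12, 14, 23]

def QL64 : List (List ℕ) := [[0, 1, 2, 3, 4, 5, 6, 7, 8, 9, 10, 11, 12, 13, 14, 15, 16, 17, 18, 19, 20, 21, 22, 23],
  [0, 1, 2, 3, 13, 5, 19, 21, 11, 15, 20, 8, 18, 4, 14, 9, 22, 17, 12, 6, 10, 7, 16, 23],
  [0, 1, 2, 3, 16, 5, 21, 19, 12, 20, 15, 18, 8, 22, 14, 10, 4, 17, 11, 7, 9, 6, 13, 23],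
  [0, 1, 2, 3, 22, 5, 7, 6, 18, 10, 9, 12, 11, 16, 14, 20, 13, 17, 8, 21, 15, 19, 4, 23],
  [0, 1, 2, 5, 16, 3, 6, 7, 18, 15, 20, 12, 11, 22, 17, 9, 4, 14, 8, 19, 10, 21, 13, 23],
  [0, 1, 2, 5, 22, 3, 19, 21, 12, 9, 10, 18, 8, 16, 17, 15, 13, 14, 11, 6, 20, 7, 4, 23],
  [0, 1, 2, 5, 4, 3, 21, 19, 11, 10, 9, 8, 18, 13, 17, 20, 16, 14, 12, 7, 15, 6, 22, 23],
  [0, 1, 2, 5, 13, 3, 7, 6, 8, 20, 15, 11, 12, 4, 17, 10, 22, 14, 18, 21, 9, 19, 16, 23],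
  [0, 1, 2, 14, 22, 17, 6, 7, 11, 20, 15, 8, 18, 16, 3, 10, 13, 5, 12, 19, 9, 21, 4, 23],
  [0, 1, 2, 14, 4, 17, 7, 6, 12, 15, 20, 18, 8, 13, 3, 9, 16, 5, 11, 21, 10, 19, 22, 23],
  [0, 1, 2, 14, 16, 17, 19, 21, 8, 10, 9, 11, 12, 22, 3, 20, 4, 5, 18, 6, 15, 7, 13, 23],
  [0, 1, 2, 14, 13, 17, 21, 19, 18, 9, 10, 12, 11, 4, 3, 15, 22, 5, 8, 7, 20, 6, 16, 23],
  [0, 1, 2, 17, 13, 14, 6, 7, 12, 10, 9, 18, 8, 4, 5, 20, 22, 3, 11, 19, 15, 21, 16, 23],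
  [0, 1, 2, 17, 16, 14, 7, 6, 11, 9, 10, 8, 18, 22, 5, 15, 4, 3, 12, 21, 20, 19, 13, 23],
  [0, 1, 2, 17, 4, 14, 19, 21, 18, 20, 15, 12, 11, 13, 5, 10, 16, 3, 8, 6, 9, 7, 22, 23],
  [0, 1, 2, 17, 22, 14, 21, 19, 8, 15, 20, 11, 12, 16, 5, 9, 13, 3, 18, 7, 10, 6, 4, 23],
  [23, 2, 1, 3, 13, 5, 21, 19, 8, 10, 9, 11, 12, 4, 14, 20, 22, 17, 18, 7, 15, 6, 16, 0],
  [23, 2, 1, 3, 4, 5, 7, 6, 11, 20, 15, 8, 18, 13, 14, 10, 16, 17, 12, 21, 9, 19, 22, 0],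
  [23, 2, 1, 3, 22, 5, 6, 7, 12, 15, 20, 18, 8, 16, 14, 9, 13, 17, 11, 19, 10, 21, 4, 0],
  [23, 2, 1, 3, 16, 5, 19, 21, 18, 9, 10, 12, 11, 22, 14, 15, 4, 17, 8, 6, 20, 7, 13, 0],
  [23, 2, 1, 17, 16, 14, 6, 7, 8, 20, 15, 11, 12, 22, 5, 10, 4, 3, 18, 19, 9, 21, 13, 0],
  [23, 2, 1, 17, 13, 14, 7, 6, 18, 15, 20, 12, 11, 4, 5, 9, 22, 3, 8, 21, 10, 19, 16, 0],
  [23, 2, 1, 17, 22, 14, 19, 21, 11, 10, 9, 8, 18, 16, 5, 20, 13, 3, 12, 6, 15, 7, 4, 0],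
  [23, 2, 1, 17, 4, 14, 21, 19, 12, 9, 10, 18, 8, 13, 5, 15, 16, 3, 11, 7, 20, 6, 22, 0],
  [23, 2, 1, 5, 16, 3, 7, 6, 12, 10, 9, 18, 8, 22, 17, 20, 4, 14, 11, 21, 15, 19, 13, 0],
  [23, 2, 1, 5, 13, 3, 6, 7, 11, 9, 10, 8, 18, 4, 17, 15, 22, 14, 12, 19, 20, 21, 16, 0],
  [23, 2, 1, 5, 22, 3, 21, 19, 18, 20, 15, 12, 11, 16, 17, 10, 13, 14, 8, 7, 9, 6, 4, 0],
  [23, 2, 1, 5, 4, 3, 19, 21, 8, 15, 20, 11, 12, 13, 17, 9, 16, 14, 18, 6, 10, 7, 22, 0],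
  [23, 2, 1, 14, 13, 17, 19, 21, 12, 20, 15, 18, 8, 4, 3, 10, 22, 5, 11, 6, 9, 7, 16, 0],
  [23, 2, 1, 14, 4, 17, 6, 7, 18, 10, 9, 12, 11, 13, 3, 20, 16, 5, 8, 19, 15, 21, 22, 0],
  [23, 2, 1, 14, 22, 17, 7, 6, 8, 9, 10, 11, 12, 16, 3, 15, 13, 5, 18, 21, 20, 19, 4, 0],
  [23, 2, 1, 14, 16, 17, 21, 19, 11, 15, 20, 8, 18, 22, 3, 9, 4, 5, 12, 7, 10, 6, 13, 0],
  [2, 23, 0, 17, 22, 14, 7, 6, 12, 20, 15, 18, 8, 16, 5, 10, 13, 3, 11, 21, 9, 19, 4, 1],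
  [2, 23, 0, 17, 16, 14, 21, 19, 18, 10, 9, 12, 11, 22, 5, 20, 4, 3, 8, 7, 15, 6, 13, 1],
  [2, 23, 0, 17, 13, 14, 19, 21, 8, 9, 10, 11, 12, 4, 5, 15, 22, 3, 18, 6, 20, 7, 16, 1],
  [2, 23, 0, 17, 4, 14, 6, 7, 11, 15, 20, 8, 18, 13, 5, 9, 16, 3, 12, 19, 10, 21, 22, 1],
  [2, 23, 0, 14, 4, 17, 21, 19, 8, 20, 15, 11, 12, 13, 3, 10, 16, 5, 18, 7, 9, 6, 22, 1],
  [2, 23, 0, 14, 22, 17, 19, 21, 18, 15, 20, 12, 11, 16, 3, 9, 13, 5, 8, 6, 10, 7, 4, 1],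
  [2, 23, 0, 14, 13, 17, 7, 6, 11, 10, 9, 8, 18, 4, 3, 20, 22, 5, 12, 21, 15, 19, 16, 1],
  [2, 23, 0, 14, 16, 17, 6, 7, 12, 9, 10, 18, 8, 22, 3, 15, 4, 5, 11, 19, 20, 21, 13, 1],
  [2, 23, 0, 5, 16, 3, 19, 21, 11, 20, 15, 8, 18, 22, 17, 10, 4, 14, 12, 6, 9, 7, 13, 1],
  [2, 23, 0, 5, 22, 3, 6, 7, 8, 10, 9, 11, 12, 16, 17, 20, 13, 14, 18, 19, 15, 21, 4, 1],
  [2, 23, 0, 5, 4, 3, 7, 6, 18, 9, 10, 12, 11, 13, 17, 15, 16, 14, 8, 21, 20, 19, 22, 1],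
  [2, 23, 0, 5, 13, 3, 21, 19, 12, 15, 20, 18, 8, 4, 17, 9, 22, 14, 11, 7, 10, 6, 16, 1],
  [2, 23, 0, 3, 22, 5, 21, 19, 11, 9, 10, 8, 18, 16, 14, 15, 13, 17, 12, 7, 20, 6, 4, 1],
  [2, 23, 0, 3, 16, 5, 7, 6, 8, 15, 20, 11, 12, 22, 14, 9, 4, 17, 18, 21, 10, 19, 13, 1],
  [2, 23, 0, 3, 13, 5, 6, 7, 18, 20, 15, 12, 11, 4, 14, 10, 22, 17, 8, 19, 9, 21, 16, 1],
  [2, 23, 0, 3, 4, 5, 19, 21, 12, 10, 9, 18, 8, 13, 14, 20, 16, 17, 11, 6, 15, 7, 22, 1],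
  [1, 0, 23, 5, 13, 3, 19, 21, 18, 10, 9, 12, 11, 4, 17, 20, 22, 14, 8, 6, 15, 7, 16, 2],
  [1, 0, 23, 5, 4, 3, 6, 7, 12, 20, 15, 18, 8, 13, 17, 10, 16, 14, 11, 19, 9, 21, 22, 2],
  [1, 0, 23, 5, 22, 3, 7, 6, 11, 15, 20, 8, 18, 16, 17, 9, 13, 14, 12, 21, 10, 19, 4, 2],
  [1, 0, 23, 5, 16, 3, 21, 19, 8, 9, 10, 11, 12, 22, 17, 15, 4, 14, 18, 7, 20, 6, 13, 2],
  [1, 0, 23, 17, 13, 14, 21, 19, 11, 20, 15, 8, 18, 4, 5, 10, 22, 3, 12, 7, 9, 6, 16, 2],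
  [1, 0, 23, 17, 4, 14, 7, 6, 8, 10, 9, 11, 12, 13, 5, 20, 16, 3, 18, 21, 15, 19, 22, 2],
  [1, 0, 23, 17, 22, 14, 6, 7, 18, 9, 10, 12, 11, 16, 5, 15, 13, 3, 8, 19, 20, 21, 4, 2],
  [1, 0, 23, 17, 16, 14, 19, 21, 12, 15, 20, 18, 8, 22, 5, 9, 4, 3, 11, 6, 10, 7, 13, 2],
  [1, 0, 23, 14, 16, 17, 7, 6, 18, 20, 15, 12, 11, 22, 3, 10, 4, 5, 8, 21, 9, 19, 13, 2],
  [1, 0, 23, 14, 13, 17, 6, 7, 8, 15, 20, 11, 12, 4, 3, 9, 22, 5, 18, 19, 10, 21, 16, 2],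
  [1, 0, 23, 14, 22, 17, 21, 19, 12, 10, 9, 18, 8, 16, 3, 20, 13, 5, 11, 7, 15, 6, 4, 2],
  [1, 0, 23, 14, 4, 17, 19, 21, 11, 9, 10, 8, 18, 13, 3, 15, 16, 5, 12, 6, 20, 7, 22, 2],
  [1, 0, 23, 3, 16, 5, 6, 7, 11, 10, 9, 8, 18, 22, 14, 20, 4, 17, 12, 19, 15, 21, 13, 2],
  [1, 0, 23, 3, 13, 5, 7, 6, 12, 9, 10, 18, 8, 4, 14, 15, 22, 17, 11, 21, 20, 19, 16, 2],
  [1, 0, 23, 3, 22, 5, 19, 21, 8, 20, 15, 11, 12, 16, 14, 10, 13, 17, 18, 6, 9, 7, 4, 2],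
  [1, 0, 23, 3, 4, 5, 21, 19, 18, 15, 20, 12, 11, 13, 14, 9, 16, 17, 8, 7, 10, 6, 22, 2]]

/-- elements exchanging two tetrads and fixing the four others. -/
def SW : List (List ℕ) := [[22, 13, 4, 3, 23, 5, 6, 19, 18, 20, 15, 12, 8, 0, 17, 9, 2, 14, 11, 7, 10, 21, 1, 16],
  [3, 5, 14, 1, 4, 0, 21, 7, 11, 10, 20, 12, 18, 22, 23, 9, 16, 2, 8, 19, 15, 6, 13, 17],
  [21, 7, 6, 5, 22, 14, 23, 0, 12, 9, 15, 18, 11, 13, 17, 10, 16, 3, 8, 2, 20, 1, 4, 19],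
  [15, 10, 20, 5, 16, 3, 21, 6, 12, 2, 0, 11, 8, 4, 14, 1, 22, 17, 18, 7, 23, 19, 13, 9],
  [12, 11, 18, 17, 4, 5, 6, 19, 23, 15, 10, 1, 0, 16, 14, 9, 13, 3, 2, 7, 20, 21, 22, 8],
  [1, 2, 23, 16, 5, 13, 21, 6, 12, 10, 9, 11, 8, 14, 4, 15, 17, 22, 18, 7, 20, 19, 3, 0],
  [23, 2, 0, 17, 21, 14, 4, 13, 8, 20, 10, 18, 12, 19, 3, 15, 6, 5, 11, 22, 9, 16, 7, 1],
  [0, 1, 23, 14, 20, 5, 19, 7, 11, 22, 13, 8, 12, 10, 3, 16, 15, 17, 18, 6, 4, 21, 9, 2],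
  [23, 1, 2, 17, 12, 14, 19, 7, 13, 10, 15, 4, 16, 18, 3, 20, 11, 5, 22, 6, 9, 21, 8, 0],
  [1, 23, 0, 19, 4, 6, 14, 3, 18, 9, 20, 8, 11, 16, 21, 15, 13, 7, 12, 17, 10, 5, 22, 2],
  [2, 1, 0, 10, 4, 9, 21, 7, 11, 5, 3, 8, 12, 16, 15, 14, 13, 20, 18, 19, 17, 6, 22, 23],
  [1, 0, 2, 18, 16, 11, 21, 6, 14, 20, 10, 3, 17, 4, 12, 15, 22, 8, 5, 7, 9, 19, 13, 23],
  [2, 23, 1, 17, 13, 5, 15, 20, 8, 7, 6, 12, 11, 22, 14, 19, 4, 3, 18, 10, 21, 9, 16, 0],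
  [2, 1, 0, 3, 22, 5, 12, 11, 19, 10, 9, 7, 6, 13, 17, 15, 16, 14, 21, 8, 20, 18, 4, 23],
  [0, 23, 2, 5, 16, 17, 6, 21, 20, 11, 18, 10, 15, 22, 3, 8, 13, 14, 9, 19, 12, 7, 4, 1]]

theorem TM_ok : ∀ m ∈ TM, popc m = 4 ∧ isCode (F4 ^^^ m) = true ∧ m < 2 ^ 24 := by decide +kernel
theorem TM_nodup : TM.Nodup := by decide +kernel
theorem F4_mem : F4 ∈ TM := by decide +kernel
theorem U1_ok : ∀ c ∈ U1, inM24 c = true ∧ pres c = true := by decide +kernel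
theorem U1_cov : ∀ j < 24, F4.testBit j = true → ∃ c ∈ U1, c.getD 23 0 = j := by decide +kernel
theorem U2_ok : ∀ c ∈ U2, inM24 c = true ∧ pres c = true ∧ c.getD 23 0 = 23 := by decide +kernel
theorem U2_cov : ∀ j < 24, (7 : ℕ).testBit j = true → ∃ c ∈ U2, c.getD 0 0 = j := by decide +kernel
theorem F4_a : ∀ j < 24, F4.testBit j = true → j ≠ 23 → (7 : ℕ).testBit j = true := by decide +kernel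
theorem F4_b : ∀ j < 24, F4.testBit j = true → j ≠ 23 → j ≠ 0 → j = 1 ∨ j = 2 := by decide +kernel
theorem L16_eq : list960.filter pres = L16 := by decide +kernel
theorem L16_ok : ∀ c ∈ L16, inM24 c = true ∧ pres c = true ∧ c.getD 23 0 = 23 ∧ c.getD 0 0 = 0 := by
  decide +kernel
theorem L16_nodup : L16.Nodup := by decide +kernel
theorem k2_ok : inM24 k2 = true ∧ k2.getD 23 0 = 23 ∧ k2.getD 0 0 = 0 ∧ k2.getD 1 0 = 2 ∧ k2.getD 2 0 = 1 := by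
  decide +kernel
theorem k2_none : list960.all (fun s => !pres (comp k2 s)) = true := by decide +kernel
theorem QL64_ok : ∀ c ∈ QL64, inM24 c = true ∧ pres c = true ∧ comp c c = idT := by decide +kernel
theorem QL64_nodup : QL64.Nodup := by decide +kernel
theorem QL64_len : QL64.length = 64 := by decide +kernel
theorem QL64_one : idT ∈ QL64 := by decide +kernel
theorem QL64_mul : ∀ a ∈ QL64, ∀ b ∈ QL64, comp a b ∈ QL64 := by decide +kernel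
theorem sq_mem : ∀ a ∈ U1, ∀ b ∈ U2, ∀ s ∈ L16,
    comp (comp a (comp b s)) (comp a (comp b s)) = idT → comp a (comp b s) ∈ QL64 := by decide +kernel
theorem SW_ok : ∀ c ∈ SW, inM24 c = true := by decide +kernel
theorem SW_cov : ∀ m ∈ TM, ∀ n ∈ TM, m ≠ n → ∃ c ∈ SW, img c m = n ∧ img c n = m ∧
    ∀ r ∈ TM, r ≠ m → r ≠ n → img c r = r := by decide +kernel

end Cfsg.Agent.Lib.Helper3.SextStab
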