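import Mathlib
import Cfsg.Agent.Lib.Helper3.SextStab
import Cfsg.Agent.Lib.Helper3.SetSys3
import Cfsg.Agent.Lib.Helper3.AutFix

/-!
# The stabiliser of a trio: the checks
-/

set_option autoImplicit false
set_option maxRecDepth 100000

namespace Cfsg.Agent.Lib.Helper3.TrioStab

open Cfsg Cfsg.Agent.Lib.Helper28 Cfsg.Agent.Lib.Helper3.M24T Cfsg.Agent.Lib.Helper3.M24Gen

/-- the octads of the trio. -/
def OM : List ℕ := [12656663, 2769128, 1351424]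

/-- three tetrads. -/
def tm : List ℕ := [8388615, 8396818, 8454164]

/-- three words of the code, dual to the tetrads. -/
def cm : List ℕ := [11731203, 13062145, 16445697]

/-- octads cutting out the tetrads. -/
def wit : List ℕ := [8536111, 8937586, 10698836]

/-- a combination of the three tetrads. -/
def cmb (a b c : Bool) : ℕ :=
  (bif a then tm.getD 0 0 else 0) ^^^ (bif b then tm.getD 1 0 else 0) ^^^ (bif c then tm.getD 2 0 else 0)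

/-- the mask is congruent to a combination of the three tetrads. -/
def isCmb (m : ℕ) : Bool :=
  [false, true].any fun a => [false, true].any fun b => [false, true].any fun c => isCode (m ^^^ cmb a b c)

def presT (c : List ℕ) : Bool := (OM.all fun m => img c m == m) && tm.all fun m => isCode (img c m ^^^ m)

def U1 : List (List ℕ) := [[23, 2, 1, 7, 22, 19, 14, 3, 10, 11, 8, 9, 20, 16, 6, 18, 13, 21, 15, 5, 12, 17, 4, 0],
  [2, 23, 0, 19, 13, 7, 17, 5, 10, 11, 8, 9, 20, 4, 21, 18, 22, 6, 15, 3, 12, 14, 16, 1],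
  [1, 0, 23, 5, 16, 3, 21, 19, 8, 9, 10, 11, 12, 22, 17, 15, 4, 14, 18, 7, 20, 6, 13, 2],
  [22, 13, 16, 5, 23, 3, 21, 19, 15, 12, 18, 20, 9, 1, 17, 8, 2, 14, 10, 7, 11, 6, 0, 4],
  [16, 4, 22, 21, 1, 6, 5, 17, 8, 9, 10, 11, 12, 23, 19, 15, 0, 7, 18, 14, 20, 3, 2, 13],
  [13, 22, 4, 5, 2, 3, 21, 19, 20, 18, 12, 15, 10, 0, 17, 11, 23, 14, 9, 7, 8, 6, 1, 16],
  [4, 16, 13, 17, 0, 14, 19, 21, 15, 12, 18, 20, 9, 2, 5, 8, 1, 3, 10, 6, 11, 7, 23, 22],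
  [0, 1, 2, 3, 4, 5, 6, 7, 8, 9, 10, 11, 12, 13, 14, 15, 16, 17, 18, 19, 20, 21, 22, 23]]

def U2 : List (List ℕ) := [[0, 1, 2, 3, 4, 5, 6, 7, 8, 9, 10, 11, 12, 13, 14, 15, 16, 17, 18, 19, 20, 21, 22, 23],
  [0, 1, 2, 5, 4, 3, 21, 19, 11, 10, 9, 8, 18, 13, 17, 20, 16, 14, 12, 7, 15, 6, 22, 23],
  [0, 1, 2, 6, 4, 21, 3, 14, 10, 11, 8, 9, 20, 13, 7, 18, 16, 19, 15, 17, 12, 5, 22, 23],
  [0, 1, 2, 7, 4, 19, 14, 3, 20, 18, 12, 15, 10, 13, 6, 11, 16, 21, 9, 5, 8, 17, 22, 23],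
  [0, 1, 2, 14, 4, 17, 7, 6, 12, 15, 20, 18, 8, 13, 3, 9, 16, 5, 11, 21, 10, 19, 22, 23],
  [0, 1, 2, 17, 4, 14, 19, 21, 18, 20, 15, 12, 11, 13, 5, 10, 16, 3, 8, 6, 9, 7, 22, 23],
  [0, 1, 2, 19, 4, 7, 17, 5, 15, 12, 18, 20, 9, 13, 21, 8, 16, 6, 10, 3, 11, 14, 22, 23],
  [0, 1, 2, 21, 4, 6, 5, 17, 9, 8, 11, 10, 15, 13, 19, 12, 16, 7, 20, 14, 18, 3, 22, 23]]

def SW : List (List ℕ) := [[20, 18, 10, 19, 9, 14, 6, 17, 0, 22, 2, 16, 13, 15, 3, 1, 8, 21, 23, 7, 4, 5, 12, 11],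
  [4, 16, 2, 20, 1, 15, 18, 9, 21, 5, 3, 6, 17, 22, 8, 19, 0, 11, 14, 10, 7, 12, 13, 23],
  [17, 21, 19, 1, 14, 13, 0, 23, 18, 10, 12, 9, 11, 7, 2, 20, 6, 16, 15, 4, 8, 22, 3, 5]]

theorem OM_ok : ∀ m ∈ OM, isOct m = true ∧ m < 2 ^ 24 := by decide +kernel
theorem OM_nodup : OM.Nodup := by decide +kernel
theorem OM_disj : ∀ m ∈ OM, ∀ n ∈ OM, m ≠ n → m &&& n = 0 := by decide +kernel
theorem tm_ok : ∀ m ∈ tm, popc m = 4 ∧ m < 2 ^ 24 ∧ m.testBit 23 = true := by decide +kernel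
theorem cm_ok : ∀ m ∈ cm, isCode m = true ∧ m < 2 ^ 24 := by decide +kernel
theorem dual_ok : ∀ i < 3, ∀ j < 3, popc (tm.getD i 0 &&& cm.getD j 0) % 2 = if i = j then 1 else 0 := by
  decide +kernel
theorem wit_ok : ∀ i < 3, isOct (wit.getD i 0) = true ∧ wit.getD i 0 < 2 ^ 24 ∧
    wit.getD i 0 &&& OM.getD 0 0 = tm.getD i 0 ∧ popc (wit.getD i 0 &&& OM.getD 1 0) = 4 := by decide +kernel
theorem wt4 : ∀ a < 4096, popc (enc B12 a) % 4 = 0 := by decide +kernel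
theorem KF : ∀ a < 4096, (!(popc (enc B12 a) == 8) || OM.all fun O => OM.all fun O' =>
    !(O != O' && popc (enc B12 a &&& O) == 4 && popc (enc B12 a &&& O') == 4) || isCmb (enc B12 a &&& O)) = true := by
  decide +kernel
theorem U1_ok : ∀ c ∈ U1, inM24 c = true ∧ presT c = true := by decide +kernel
theorem U1_cov : ∀ j < 24, (OM.getD 0 0).testBit j = true → ∃ c ∈ U1, c.getD 23 0 = j := by decide +kernel
theorem U2_ok : ∀ c ∈ U2, inM24 c = true ∧ presT c = true ∧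
    ∀ j < 24, (OM.getD 0 0).testBit j = true → c.getD j 0 = j := by decide +kernel
theorem U2_cov : ∀ j < 24, (OM.getD 1 0).testBit j = true → ∃ c ∈ U2, c.getD 3 0 = j := by decide +kernel
theorem p2_mem : (OM.getD 1 0).testBit 3 = true ∧ (OM.getD 0 0).testBit 3 = false ∧
    (OM.getD 0 0).testBit 23 = true := by decide +kernel
theorem sep : ∀ j < 24, ∀ k < 24, (OM.getD 0 0).testBit j = true → (OM.getD 0 0).testBit k = true →
    (∀ m ∈ tm, m.testBit j = m.testBit k) → j = k := by decide +kernel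
theorem sq_one : ∀ a ∈ U1, ∀ b ∈ U2, comp (comp a b) (comp a b) = idT := by decide +kernel
theorem SW_ok : ∀ c ∈ SW, inM24 c = true := by decide +kernel
theorem SW_cov : ∀ m ∈ OM, ∀ n ∈ OM, m ≠ n → ∃ c ∈ SW, img c m = n ∧ img c n = m ∧
    ∀ r ∈ OM, r ≠ m → r ≠ n → img c r = r := by decide +kernel

end Cfsg.Agent.Lib.Helper3.TrioStab
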